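import Cfsg.Agent.H65.Inv.Z.Heis
import Cfsg.Agent.H65.Inv.Final
import Cfsg.Agent.H46.TypeE8

/-!
The chain of radicals of type E8 (generated data).
-/

set_option autoImplicit false
set_option maxRecDepth 100000

open Cfsg.Lie Cfsg.Agent.H46

namespace Cfsg.Agent.H65.Inv.E8

/-- The exchange of orthogonal sets. -/
def swap : Swap := ⟨[121, 126, 135, 226], [126, 135, 226], [176, 64, 61, 54]⟩

/-- The roots below level zero. -/
def P0 : List ℕ := []

/-- The sets at the start. -/
def L0 : List (List ℕ) := [[]]

/-- The radical of level 0. -/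
def Q0 : List ℕ := [162]

/-- The roots below level 1. -/
def P1 : List ℕ := P0 ++ Q0

/-- The sets after level 0. -/
def L1 : List (List ℕ) := [[], [162]]

/-- The radical of level 1. -/
def Q1 : List ℕ := [135, 163]

/-- The roots below level 2. -/
def P2 : List ℕ := P1 ++ Q1

/-- The sets after level 1. -/
def L2 : List (List ℕ) := [[], [163]]

/-- The radical of level 2. -/
def Q2 : List ℕ := [130, 136, 164]

/-- The roots below level 3. -/
def P3 : List ℕ := P2 ++ Q2

/-- The sets after level 2. -/
def L3 : List (List ℕ) := [[], [164], [164, 135]]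

/-- The radical of level 3. -/
def Q3 : List ℕ := [126, 131, 137, 165]

/-- The roots below level 4. -/
def P4 : List ℕ := P3 ++ Q3

/-- The sets after level 3. -/
def L4 : List (List ℕ) := [[], [165], [165, 136]]

/-- The radical of level 4. -/
def Q4 : List ℕ := [141, 142, 143, 147, 148, 152, 169, 170, 174, 184]

/-- The roots below level 5. -/
def P5 : List ℕ := P4 ++ Q4

/-- The sets after level 4. -/
def L5 : List (List ℕ) := [[], [184], [184, 143], [184, 162, 143], [184, 162], [184, 162, 143, 130]]

/-- The radical of level 5. -/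
def Q5 : List ℕ := [123, 127, 132, 138, 144, 149, 153, 156, 166, 171, 175, 178, 185, 188, 194, 204]

/-- The roots below level 6. -/
def P6 : List ℕ := P5 ++ Q5

/-- The sets after level 5. -/
def L6 : List (List ℕ) := [[], [204], [204, 166], [204, 166, 137], [204, 166, 137, 130]]

/-- The radical of level 6. -/
def Q6 : List ℕ := [121, 124, 128, 133, 139, 145, 150, 154, 157, 159, 167, 172, 176, 179, 181, 186, 189, 191, 195, 197, 200, 205, 207, 210, 214, 219, 226]

/-- The roots below level 7. -/
def P7 : List ℕ := P6 ++ Q6

/-- The sets after level 6. -/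
def L7 : List (List ℕ) := [[], [226], [226, 159], [226, 159, 121], [226, 159, 152], [226, 159, 152, 141]]

/-- The top radical without the last root. -/
def Q7 : List ℕ := [120, 122, 125, 129, 134, 140, 146, 151, 155, 158, 160, 161, 168, 173, 177, 180, 182, 183, 187, 190, 192, 193, 196, 198, 199, 201, 202, 203, 206, 208, 209, 211, 212, 213, 215, 216, 217, 218, 220, 221, 222, 223, 224, 225, 227, 228, 229, 230, 231, 232, 233, 234, 235, 236, 237, 238]

/-- All positive roots. -/
def P8 : List ℕ := P7 ++ (Q7 ++ [Z.zr chevE8])

/-- The classes. -/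
def L8 : List (List ℕ) := [[], [239], [232, 233], [228, 222, 218], [226, 220, 213, 216]]

end Cfsg.Agent.H65.Inv.E8
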