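import Cfsg.Agent.H65.Inv.E8.Base

/-!
Checks of level 3 of type E8 (generated data).
-/

set_option autoImplicit false
set_option maxRecDepth 100000

open Cfsg.Lie Cfsg.Agent.H46

namespace Cfsg.Agent.H65.Inv.E8

theorem rad3 : radOk goodE8 P3 Q3 = true := by decide +kernel

theorem set3_0 : setOk goodE8 swap P3 Q3 L4 [] [[], [3, 2, 0], [2, 0], [0], []] = true := by decide +kernel

theorem set3_1 : setOk goodE8 swap P3 Q3 L4 [164] [[4], [4, 2], [4]] = true := by decide +kernel

theorem set3_2 : setOk goodE8 swap P3 Q3 L4 [164, 135] [[4, 3]] = true := by decide +kernel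

end Cfsg.Agent.H65.Inv.E8
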