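import Cfsg.Agent.H65.Inv.E8.Base

/-!
Checks of level 4 of type E8 (generated data).
-/

set_option autoImplicit false
set_option maxRecDepth 100000

open Cfsg.Lie Cfsg.Agent.H46

namespace Cfsg.Agent.H65.Inv.E8

theorem rad4 : radOk goodE8 P4 Q4 = true := by decide +kernel

theorem set4_0 : setOk goodE8 swap P4 Q4 L5 [] [[], [3, 2, 0, 4, 3, 2], [3, 2, 0, 4, 3, 2, 3, 4], [3, 2, 0, 4, 3, 2, 4], [3, 2, 0, 4, 3, 2], [2, 0, 4, 3, 2], [2, 0, 4, 3, 2, 3, 4], [2, 0, 4, 3, 2, 4], [2, 0, 4, 3, 2], [2, 0, 3, 2], [2, 0, 3, 2, 3, 4], [2, 0, 3, 2, 4], [2, 0, 3, 2], [0, 4, 3, 2], [0, 4, 3, 2, 3, 4], [0, 4, 3, 2, 4], [0, 4, 3, 2], [0, 3, 2], [0, 3, 2, 3, 4], [0, 3, 2, 4], [0, 3, 2], [0, 2], [0, 2, 3, 4], [0, 2, 4], [0, 2], [4, 3, 2], [4, 3, 2, 3, 4], [4, 3, 2, 4], [4, 3, 2], [3, 2], [3, 2, 3, 4], [3, 2, 4], [3, 2], [2],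 [2, 3, 4], [2, 4], [2], [], [3, 4], [4], []] = true := by decide +kernel

theorem set4_1 : setOk goodE8 swap P4 Q4 L5 [165] [[1, 3, 2], [1, 3, 2, 3, 1], [1, 3, 2, 3, 1], [1, 3, 2, 1], [1, 3, 2, 1], [1, 3, 2], [1, 3, 2], [1, 3, 2], [1, 3, 2, 3, 1], [1, 3, 2, 1], [1, 3, 2]] = true := by decide +kernel

theorem set4_2 : setOk goodE8 swap P4 Q4 L5 [165, 136] [[1, 3, 2, 4], [1, 3, 2, 4, 2, 3, 0, 2], [1, 3, 2, 4], [1, 3, 2, 4], [1, 3, 2, 4]] = true := by decide +kernel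

end Cfsg.Agent.H65.Inv.E8
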