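import Cfsg.Agent.H65.Inv.E8.Base

/-!
Checks of level 5 of type E8 (generated data).
-/

set_option autoImplicit false
set_option maxRecDepth 100000

open Cfsg.Lie Cfsg.Agent.H46

namespace Cfsg.Agent.H65.Inv.E8

theorem rad5 : radOk goodE8 P5 Q5 = true := by decide +kernel

theorem set5_0 : setOk goodE8 swap P5 Q5 L6 [] [[], [4, 3, 2, 0, 1, 3, 2, 4, 3, 1], [4, 3, 2, 0, 1, 3, 2, 4, 3, 1, 4, 3, 2, 0], [4, 3, 2, 0, 1, 3, 2, 4, 3, 1, 3, 2, 0], [4, 3, 2, 0, 1, 3, 2, 4, 3, 1, 2, 0], [4, 3, 2, 0, 1, 3, 2, 4, 3, 1, 0], [4, 3, 2, 0, 1, 3, 2, 4, 3, 1], [3, 2, 0, 1, 3, 2, 4, 3, 1], [3, 2, 0, 1, 3, 2, 4, 3, 1, 4, 3, 2, 0], [3, 2, 0, 1, 3, 2, 4, 3, 1, 3, 2, 0], [3, 2, 0, 1, 3, 2, 4, 3, 1, 2, 0], [3, 2, 0, 1, 3, 2, 4,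 3, 1, 0], [3, 2, 0, 1, 3, 2, 4, 3, 1], [2, 0, 1, 3, 2, 4, 3, 1], [2, 0, 1, 3, 2, 4, 3, 1, 4, 3, 2, 0], [2, 0, 1, 3, 2, 4, 3, 1, 3, 2, 0], [2, 0, 1, 3, 2, 4, 3, 1, 2, 0], [2, 0, 1, 3, 2, 4, 3, 1, 0], [2, 0, 1, 3, 2, 4, 3, 1], [0, 1, 3, 2, 4, 3, 1], [0, 1, 3, 2, 4, 3, 1, 4, 3, 2, 0], [0, 1, 3, 2, 4, 3, 1, 3, 2, 0], [0, 1, 3, 2, 4, 3, 1, 2, 0], [0, 1, 3, 2, 4, 3, 1, 0], [0, 1, 3, 2, 4, 3, 1], [2, 0, 3, 2, 4, 3, 1], [2, 0, 3, 2, 4, 3, 1, 4, 3, 2, 0], [2, 0, 3, 2, 4, 3, 1, 3, 2, 0], [2, 0, 3, 2, 4, 3, 1, 2, 0], [2, 0, 3, 2, 4, 3, 1, 0], [2, 0, 3, 2, 4, 3, 1], [0, 3, 2, 4, 3, 1], [0, 3, 2, 4, 3, 1, 4, 3, 2, 0], [0, 3, 2, 4, 3, 1, 3, 2, 0], [0, 3, 2, 4, 3, 1, 2, 0], [0, 3, 2, 4, 3, 1, 0], [0, 3, 2, 4, 3, 1], [0,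 2, 4, 3, 1], [0, 2, 4, 3, 1, 4, 3, 2, 0], [0, 2, 4, 3, 1, 3, 2, 0], [0, 2, 4, 3, 1, 2, 0], [0, 2, 4, 3, 1, 0], [0, 2, 4, 3, 1], [0, 2, 3, 1], [0, 2, 3, 1, 4, 3, 2, 0], [0, 2, 3, 1, 3, 2, 0], [0, 2, 3, 1, 2, 0], [0, 2, 3, 1, 0], [0, 2, 3, 1], [1, 3, 2, 4, 3, 1], [1, 3, 2, 4, 3, 1, 4, 3, 2, 0], [1, 3, 2, 4, 3, 1, 3, 2, 0], [1, 3, 2, 4, 3, 1, 2, 0], [1, 3, 2, 4, 3, 1, 0], [1, 3, 2, 4, 3, 1], [3, 2, 4, 3, 1], [3, 2, 4, 3, 1, 4, 3, 2, 0], [3, 2, 4, 3, 1, 3, 2, 0], [3, 2, 4, 3, 1, 2, 0], [3, 2, 4, 3, 1, 0], [3, 2, 4, 3, 1], [2, 4, 3, 1], [2, 4, 3, 1, 4, 3, 2, 0], [2, 4, 3, 1, 3, 2, 0], [2, 4, 3, 1, 2, 0], [2, 4, 3, 1, 0], [2, 4, 3, 1], [2, 3, 1], [2, 3, 1, 4, 3, 2, 0], [2, 3, 1, 3, 2, 0], [2, 3, 1, 2, 0], [2, 3,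 1, 0], [2, 3, 1], [4, 3, 1], [4, 3, 1, 4, 3, 2, 0], [4, 3, 1, 3, 2, 0], [4, 3, 1, 2, 0], [4, 3, 1, 0], [4, 3, 1], [3, 1], [3, 1, 4, 3, 2, 0], [3, 1, 3, 2, 0], [3, 1, 2, 0], [3, 1, 0], [3, 1], [1], [1, 4, 3, 2, 0], [1, 3, 2, 0], [1, 2, 0], [1, 0], [1], [], [4, 3, 2, 0], [3, 2, 0], [2, 0], [0], []] = true := by decide +kernel

theorem set5_1 : setOk goodE8 swap P5 Q5 L6 [184] [[5, 4, 3, 1], [5, 4, 3, 1, 0, 3, 4, 5], [5, 4, 3, 1, 0, 3, 4, 5, 3, 4], [5, 4, 3, 1, 0, 3, 4, 5, 4], [5, 4, 3, 1, 0, 3, 4, 5], [5, 4, 3, 1, 0, 4, 5], [5, 4, 3, 1, 0, 4, 5, 3, 4], [5, 4, 3, 1, 0, 4, 5, 4], [5, 4, 3, 1, 0, 4, 5], [5, 4, 3, 1, 0, 5], [5, 4, 3, 1, 0, 5, 3, 4], [5, 4, 3, 1, 0, 5, 4], [5, 4, 3, 1, 0, 5], [5, 4, 3, 1, 0], [5,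 4, 3, 1, 0, 3, 4], [5, 4, 3, 1, 0, 4], [5, 4, 3, 1, 0], [5, 4, 3, 1, 3, 4, 5], [5, 4, 3, 1, 3, 4, 5, 3, 4], [5, 4, 3, 1, 3, 4, 5, 4], [5, 4, 3, 1, 3, 4, 5], [5, 4, 3, 1, 4, 5], [5, 4, 3, 1, 4, 5, 3, 4], [5, 4, 3, 1, 4, 5, 4], [5, 4, 3, 1, 4, 5], [5, 4, 3, 1, 5], [5, 4, 3, 1, 5, 3, 4], [5, 4, 3, 1, 5, 4], [5, 4, 3, 1, 5], [5, 4, 3, 1], [5, 4, 3, 1, 3, 4], [5, 4, 3, 1, 4], [5, 4, 3, 1]] = true := by decide +kernel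

theorem set5_2 : setOk goodE8 swap P5 Q5 L6 [184, 143] [[5, 4, 3, 1, 2, 0], [5, 4, 3, 1, 2, 0, 2, 4], [5, 4, 3, 1, 2, 0, 2, 4], [5, 4, 3, 1, 2, 0, 2], [5, 4, 3, 1, 2, 0, 2], [5, 4, 3, 1, 2, 0, 4], [5, 4, 3, 1, 2, 0, 4], [5, 4, 3, 1, 2, 0], [5, 4, 3, 1, 2, 0]] = true := by decide +kernel

theorem set5_3 : setOk goodE8 swap P5 Q5 L6 [184, 162, 143] [[5, 4, 3, 1, 2, 3, 4, 5]] = true := by decide +kernel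

theorem set5_4 : setOk goodE8 swap P5 Q5 L6 [184, 162] [[5, 4, 3, 1, 2, 3, 4, 5]] = true := by decide +kernel

theorem set5_5 : setOk goodE8 swap P5 Q5 L6 [184, 162, 143, 130] [[5, 4, 3, 1, 2, 3, 4, 5]] = true := by decide +kernel

end Cfsg.Agent.H65.Inv.E8
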