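import Cfsg.Agent.H65.Inv.E8.Base

/-!
Checks of level 6 of type E8 (generated data).
-/

set_option autoImplicit false
set_option maxRecDepth 100000

open Cfsg.Lie Cfsg.Agent.H46

namespace Cfsg.Agent.H65.Inv.E8

theorem rad6 : radOk goodE8 P6 Q6 = true := by decide +kernel

theorem set6_0 : setOk goodE8 swap P6 Q6 L7 [] [[], [5, 4, 3, 2, 0, 1, 3, 2, 4, 3, 1, 5, 4, 3, 2, 0], [5, 4, 3, 2, 0, 1, 3, 2, 4, 3, 1, 5, 4, 3, 2, 0, 5, 4, 3, 2, 1, 3, 4, 5], [5, 4, 3, 2, 0, 1, 3, 2, 4, 3, 1, 5, 4, 3, 2, 0, 5, 4, 3, 2, 1, 3, 4, 5], [5, 4, 3, 2, 0, 1, 3, 2, 4, 3, 1, 5, 4, 3, 2, 0, 4, 3, 2, 1, 3, 4, 5], [5, 4, 3, 2, 0, 1, 3, 2, 4, 3,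 1, 5, 4, 3, 2, 0, 4, 3, 2, 1, 3, 4, 5], [5, 4, 3, 2, 0, 1, 3, 2, 4, 3, 1, 5, 4, 3, 2, 0, 3, 2, 1, 3, 4, 5], [5, 4, 3, 2, 0, 1, 3, 2, 4, 3, 1, 5, 4, 3, 2, 0, 3, 2, 1, 3, 4, 5], [5, 4, 3, 2, 0, 1, 3, 2, 4, 3, 1, 5, 4, 3, 2, 0, 2, 1, 3, 4, 5], [5, 4, 3, 2, 0, 1, 3, 2, 4, 3, 1, 5, 4, 3, 2, 0, 2, 1, 3, 4, 5], [5, 4, 3, 2, 0, 1, 3, 2, 4, 3, 1, 5, 4, 3, 2, 0, 2, 3, 4, 5], [5, 4, 3, 2, 0, 1, 3, 2, 4, 3, 1, 5, 4, 3, 2, 0, 2, 3, 4, 5], [5, 4, 3, 2, 0, 1, 3, 2, 4, 3, 1, 5, 4, 3, 2, 0, 1, 3, 4, 5], [5, 4, 3, 2, 0, 1, 3, 2, 4, 3, 1, 5, 4, 3, 2, 0, 1, 3, 4, 5], [5, 4, 3, 2, 0, 1, 3, 2, 4, 3, 1, 5, 4, 3, 2, 0, 3, 4, 5], [5, 4, 3, 2, 0,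 1, 3, 2, 4, 3, 1, 5, 4, 3, 2, 0, 3, 4, 5], [5, 4, 3, 2, 0, 1, 3, 2, 4, 3, 1, 5, 4, 3, 2, 0, 4, 5], [5, 4, 3, 2, 0, 1, 3, 2, 4, 3, 1, 5, 4, 3, 2, 0, 4, 5], [5, 4, 3, 2, 0, 1, 3, 2, 4, 3, 1, 5, 4, 3, 2, 0, 5], [5, 4, 3, 2, 0, 1, 3, 2, 4, 3, 1, 5, 4, 3, 2, 0, 5], [5, 4, 3, 2, 0, 1, 3, 2, 4, 3, 1, 5, 4, 3, 2, 0], [5, 4, 3, 2, 0, 1, 3, 2, 4, 3, 1, 5, 4, 3, 2, 0], [4, 3, 2, 0, 1, 3, 2, 4, 3, 1, 5, 4, 3, 2, 0], [4, 3, 2, 0, 1, 3, 2, 4, 3, 1, 5, 4, 3, 2, 0, 5, 4, 3, 2, 1, 3, 4, 5], [4, 3, 2, 0, 1, 3, 2, 4, 3, 1, 5, 4, 3, 2, 0, 5, 4, 3, 2, 1, 3, 4, 5], [4, 3, 2, 0, 1, 3, 2, 4, 3, 1, 5, 4, 3, 2, 0, 4, 3, 2, 1, 3, 4, 5], [4, 3, 2,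 0, 1, 3, 2, 4, 3, 1, 5, 4, 3, 2, 0, 4, 3, 2, 1, 3, 4, 5], [4, 3, 2, 0, 1, 3, 2, 4, 3, 1, 5, 4, 3, 2, 0, 3, 2, 1, 3, 4, 5], [4, 3, 2, 0, 1, 3, 2, 4, 3, 1, 5, 4, 3, 2, 0, 3, 2, 1, 3, 4, 5], [4, 3, 2, 0, 1, 3, 2, 4, 3, 1, 5, 4, 3, 2, 0, 2, 1, 3, 4, 5], [4, 3, 2, 0, 1, 3, 2, 4, 3, 1, 5, 4, 3, 2, 0, 2, 1, 3, 4, 5], [4, 3, 2, 0, 1, 3, 2, 4, 3, 1, 5, 4, 3, 2, 0, 2, 3, 4, 5], [4, 3, 2, 0, 1, 3, 2, 4, 3, 1, 5, 4, 3, 2, 0, 2, 3, 4, 5], [4, 3, 2, 0, 1, 3, 2, 4, 3, 1, 5, 4, 3, 2, 0, 1, 3, 4, 5], [4, 3, 2, 0, 1, 3, 2, 4, 3, 1, 5, 4, 3, 2, 0, 1, 3, 4, 5], [4, 3, 2, 0, 1, 3, 2, 4, 3, 1, 5, 4, 3, 2, 0, 3, 4, 5], [4, 3, 2, 0, 1, 3, 2, 4,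 3, 1, 5, 4, 3, 2, 0, 3, 4, 5], [4, 3, 2, 0, 1, 3, 2, 4, 3, 1, 5, 4, 3, 2, 0, 4, 5], [4, 3, 2, 0, 1, 3, 2, 4, 3, 1, 5, 4, 3, 2, 0, 4, 5], [4, 3, 2, 0, 1, 3, 2, 4, 3, 1, 5, 4, 3, 2, 0, 5], [4, 3, 2, 0, 1, 3, 2, 4, 3, 1, 5, 4, 3, 2, 0, 5], [4, 3, 2, 0, 1, 3, 2, 4, 3, 1, 5, 4, 3, 2, 0], [4, 3, 2, 0, 1, 3, 2, 4, 3, 1, 5, 4, 3, 2, 0], [3, 2, 0, 1, 3, 2, 4, 3, 1, 5, 4, 3, 2, 0], [3, 2, 0, 1, 3, 2, 4, 3, 1, 5, 4, 3, 2, 0, 5, 4, 3, 2, 1, 3, 4, 5], [3, 2, 0, 1, 3, 2, 4, 3, 1, 5, 4, 3, 2, 0, 5, 4, 3, 2, 1, 3, 4, 5], [3, 2, 0, 1, 3, 2, 4, 3, 1, 5, 4, 3, 2, 0, 4, 3, 2, 1, 3, 4, 5], [3, 2, 0, 1, 3, 2, 4, 3, 1, 5, 4, 3, 2, 0, 4, 3, 2,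 1, 3, 4, 5], [3, 2, 0, 1, 3, 2, 4, 3, 1, 5, 4, 3, 2, 0, 3, 2, 1, 3, 4, 5], [3, 2, 0, 1, 3, 2, 4, 3, 1, 5, 4, 3, 2, 0, 3, 2, 1, 3, 4, 5], [3, 2, 0, 1, 3, 2, 4, 3, 1, 5, 4, 3, 2, 0, 2, 1, 3, 4, 5], [3, 2, 0, 1, 3, 2, 4, 3, 1, 5, 4, 3, 2, 0, 2, 1, 3, 4, 5], [3, 2, 0, 1, 3, 2, 4, 3, 1, 5, 4, 3, 2, 0, 2, 3, 4, 5], [3, 2, 0, 1, 3, 2, 4, 3, 1, 5, 4, 3, 2, 0, 2, 3, 4, 5], [3, 2, 0, 1, 3, 2, 4, 3, 1, 5, 4, 3, 2, 0, 1, 3, 4, 5], [3, 2, 0, 1, 3, 2, 4, 3, 1, 5, 4, 3, 2, 0, 1, 3, 4, 5], [3, 2, 0, 1, 3, 2, 4, 3, 1, 5, 4, 3, 2, 0, 3, 4, 5], [3, 2, 0, 1, 3, 2, 4, 3, 1, 5, 4, 3, 2, 0, 3, 4, 5], [3, 2, 0, 1, 3, 2, 4, 3, 1, 5, 4, 3, 2, 0,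 4, 5], [3, 2, 0, 1, 3, 2, 4, 3, 1, 5, 4, 3, 2, 0, 4, 5], [3, 2, 0, 1, 3, 2, 4, 3, 1, 5, 4, 3, 2, 0, 5], [3, 2, 0, 1, 3, 2, 4, 3, 1, 5, 4, 3, 2, 0, 5], [3, 2, 0, 1, 3, 2, 4, 3, 1, 5, 4, 3, 2, 0], [3, 2, 0, 1, 3, 2, 4, 3, 1, 5, 4, 3, 2, 0], [2, 0, 1, 3, 2, 4, 3, 1, 5, 4, 3, 2, 0], [2, 0, 1, 3, 2, 4, 3, 1, 5, 4, 3, 2, 0, 5, 4, 3, 2, 1, 3, 4, 5], [2, 0, 1, 3, 2, 4, 3, 1, 5, 4, 3, 2, 0, 5, 4, 3, 2, 1, 3, 4, 5], [2, 0, 1, 3, 2, 4, 3, 1, 5, 4, 3, 2, 0, 4, 3, 2, 1, 3, 4, 5], [2, 0, 1, 3, 2, 4, 3, 1, 5, 4, 3, 2, 0, 4, 3, 2, 1, 3, 4, 5], [2, 0, 1, 3, 2, 4, 3, 1, 5, 4, 3, 2, 0, 3, 2, 1, 3, 4, 5], [2, 0, 1, 3, 2, 4, 3, 1, 5, 4, 3,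 2, 0, 3, 2, 1, 3, 4, 5], [2, 0, 1, 3, 2, 4, 3, 1, 5, 4, 3, 2, 0, 2, 1, 3, 4, 5], [2, 0, 1, 3, 2, 4, 3, 1, 5, 4, 3, 2, 0, 2, 1, 3, 4, 5], [2, 0, 1, 3, 2, 4, 3, 1, 5, 4, 3, 2, 0, 2, 3, 4, 5], [2, 0, 1, 3, 2, 4, 3, 1, 5, 4, 3, 2, 0, 2, 3, 4, 5], [2, 0, 1, 3, 2, 4, 3, 1, 5, 4, 3, 2, 0, 1, 3, 4, 5], [2, 0, 1, 3, 2, 4, 3, 1, 5, 4, 3, 2, 0, 1, 3, 4, 5], [2, 0, 1, 3, 2, 4, 3, 1, 5, 4, 3, 2, 0, 3, 4, 5], [2, 0, 1, 3, 2, 4, 3, 1, 5, 4, 3, 2, 0, 3, 4, 5], [2, 0, 1, 3, 2, 4, 3, 1, 5, 4, 3, 2, 0, 4, 5], [2, 0, 1, 3, 2, 4, 3, 1, 5, 4, 3, 2, 0, 4, 5], [2, 0, 1, 3, 2, 4, 3, 1, 5, 4, 3, 2, 0, 5], [2, 0, 1, 3, 2, 4, 3, 1, 5, 4, 3, 2, 0,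 5], [2, 0, 1, 3, 2, 4, 3, 1, 5, 4, 3, 2, 0], [2, 0, 1, 3, 2, 4, 3, 1, 5, 4, 3, 2, 0], [0, 1, 3, 2, 4, 3, 1, 5, 4, 3, 2, 0], [0, 1, 3, 2, 4, 3, 1, 5, 4, 3, 2, 0, 5, 4, 3, 2, 1, 3, 4, 5], [0, 1, 3, 2, 4, 3, 1, 5, 4, 3, 2, 0, 5, 4, 3, 2, 1, 3, 4, 5], [0, 1, 3, 2, 4, 3, 1, 5, 4, 3, 2, 0, 4, 3, 2, 1, 3, 4, 5], [0, 1, 3, 2, 4, 3, 1, 5, 4, 3, 2, 0, 4, 3, 2, 1, 3, 4, 5], [0, 1, 3, 2, 4, 3, 1, 5, 4, 3, 2, 0, 3, 2, 1, 3, 4, 5], [0, 1, 3, 2, 4, 3, 1, 5, 4, 3, 2, 0, 3, 2, 1, 3, 4, 5], [0, 1, 3, 2, 4, 3, 1, 5, 4, 3, 2, 0, 2, 1, 3, 4, 5], [0, 1, 3, 2, 4, 3, 1, 5, 4, 3, 2, 0, 2, 1, 3, 4, 5], [0, 1, 3, 2, 4, 3, 1, 5, 4, 3, 2, 0, 2, 3,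 4, 5], [0, 1, 3, 2, 4, 3, 1, 5, 4, 3, 2, 0, 2, 3, 4, 5], [0, 1, 3, 2, 4, 3, 1, 5, 4, 3, 2, 0, 1, 3, 4, 5], [0, 1, 3, 2, 4, 3, 1, 5, 4, 3, 2, 0, 1, 3, 4, 5], [0, 1, 3, 2, 4, 3, 1, 5, 4, 3, 2, 0, 3, 4, 5], [0, 1, 3, 2, 4, 3, 1, 5, 4, 3, 2, 0, 3, 4, 5], [0, 1, 3, 2, 4, 3, 1, 5, 4, 3, 2, 0, 4, 5], [0, 1, 3, 2, 4, 3, 1, 5, 4, 3, 2, 0, 4, 5], [0, 1, 3, 2, 4, 3, 1, 5, 4, 3, 2, 0, 5], [0, 1, 3, 2, 4, 3, 1, 5, 4, 3, 2, 0, 5], [0, 1, 3, 2, 4, 3, 1, 5, 4, 3, 2, 0], [0, 1, 3, 2, 4, 3, 1, 5, 4, 3, 2, 0], [2, 0, 3, 2, 4, 3, 1, 5, 4, 3, 2, 0], [2, 0, 3, 2, 4, 3, 1, 5, 4, 3, 2, 0, 5, 4, 3, 2, 1, 3, 4, 5], [2, 0, 3, 2, 4, 3, 1, 5, 4, 3,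 2, 0, 5, 4, 3, 2, 1, 3, 4, 5], [2, 0, 3, 2, 4, 3, 1, 5, 4, 3, 2, 0, 4, 3, 2, 1, 3, 4, 5], [2, 0, 3, 2, 4, 3, 1, 5, 4, 3, 2, 0, 4, 3, 2, 1, 3, 4, 5], [2, 0, 3, 2, 4, 3, 1, 5, 4, 3, 2, 0, 3, 2, 1, 3, 4, 5], [2, 0, 3, 2, 4, 3, 1, 5, 4, 3, 2, 0, 3, 2, 1, 3, 4, 5], [2, 0, 3, 2, 4, 3, 1, 5, 4, 3, 2, 0, 2, 1, 3, 4, 5], [2, 0, 3, 2, 4, 3, 1, 5, 4, 3, 2, 0, 2, 1, 3, 4, 5], [2, 0, 3, 2, 4, 3, 1, 5, 4, 3, 2, 0, 2, 3, 4, 5], [2, 0, 3, 2, 4, 3, 1, 5, 4, 3, 2, 0, 2, 3, 4, 5], [2, 0, 3, 2, 4, 3, 1, 5, 4, 3, 2, 0, 1, 3, 4, 5], [2, 0, 3, 2, 4, 3, 1, 5, 4, 3, 2, 0, 1, 3, 4, 5], [2, 0, 3, 2, 4, 3, 1, 5, 4, 3, 2, 0, 3, 4, 5], [2, 0, 3, 2,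 4, 3, 1, 5, 4, 3, 2, 0, 3, 4, 5], [2, 0, 3, 2, 4, 3, 1, 5, 4, 3, 2, 0, 4, 5], [2, 0, 3, 2, 4, 3, 1, 5, 4, 3, 2, 0, 4, 5], [2, 0, 3, 2, 4, 3, 1, 5, 4, 3, 2, 0, 5], [2, 0, 3, 2, 4, 3, 1, 5, 4, 3, 2, 0, 5], [2, 0, 3, 2, 4, 3, 1, 5, 4, 3, 2, 0], [2, 0, 3, 2, 4, 3, 1, 5, 4, 3, 2, 0], [0, 3, 2, 4, 3, 1, 5, 4, 3, 2, 0], [0, 3, 2, 4, 3, 1, 5, 4, 3, 2, 0, 5, 4, 3, 2, 1, 3, 4, 5], [0, 3, 2, 4, 3, 1, 5, 4, 3, 2, 0, 5, 4, 3, 2, 1, 3, 4, 5], [0, 3, 2, 4, 3, 1, 5, 4, 3, 2, 0, 4, 3, 2, 1, 3, 4, 5], [0, 3, 2, 4, 3, 1, 5, 4, 3, 2, 0, 4, 3, 2, 1, 3, 4, 5], [0, 3, 2, 4, 3, 1, 5, 4, 3, 2, 0, 3, 2, 1, 3, 4, 5], [0, 3, 2, 4, 3, 1, 5, 4, 3, 2,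 0, 3, 2, 1, 3, 4, 5], [0, 3, 2, 4, 3, 1, 5, 4, 3, 2, 0, 2, 1, 3, 4, 5], [0, 3, 2, 4, 3, 1, 5, 4, 3, 2, 0, 2, 1, 3, 4, 5], [0, 3, 2, 4, 3, 1, 5, 4, 3, 2, 0, 2, 3, 4, 5], [0, 3, 2, 4, 3, 1, 5, 4, 3, 2, 0, 2, 3, 4, 5], [0, 3, 2, 4, 3, 1, 5, 4, 3, 2, 0, 1, 3, 4, 5], [0, 3, 2, 4, 3, 1, 5, 4, 3, 2, 0, 1, 3, 4, 5], [0, 3, 2, 4, 3, 1, 5, 4, 3, 2, 0, 3, 4, 5], [0, 3, 2, 4, 3, 1, 5, 4, 3, 2, 0, 3, 4, 5], [0, 3, 2, 4, 3, 1, 5, 4, 3, 2, 0, 4, 5], [0, 3, 2, 4, 3, 1, 5, 4, 3, 2, 0, 4, 5], [0, 3, 2, 4, 3, 1, 5, 4, 3, 2, 0, 5], [0, 3, 2, 4, 3, 1, 5, 4, 3, 2, 0, 5], [0, 3, 2, 4, 3, 1, 5, 4, 3, 2, 0], [0, 3, 2, 4, 3, 1, 5, 4, 3, 2, 0], [0,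 2, 4, 3, 1, 5, 4, 3, 2, 0], [0, 2, 4, 3, 1, 5, 4, 3, 2, 0, 5, 4, 3, 2, 1, 3, 4, 5], [0, 2, 4, 3, 1, 5, 4, 3, 2, 0, 5, 4, 3, 2, 1, 3, 4, 5], [0, 2, 4, 3, 1, 5, 4, 3, 2, 0, 4, 3, 2, 1, 3, 4, 5], [0, 2, 4, 3, 1, 5, 4, 3, 2, 0, 4, 3, 2, 1, 3, 4, 5], [0, 2, 4, 3, 1, 5, 4, 3, 2, 0, 3, 2, 1, 3, 4, 5], [0, 2, 4, 3, 1, 5, 4, 3, 2, 0, 3, 2, 1, 3, 4, 5], [0, 2, 4, 3, 1, 5, 4, 3, 2, 0, 2, 1, 3, 4, 5], [0, 2, 4, 3, 1, 5, 4, 3, 2, 0, 2, 1, 3, 4, 5], [0, 2, 4, 3, 1, 5, 4, 3, 2, 0, 2, 3, 4, 5], [0, 2, 4, 3, 1, 5, 4, 3, 2, 0, 2, 3, 4, 5], [0, 2, 4, 3, 1, 5, 4, 3, 2, 0, 1, 3, 4, 5], [0, 2, 4, 3, 1, 5, 4, 3, 2, 0, 1, 3, 4, 5], [0, 2, 4, 3,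 1, 5, 4, 3, 2, 0, 3, 4, 5], [0, 2, 4, 3, 1, 5, 4, 3, 2, 0, 3, 4, 5], [0, 2, 4, 3, 1, 5, 4, 3, 2, 0, 4, 5], [0, 2, 4, 3, 1, 5, 4, 3, 2, 0, 4, 5], [0, 2, 4, 3, 1, 5, 4, 3, 2, 0, 5], [0, 2, 4, 3, 1, 5, 4, 3, 2, 0, 5], [0, 2, 4, 3, 1, 5, 4, 3, 2, 0], [0, 2, 4, 3, 1, 5, 4, 3, 2, 0], [0, 2, 3, 1, 5, 4, 3, 2, 0], [0, 2, 3, 1, 5, 4, 3, 2, 0, 5, 4, 3, 2, 1, 3, 4, 5], [0, 2, 3, 1, 5, 4, 3, 2, 0, 5, 4, 3, 2, 1, 3, 4, 5], [0, 2, 3, 1, 5, 4, 3, 2, 0, 4, 3, 2, 1, 3, 4, 5], [0, 2, 3, 1, 5, 4, 3, 2, 0, 4, 3, 2, 1, 3, 4, 5], [0, 2, 3, 1, 5, 4, 3, 2, 0, 3, 2, 1, 3, 4, 5], [0, 2, 3, 1, 5, 4, 3, 2, 0, 3, 2, 1, 3, 4, 5], [0, 2, 3, 1, 5, 4,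 3, 2, 0, 2, 1, 3, 4, 5], [0, 2, 3, 1, 5, 4, 3, 2, 0, 2, 1, 3, 4, 5], [0, 2, 3, 1, 5, 4, 3, 2, 0, 2, 3, 4, 5], [0, 2, 3, 1, 5, 4, 3, 2, 0, 2, 3, 4, 5], [0, 2, 3, 1, 5, 4, 3, 2, 0, 1, 3, 4, 5], [0, 2, 3, 1, 5, 4, 3, 2, 0, 1, 3, 4, 5], [0, 2, 3, 1, 5, 4, 3, 2, 0, 3, 4, 5], [0, 2, 3, 1, 5, 4, 3, 2, 0, 3, 4, 5], [0, 2, 3, 1, 5, 4, 3, 2, 0, 4, 5], [0, 2, 3, 1, 5, 4, 3, 2, 0, 4, 5], [0, 2, 3, 1, 5, 4, 3, 2, 0, 5], [0, 2, 3, 1, 5, 4, 3, 2, 0, 5], [0, 2, 3, 1, 5, 4, 3, 2, 0], [0, 2, 3, 1, 5, 4, 3, 2, 0], [0, 2, 3, 4, 1, 3, 2, 0], [0, 2, 3, 4, 1, 3, 2, 0, 5, 4, 3, 2, 1, 3, 4, 5], [0, 2, 3, 4, 1, 3, 2, 0, 5, 4, 3, 2, 1, 3, 4, 5],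 [0, 2, 3, 4, 1, 3, 2, 0, 4, 3, 2, 1, 3, 4, 5], [0, 2, 3, 4, 1, 3, 2, 0, 4, 3, 2, 1, 3, 4, 5], [0, 2, 3, 4, 1, 3, 2, 0, 3, 2, 1, 3, 4, 5], [0, 2, 3, 4, 1, 3, 2, 0, 3, 2, 1, 3, 4, 5], [0, 2, 3, 4, 1, 3, 2, 0, 2, 1, 3, 4, 5], [0, 2, 3, 4, 1, 3, 2, 0, 2, 1, 3, 4, 5], [0, 2, 3, 4, 1, 3, 2, 0, 2, 3, 4, 5], [0, 2, 3, 4, 1, 3, 2, 0, 2, 3, 4, 5], [0, 2, 3, 4, 1, 3, 2, 0, 1, 3, 4, 5], [0, 2, 3, 4, 1, 3, 2, 0, 1, 3, 4, 5], [0, 2, 3, 4, 1, 3, 2, 0, 3, 4, 5], [0, 2, 3, 4, 1, 3, 2, 0, 3, 4, 5], [0, 2, 3, 4, 1, 3, 2, 0, 4, 5], [0, 2, 3, 4, 1, 3, 2, 0, 4, 5], [0, 2, 3, 4, 1, 3, 2, 0, 5], [0, 2, 3, 4, 1, 3, 2, 0, 5], [0, 2, 3, 4, 1, 3,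 2, 0], [0, 2, 3, 4, 1, 3, 2, 0], [1, 3, 2, 4, 3, 1, 5, 4, 3, 2, 0], [1, 3, 2, 4, 3, 1, 5, 4, 3, 2, 0, 5, 4, 3, 2, 1, 3, 4, 5], [1, 3, 2, 4, 3, 1, 5, 4, 3, 2, 0, 5, 4, 3, 2, 1, 3, 4, 5], [1, 3, 2, 4, 3, 1, 5, 4, 3, 2, 0, 4, 3, 2, 1, 3, 4, 5], [1, 3, 2, 4, 3, 1, 5, 4, 3, 2, 0, 4, 3, 2, 1, 3, 4, 5], [1, 3, 2, 4, 3, 1, 5, 4, 3, 2, 0, 3, 2, 1, 3, 4, 5], [1, 3, 2, 4, 3, 1, 5, 4, 3, 2, 0, 3, 2, 1, 3, 4, 5], [1, 3, 2, 4, 3, 1, 5, 4, 3, 2, 0, 2, 1, 3, 4, 5], [1, 3, 2, 4, 3, 1, 5, 4, 3, 2, 0, 2, 1, 3, 4, 5], [1, 3, 2, 4, 3, 1, 5, 4, 3, 2, 0, 2, 3, 4, 5], [1, 3, 2, 4, 3, 1, 5, 4, 3, 2, 0, 2, 3, 4, 5], [1, 3, 2, 4, 3, 1, 5, 4, 3, 2,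 0, 1, 3, 4, 5], [1, 3, 2, 4, 3, 1, 5, 4, 3, 2, 0, 1, 3, 4, 5], [1, 3, 2, 4, 3, 1, 5, 4, 3, 2, 0, 3, 4, 5], [1, 3, 2, 4, 3, 1, 5, 4, 3, 2, 0, 3, 4, 5], [1, 3, 2, 4, 3, 1, 5, 4, 3, 2, 0, 4, 5], [1, 3, 2, 4, 3, 1, 5, 4, 3, 2, 0, 4, 5], [1, 3, 2, 4, 3, 1, 5, 4, 3, 2, 0, 5], [1, 3, 2, 4, 3, 1, 5, 4, 3, 2, 0, 5], [1, 3, 2, 4, 3, 1, 5, 4, 3, 2, 0], [1, 3, 2, 4, 3, 1, 5, 4, 3, 2, 0], [3, 2, 4, 3, 1, 5, 4, 3, 2, 0], [3, 2, 4, 3, 1, 5, 4, 3, 2, 0, 5, 4, 3, 2, 1, 3, 4, 5], [3, 2, 4, 3, 1, 5, 4, 3, 2, 0, 5, 4, 3, 2, 1, 3, 4, 5], [3, 2, 4, 3, 1, 5, 4, 3, 2, 0, 4, 3, 2, 1, 3, 4, 5], [3, 2, 4, 3, 1, 5, 4, 3, 2, 0, 4, 3, 2, 1, 3, 4, 5],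 [3, 2, 4, 3, 1, 5, 4, 3, 2, 0, 3, 2, 1, 3, 4, 5], [3, 2, 4, 3, 1, 5, 4, 3, 2, 0, 3, 2, 1, 3, 4, 5], [3, 2, 4, 3, 1, 5, 4, 3, 2, 0, 2, 1, 3, 4, 5], [3, 2, 4, 3, 1, 5, 4, 3, 2, 0, 2, 1, 3, 4, 5], [3, 2, 4, 3, 1, 5, 4, 3, 2, 0, 2, 3, 4, 5], [3, 2, 4, 3, 1, 5, 4, 3, 2, 0, 2, 3, 4, 5], [3, 2, 4, 3, 1, 5, 4, 3, 2, 0, 1, 3, 4, 5], [3, 2, 4, 3, 1, 5, 4, 3, 2, 0, 1, 3, 4, 5], [3, 2, 4, 3, 1, 5, 4, 3, 2, 0, 3, 4, 5], [3, 2, 4, 3, 1, 5, 4, 3, 2, 0, 3, 4, 5], [3, 2, 4, 3, 1, 5, 4, 3, 2, 0, 4, 5], [3, 2, 4, 3, 1, 5, 4, 3, 2, 0, 4, 5], [3, 2, 4, 3, 1, 5, 4, 3, 2, 0, 5], [3, 2, 4, 3, 1, 5, 4, 3, 2, 0, 5], [3, 2, 4, 3, 1, 5, 4, 3, 2, 0],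 [3, 2, 4, 3, 1, 5, 4, 3, 2, 0], [2, 4, 3, 1, 5, 4, 3, 2, 0], [2, 4, 3, 1, 5, 4, 3, 2, 0, 5, 4, 3, 2, 1, 3, 4, 5], [2, 4, 3, 1, 5, 4, 3, 2, 0, 5, 4, 3, 2, 1, 3, 4, 5], [2, 4, 3, 1, 5, 4, 3, 2, 0, 4, 3, 2, 1, 3, 4, 5], [2, 4, 3, 1, 5, 4, 3, 2, 0, 4, 3, 2, 1, 3, 4, 5], [2, 4, 3, 1, 5, 4, 3, 2, 0, 3, 2, 1, 3, 4, 5], [2, 4, 3, 1, 5, 4, 3, 2, 0, 3, 2, 1, 3, 4, 5], [2, 4, 3, 1, 5, 4, 3, 2, 0, 2, 1, 3, 4, 5], [2, 4, 3, 1, 5, 4, 3, 2, 0, 2, 1, 3, 4, 5], [2, 4, 3, 1, 5, 4, 3, 2, 0, 2, 3, 4, 5], [2, 4, 3, 1, 5, 4, 3, 2, 0, 2, 3, 4, 5], [2, 4, 3, 1, 5, 4, 3, 2, 0, 1, 3, 4, 5], [2, 4, 3, 1, 5, 4, 3, 2, 0, 1, 3, 4, 5], [2, 4, 3, 1, 5,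 4, 3, 2, 0, 3, 4, 5], [2, 4, 3, 1, 5, 4, 3, 2, 0, 3, 4, 5], [2, 4, 3, 1, 5, 4, 3, 2, 0, 4, 5], [2, 4, 3, 1, 5, 4, 3, 2, 0, 4, 5], [2, 4, 3, 1, 5, 4, 3, 2, 0, 5], [2, 4, 3, 1, 5, 4, 3, 2, 0, 5], [2, 4, 3, 1, 5, 4, 3, 2, 0], [2, 4, 3, 1, 5, 4, 3, 2, 0], [2, 3, 1, 5, 4, 3, 2, 0], [2, 3, 1, 5, 4, 3, 2, 0, 5, 4, 3, 2, 1, 3, 4, 5], [2, 3, 1, 5, 4, 3, 2, 0, 5, 4, 3, 2, 1, 3, 4, 5], [2, 3, 1, 5, 4, 3, 2, 0, 4, 3, 2, 1, 3, 4, 5], [2, 3, 1, 5, 4, 3, 2, 0, 4, 3, 2, 1, 3, 4, 5], [2, 3, 1, 5, 4, 3, 2, 0, 3, 2, 1, 3, 4, 5], [2, 3, 1, 5, 4, 3, 2, 0, 3, 2, 1, 3, 4, 5], [2, 3, 1, 5, 4, 3, 2, 0, 2, 1, 3, 4, 5], [2, 3, 1, 5, 4, 3, 2, 0, 2,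 1, 3, 4, 5], [2, 3, 1, 5, 4, 3, 2, 0, 2, 3, 4, 5], [2, 3, 1, 5, 4, 3, 2, 0, 2, 3, 4, 5], [2, 3, 1, 5, 4, 3, 2, 0, 1, 3, 4, 5], [2, 3, 1, 5, 4, 3, 2, 0, 1, 3, 4, 5], [2, 3, 1, 5, 4, 3, 2, 0, 3, 4, 5], [2, 3, 1, 5, 4, 3, 2, 0, 3, 4, 5], [2, 3, 1, 5, 4, 3, 2, 0, 4, 5], [2, 3, 1, 5, 4, 3, 2, 0, 4, 5], [2, 3, 1, 5, 4, 3, 2, 0, 5], [2, 3, 1, 5, 4, 3, 2, 0, 5], [2, 3, 1, 5, 4, 3, 2, 0], [2, 3, 1, 5, 4, 3, 2, 0], [2, 3, 4, 1, 3, 2, 0], [2, 3, 4, 1, 3, 2, 0, 5, 4, 3, 2, 1, 3, 4, 5], [2, 3, 4, 1, 3, 2, 0, 5, 4, 3, 2, 1, 3, 4, 5], [2, 3, 4, 1, 3, 2, 0, 4, 3, 2, 1, 3, 4, 5], [2, 3, 4, 1, 3, 2, 0, 4, 3, 2, 1, 3, 4, 5], [2, 3, 4, 1,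 3, 2, 0, 3, 2, 1, 3, 4, 5], [2, 3, 4, 1, 3, 2, 0, 3, 2, 1, 3, 4, 5], [2, 3, 4, 1, 3, 2, 0, 2, 1, 3, 4, 5], [2, 3, 4, 1, 3, 2, 0, 2, 1, 3, 4, 5], [2, 3, 4, 1, 3, 2, 0, 2, 3, 4, 5], [2, 3, 4, 1, 3, 2, 0, 2, 3, 4, 5], [2, 3, 4, 1, 3, 2, 0, 1, 3, 4, 5], [2, 3, 4, 1, 3, 2, 0, 1, 3, 4, 5], [2, 3, 4, 1, 3, 2, 0, 3, 4, 5], [2, 3, 4, 1, 3, 2, 0, 3, 4, 5], [2, 3, 4, 1, 3, 2, 0, 4, 5], [2, 3, 4, 1, 3, 2, 0, 4, 5], [2, 3, 4, 1, 3, 2, 0, 5], [2, 3, 4, 1, 3, 2, 0, 5], [2, 3, 4, 1, 3, 2, 0], [2, 3, 4, 1, 3, 2, 0], [4, 3, 1, 5, 4, 3, 2, 0], [4, 3, 1, 5, 4, 3, 2, 0, 5, 4, 3, 2, 1, 3, 4, 5], [4, 3, 1, 5, 4, 3, 2, 0, 5, 4, 3, 2, 1, 3, 4,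 5], [4, 3, 1, 5, 4, 3, 2, 0, 4, 3, 2, 1, 3, 4, 5], [4, 3, 1, 5, 4, 3, 2, 0, 4, 3, 2, 1, 3, 4, 5], [4, 3, 1, 5, 4, 3, 2, 0, 3, 2, 1, 3, 4, 5], [4, 3, 1, 5, 4, 3, 2, 0, 3, 2, 1, 3, 4, 5], [4, 3, 1, 5, 4, 3, 2, 0, 2, 1, 3, 4, 5], [4, 3, 1, 5, 4, 3, 2, 0, 2, 1, 3, 4, 5], [4, 3, 1, 5, 4, 3, 2, 0, 2, 3, 4, 5], [4, 3, 1, 5, 4, 3, 2, 0, 2, 3, 4, 5], [4, 3, 1, 5, 4, 3, 2, 0, 1, 3, 4, 5], [4, 3, 1, 5, 4, 3, 2, 0, 1, 3, 4, 5], [4, 3, 1, 5, 4, 3, 2, 0, 3, 4, 5], [4, 3, 1, 5, 4, 3, 2, 0, 3, 4, 5], [4, 3, 1, 5, 4, 3, 2, 0, 4, 5], [4, 3, 1, 5, 4, 3, 2, 0, 4, 5], [4, 3, 1, 5, 4, 3, 2, 0, 5], [4, 3, 1, 5, 4, 3, 2, 0, 5], [4, 3, 1, 5, 4,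 3, 2, 0], [4, 3, 1, 5, 4, 3, 2, 0], [3, 1, 5, 4, 3, 2, 0], [3, 1, 5, 4, 3, 2, 0, 5, 4, 3, 2, 1, 3, 4, 5], [3, 1, 5, 4, 3, 2, 0, 5, 4, 3, 2, 1, 3, 4, 5], [3, 1, 5, 4, 3, 2, 0, 4, 3, 2, 1, 3, 4, 5], [3, 1, 5, 4, 3, 2, 0, 4, 3, 2, 1, 3, 4, 5], [3, 1, 5, 4, 3, 2, 0, 3, 2, 1, 3, 4, 5], [3, 1, 5, 4, 3, 2, 0, 3, 2, 1, 3, 4, 5], [3, 1, 5, 4, 3, 2, 0, 2, 1, 3, 4, 5], [3, 1, 5, 4, 3, 2, 0, 2, 1, 3, 4, 5], [3, 1, 5, 4, 3, 2, 0, 2, 3, 4, 5], [3, 1, 5, 4, 3, 2, 0, 2, 3, 4, 5], [3, 1, 5, 4, 3, 2, 0, 1, 3, 4, 5], [3, 1, 5, 4, 3, 2, 0, 1, 3, 4, 5], [3, 1, 5, 4, 3, 2, 0, 3, 4, 5], [3, 1, 5, 4, 3, 2, 0, 3, 4, 5], [3, 1, 5, 4, 3, 2, 0, 4,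 5], [3, 1, 5, 4, 3, 2, 0, 4, 5], [3, 1, 5, 4, 3, 2, 0, 5], [3, 1, 5, 4, 3, 2, 0, 5], [3, 1, 5, 4, 3, 2, 0], [3, 1, 5, 4, 3, 2, 0], [3, 4, 1, 3, 2, 0], [3, 4, 1, 3, 2, 0, 5, 4, 3, 2, 1, 3, 4, 5], [3, 4, 1, 3, 2, 0, 5, 4, 3, 2, 1, 3, 4, 5], [3, 4, 1, 3, 2, 0, 4, 3, 2, 1, 3, 4, 5], [3, 4, 1, 3, 2, 0, 4, 3, 2, 1, 3, 4, 5], [3, 4, 1, 3, 2, 0, 3, 2, 1, 3, 4, 5], [3, 4, 1, 3, 2, 0, 3, 2, 1, 3, 4, 5], [3, 4, 1, 3, 2, 0, 2, 1, 3, 4, 5], [3, 4, 1, 3, 2, 0, 2, 1, 3, 4, 5], [3, 4, 1, 3, 2, 0, 2, 3, 4, 5], [3, 4, 1, 3, 2, 0, 2, 3, 4, 5], [3, 4, 1, 3, 2, 0, 1, 3, 4, 5], [3, 4, 1, 3, 2, 0, 1, 3, 4, 5], [3, 4, 1, 3, 2, 0, 3, 4, 5], [3,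 4, 1, 3, 2, 0, 3, 4, 5], [3, 4, 1, 3, 2, 0, 4, 5], [3, 4, 1, 3, 2, 0, 4, 5], [3, 4, 1, 3, 2, 0, 5], [3, 4, 1, 3, 2, 0, 5], [3, 4, 1, 3, 2, 0], [3, 4, 1, 3, 2, 0], [1, 5, 4, 3, 2, 0], [1, 5, 4, 3, 2, 0, 5, 4, 3, 2, 1, 3, 4, 5], [1, 5, 4, 3, 2, 0, 5, 4, 3, 2, 1, 3, 4, 5], [1, 5, 4, 3, 2, 0, 4, 3, 2, 1, 3, 4, 5], [1, 5, 4, 3, 2, 0, 4, 3, 2, 1, 3, 4, 5], [1, 5, 4, 3, 2, 0, 3, 2, 1, 3, 4, 5], [1, 5, 4, 3, 2, 0, 3, 2, 1, 3, 4, 5], [1, 5, 4, 3, 2, 0, 2, 1, 3, 4, 5], [1, 5, 4, 3, 2, 0, 2, 1, 3, 4, 5], [1, 5, 4, 3, 2, 0, 2, 3, 4, 5], [1, 5, 4, 3, 2, 0, 2, 3, 4, 5], [1, 5, 4, 3, 2, 0, 1, 3, 4, 5], [1, 5, 4, 3, 2, 0, 1, 3, 4, 5],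 [1, 5, 4, 3, 2, 0, 3, 4, 5], [1, 5, 4, 3, 2, 0, 3, 4, 5], [1, 5, 4, 3, 2, 0, 4, 5], [1, 5, 4, 3, 2, 0, 4, 5], [1, 5, 4, 3, 2, 0, 5], [1, 5, 4, 3, 2, 0, 5], [1, 5, 4, 3, 2, 0], [1, 5, 4, 3, 2, 0], [4, 1, 3, 2, 0], [4, 1, 3, 2, 0, 5, 4, 3, 2, 1, 3, 4, 5], [4, 1, 3, 2, 0, 5, 4, 3, 2, 1, 3, 4, 5], [4, 1, 3, 2, 0, 4, 3, 2, 1, 3, 4, 5], [4, 1, 3, 2, 0, 4, 3, 2, 1, 3, 4, 5], [4, 1, 3, 2, 0, 3, 2, 1, 3, 4, 5], [4, 1, 3, 2, 0, 3, 2, 1, 3, 4, 5], [4, 1, 3, 2, 0, 2, 1, 3, 4, 5], [4, 1, 3, 2, 0, 2, 1, 3, 4, 5], [4, 1, 3, 2, 0, 2, 3, 4, 5], [4, 1, 3, 2, 0, 2, 3, 4, 5], [4, 1, 3, 2, 0, 1, 3, 4, 5], [4, 1, 3, 2, 0, 1, 3, 4, 5], [4, 1,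 3, 2, 0, 3, 4, 5], [4, 1, 3, 2, 0, 3, 4, 5], [4, 1, 3, 2, 0, 4, 5], [4, 1, 3, 2, 0, 4, 5], [4, 1, 3, 2, 0, 5], [4, 1, 3, 2, 0, 5], [4, 1, 3, 2, 0], [4, 1, 3, 2, 0], [1, 3, 2, 0], [1, 3, 2, 0, 5, 4, 3, 2, 1, 3, 4, 5], [1, 3, 2, 0, 5, 4, 3, 2, 1, 3, 4, 5], [1, 3, 2, 0, 4, 3, 2, 1, 3, 4, 5], [1, 3, 2, 0, 4, 3, 2, 1, 3, 4, 5], [1, 3, 2, 0, 3, 2, 1, 3, 4, 5], [1, 3, 2, 0, 3, 2, 1, 3, 4, 5], [1, 3, 2, 0, 2, 1, 3, 4, 5], [1, 3, 2, 0, 2, 1, 3, 4, 5], [1, 3, 2, 0, 2, 3, 4, 5], [1, 3, 2, 0, 2, 3, 4, 5], [1, 3, 2, 0, 1, 3, 4, 5], [1, 3, 2, 0, 1, 3, 4, 5], [1, 3, 2, 0, 3, 4, 5], [1, 3, 2, 0, 3, 4, 5], [1, 3, 2, 0, 4, 5], [1, 3, 2,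 0, 4, 5], [1, 3, 2, 0, 5], [1, 3, 2, 0, 5], [1, 3, 2, 0], [1, 3, 2, 0], [5, 4, 3, 2, 0], [5, 4, 3, 2, 0, 5, 4, 3, 2, 1, 3, 4, 5], [5, 4, 3, 2, 0, 5, 4, 3, 2, 1, 3, 4, 5], [5, 4, 3, 2, 0, 4, 3, 2, 1, 3, 4, 5], [5, 4, 3, 2, 0, 4, 3, 2, 1, 3, 4, 5], [5, 4, 3, 2, 0, 3, 2, 1, 3, 4, 5], [5, 4, 3, 2, 0, 3, 2, 1, 3, 4, 5], [5, 4, 3, 2, 0, 2, 1, 3, 4, 5], [5, 4, 3, 2, 0, 2, 1, 3, 4, 5], [5, 4, 3, 2, 0, 2, 3, 4, 5], [5, 4, 3, 2, 0, 2, 3, 4, 5], [5, 4, 3, 2, 0, 1, 3, 4, 5], [5, 4, 3, 2, 0, 1, 3, 4, 5], [5, 4, 3, 2, 0, 3, 4, 5], [5, 4, 3, 2, 0, 3, 4, 5], [5, 4, 3, 2, 0, 4, 5], [5, 4, 3, 2, 0, 4, 5], [5, 4, 3, 2, 0, 5], [5, 4, 3, 2,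 0, 5], [5, 4, 3, 2, 0], [5, 4, 3, 2, 0], [4, 3, 2, 0], [4, 3, 2, 0, 5, 4, 3, 2, 1, 3, 4, 5], [4, 3, 2, 0, 5, 4, 3, 2, 1, 3, 4, 5], [4, 3, 2, 0, 4, 3, 2, 1, 3, 4, 5], [4, 3, 2, 0, 4, 3, 2, 1, 3, 4, 5], [4, 3, 2, 0, 3, 2, 1, 3, 4, 5], [4, 3, 2, 0, 3, 2, 1, 3, 4, 5], [4, 3, 2, 0, 2, 1, 3, 4, 5], [4, 3, 2, 0, 2, 1, 3, 4, 5], [4, 3, 2, 0, 2, 3, 4, 5], [4, 3, 2, 0, 2, 3, 4, 5], [4, 3, 2, 0, 1, 3, 4, 5], [4, 3, 2, 0, 1, 3, 4, 5], [4, 3, 2, 0, 3, 4, 5], [4, 3, 2, 0, 3, 4, 5], [4, 3, 2, 0, 4, 5], [4, 3, 2, 0, 4, 5], [4, 3, 2, 0, 5], [4, 3, 2, 0, 5], [4, 3, 2, 0], [4, 3, 2, 0], [3, 2, 0], [3, 2, 0, 5, 4, 3, 2, 1, 3, 4, 5], [3, 2,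 0, 5, 4, 3, 2, 1, 3, 4, 5], [3, 2, 0, 4, 3, 2, 1, 3, 4, 5], [3, 2, 0, 4, 3, 2, 1, 3, 4, 5], [3, 2, 0, 3, 2, 1, 3, 4, 5], [3, 2, 0, 3, 2, 1, 3, 4, 5], [3, 2, 0, 2, 1, 3, 4, 5], [3, 2, 0, 2, 1, 3, 4, 5], [3, 2, 0, 2, 3, 4, 5], [3, 2, 0, 2, 3, 4, 5], [3, 2, 0, 1, 3, 4, 5], [3, 2, 0, 1, 3, 4, 5], [3, 2, 0, 3, 4, 5], [3, 2, 0, 3, 4, 5], [3, 2, 0, 4, 5], [3, 2, 0, 4, 5], [3, 2, 0, 5], [3, 2, 0, 5], [3, 2, 0], [3, 2, 0], [2, 0], [2, 0, 5, 4, 3, 2, 1, 3, 4, 5], [2, 0, 5, 4, 3, 2, 1, 3, 4, 5], [2, 0, 4, 3, 2, 1, 3, 4, 5], [2, 0, 4, 3, 2, 1, 3, 4, 5], [2, 0, 3, 2, 1, 3, 4, 5], [2, 0, 3, 2, 1, 3, 4, 5], [2, 0, 2, 1, 3, 4, 5], [2,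 0, 2, 1, 3, 4, 5], [2, 0, 2, 3, 4, 5], [2, 0, 2, 3, 4, 5], [2, 0, 1, 3, 4, 5], [2, 0, 1, 3, 4, 5], [2, 0, 3, 4, 5], [2, 0, 3, 4, 5], [2, 0, 4, 5], [2, 0, 4, 5], [2, 0, 5], [2, 0, 5], [2, 0], [2, 0], [0], [0, 5, 4, 3, 2, 1, 3, 4, 5], [0, 5, 4, 3, 2, 1, 3, 4, 5], [0, 4, 3, 2, 1, 3, 4, 5], [0, 4, 3, 2, 1, 3, 4, 5], [0, 3, 2, 1, 3, 4, 5], [0, 3, 2, 1, 3, 4, 5], [0, 2, 1, 3, 4, 5], [0, 2, 1, 3, 4, 5], [0, 2, 3, 4, 5], [0, 2, 3, 4, 5], [0, 1, 3, 4, 5], [0, 1, 3, 4, 5], [0, 3, 4, 5], [0, 3, 4, 5], [0, 4, 5], [0, 4, 5], [0, 5], [0, 5], [0], [0], [], [5, 4, 3, 2, 1, 3, 4, 5], [5, 4, 3, 2, 1, 3, 4, 5], [4, 3, 2, 1, 3, 4, 5], [4,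 3, 2, 1, 3, 4, 5], [3, 2, 1, 3, 4, 5], [3, 2, 1, 3, 4, 5], [2, 1, 3, 4, 5], [2, 1, 3, 4, 5], [1, 3, 4, 5], [1, 3, 4, 5], [2, 3, 4, 5], [2, 3, 4, 5], [3, 4, 5], [3, 4, 5], [4, 5], [4, 5], [5], [5], [], []] = true := by decide +kernel

theorem set6_1 : setOk goodE8 swap P6 Q6 L7 [204] [[6, 5, 4, 3, 2, 0], [6, 5, 4, 3, 2, 0, 3, 2, 4, 3, 5, 4, 6, 5], [6, 5, 4, 3, 2, 0, 3, 2, 4, 3, 5, 4, 6, 5, 3, 2, 4, 3], [6, 5, 4, 3, 2, 0, 3, 2, 4, 3, 5, 4, 6, 5, 3, 2, 4, 3], [6, 5, 4, 3, 2, 0, 3, 2, 4, 3, 5, 4, 6, 5, 2, 4, 3], [6, 5, 4, 3, 2, 0, 3, 2, 4, 3, 5, 4, 6, 5, 2, 4, 3], [6, 5, 4, 3, 2, 0, 3, 2, 4, 3, 5, 4, 6, 5, 2, 3], [6, 5, 4,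 3, 2, 0, 3, 2, 4, 3, 5, 4, 6, 5, 2, 3], [6, 5, 4, 3, 2, 0, 3, 2, 4, 3, 5, 4, 6, 5, 4, 3], [6, 5, 4, 3, 2, 0, 3, 2, 4, 3, 5, 4, 6, 5, 4, 3], [6, 5, 4, 3, 2, 0, 3, 2, 4, 3, 5, 4, 6, 5, 3], [6, 5, 4, 3, 2, 0, 3, 2, 4, 3, 5, 4, 6, 5, 3], [6, 5, 4, 3, 2, 0, 3, 2, 4, 3, 5, 4, 6, 5], [6, 5, 4, 3, 2, 0, 3, 2, 4, 3, 5, 4, 6, 5], [6, 5, 4, 3, 2, 0, 2, 4, 3, 5, 4, 6, 5], [6, 5, 4, 3, 2, 0, 2, 4, 3, 5, 4, 6, 5, 3, 2, 4, 3], [6, 5, 4, 3, 2, 0, 2, 4, 3, 5, 4, 6, 5, 3, 2, 4, 3], [6, 5, 4, 3, 2, 0, 2, 4, 3, 5, 4, 6, 5, 2, 4, 3], [6, 5, 4, 3, 2, 0, 2, 4, 3, 5, 4, 6, 5, 2, 4, 3], [6, 5, 4, 3, 2, 0, 2, 4, 3, 5, 4, 6, 5, 2, 3], [6, 5, 4, 3,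 2, 0, 2, 4, 3, 5, 4, 6, 5, 2, 3], [6, 5, 4, 3, 2, 0, 2, 4, 3, 5, 4, 6, 5, 4, 3], [6, 5, 4, 3, 2, 0, 2, 4, 3, 5, 4, 6, 5, 4, 3], [6, 5, 4, 3, 2, 0, 2, 4, 3, 5, 4, 6, 5, 3], [6, 5, 4, 3, 2, 0, 2, 4, 3, 5, 4, 6, 5, 3], [6, 5, 4, 3, 2, 0, 2, 4, 3, 5, 4, 6, 5], [6, 5, 4, 3, 2, 0, 2, 4, 3, 5, 4, 6, 5], [6, 5, 4, 3, 2, 0, 2, 3, 5, 4, 6, 5], [6, 5, 4, 3, 2, 0, 2, 3, 5, 4, 6, 5, 3, 2, 4, 3], [6, 5, 4, 3, 2, 0, 2, 3, 5, 4, 6, 5, 3, 2, 4, 3], [6, 5, 4, 3, 2, 0, 2, 3, 5, 4, 6, 5, 2, 4, 3], [6, 5, 4, 3, 2, 0, 2, 3, 5, 4, 6, 5, 2, 4, 3], [6, 5, 4, 3, 2, 0, 2, 3, 5, 4, 6, 5, 2, 3], [6, 5, 4, 3, 2, 0, 2, 3, 5, 4, 6, 5, 2, 3], [6, 5, 4,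 3, 2, 0, 2, 3, 5, 4, 6, 5, 4, 3], [6, 5, 4, 3, 2, 0, 2, 3, 5, 4, 6, 5, 4, 3], [6, 5, 4, 3, 2, 0, 2, 3, 5, 4, 6, 5, 3], [6, 5, 4, 3, 2, 0, 2, 3, 5, 4, 6, 5, 3], [6, 5, 4, 3, 2, 0, 2, 3, 5, 4, 6, 5], [6, 5, 4, 3, 2, 0, 2, 3, 5, 4, 6, 5], [6, 5, 4, 3, 2, 0, 2, 3, 4, 6, 5], [6, 5, 4, 3, 2, 0, 2, 3, 4, 6, 5, 3, 2, 4, 3], [6, 5, 4, 3, 2, 0, 2, 3, 4, 6, 5, 3, 2, 4, 3], [6, 5, 4, 3, 2, 0, 2, 3, 4, 6, 5, 2, 4, 3], [6, 5, 4, 3, 2, 0, 2, 3, 4, 6, 5, 2, 4, 3], [6, 5, 4, 3, 2, 0, 2, 3, 4, 6, 5, 2, 3], [6, 5, 4, 3, 2, 0, 2, 3, 4, 6, 5, 2, 3], [6, 5, 4, 3, 2, 0, 2, 3, 4, 6, 5, 4, 3], [6, 5, 4, 3, 2, 0, 2, 3, 4, 6, 5, 4, 3], [6, 5, 4,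 3, 2, 0, 2, 3, 4, 6, 5, 3], [6, 5, 4, 3, 2, 0, 2, 3, 4, 6, 5, 3], [6, 5, 4, 3, 2, 0, 2, 3, 4, 6, 5], [6, 5, 4, 3, 2, 0, 2, 3, 4, 6, 5], [6, 5, 4, 3, 2, 0, 2, 3, 4, 5], [6, 5, 4, 3, 2, 0, 2, 3, 4, 5, 3, 2, 4, 3], [6, 5, 4, 3, 2, 0, 2, 3, 4, 5, 3, 2, 4, 3], [6, 5, 4, 3, 2, 0, 2, 3, 4, 5, 2, 4, 3], [6, 5, 4, 3, 2, 0, 2, 3, 4, 5, 2, 4, 3], [6, 5, 4, 3, 2, 0, 2, 3, 4, 5, 2, 3], [6, 5, 4, 3, 2, 0, 2, 3, 4, 5, 2, 3], [6, 5, 4, 3, 2, 0, 2, 3, 4, 5, 4, 3], [6, 5, 4, 3, 2, 0, 2, 3, 4, 5, 4, 3], [6, 5, 4, 3, 2, 0, 2, 3, 4, 5, 3], [6, 5, 4, 3, 2, 0, 2, 3, 4, 5, 3], [6, 5, 4, 3, 2, 0, 2, 3, 4, 5], [6, 5, 4, 3, 2, 0, 2, 3, 4, 5], [6,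 5, 4, 3, 2, 0, 4, 3, 5, 4, 6, 5], [6, 5, 4, 3, 2, 0, 4, 3, 5, 4, 6, 5, 3, 2, 4, 3], [6, 5, 4, 3, 2, 0, 4, 3, 5, 4, 6, 5, 3, 2, 4, 3], [6, 5, 4, 3, 2, 0, 4, 3, 5, 4, 6, 5, 2, 4, 3], [6, 5, 4, 3, 2, 0, 4, 3, 5, 4, 6, 5, 2, 4, 3], [6, 5, 4, 3, 2, 0, 4, 3, 5, 4, 6, 5, 2, 3], [6, 5, 4, 3, 2, 0, 4, 3, 5, 4, 6, 5, 2, 3], [6, 5, 4, 3, 2, 0, 4, 3, 5, 4, 6, 5, 4, 3], [6, 5, 4, 3, 2, 0, 4, 3, 5, 4, 6, 5, 4, 3], [6, 5, 4, 3, 2, 0, 4, 3, 5, 4, 6, 5, 3], [6, 5, 4, 3, 2, 0, 4, 3, 5, 4, 6, 5, 3], [6, 5, 4, 3, 2, 0, 4, 3, 5, 4, 6, 5], [6, 5, 4, 3, 2, 0, 4, 3, 5, 4, 6, 5], [6, 5, 4, 3, 2, 0, 3, 5, 4, 6, 5], [6, 5, 4, 3, 2, 0, 3, 5, 4, 6,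 5, 3, 2, 4, 3], [6, 5, 4, 3, 2, 0, 3, 5, 4, 6, 5, 3, 2, 4, 3], [6, 5, 4, 3, 2, 0, 3, 5, 4, 6, 5, 2, 4, 3], [6, 5, 4, 3, 2, 0, 3, 5, 4, 6, 5, 2, 4, 3], [6, 5, 4, 3, 2, 0, 3, 5, 4, 6, 5, 2, 3], [6, 5, 4, 3, 2, 0, 3, 5, 4, 6, 5, 2, 3], [6, 5, 4, 3, 2, 0, 3, 5, 4, 6, 5, 4, 3], [6, 5, 4, 3, 2, 0, 3, 5, 4, 6, 5, 4, 3], [6, 5, 4, 3, 2, 0, 3, 5, 4, 6, 5, 3], [6, 5, 4, 3, 2, 0, 3, 5, 4, 6, 5, 3], [6, 5, 4, 3, 2, 0, 3, 5, 4, 6, 5], [6, 5, 4, 3, 2, 0, 3, 5, 4, 6, 5], [6, 5, 4, 3, 2, 0, 3, 4, 6, 5], [6, 5, 4, 3, 2, 0, 3, 4, 6, 5, 3, 2, 4, 3], [6, 5, 4, 3, 2, 0, 3, 4, 6, 5, 3, 2, 4, 3], [6, 5, 4, 3, 2, 0, 3, 4, 6, 5, 2, 4, 3], [6, 5,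 4, 3, 2, 0, 3, 4, 6, 5, 2, 4, 3], [6, 5, 4, 3, 2, 0, 3, 4, 6, 5, 2, 3], [6, 5, 4, 3, 2, 0, 3, 4, 6, 5, 2, 3], [6, 5, 4, 3, 2, 0, 3, 4, 6, 5, 4, 3], [6, 5, 4, 3, 2, 0, 3, 4, 6, 5, 4, 3], [6, 5, 4, 3, 2, 0, 3, 4, 6, 5, 3], [6, 5, 4, 3, 2, 0, 3, 4, 6, 5, 3], [6, 5, 4, 3, 2, 0, 3, 4, 6, 5], [6, 5, 4, 3, 2, 0, 3, 4, 6, 5], [6, 5, 4, 3, 2, 0, 3, 4, 5], [6, 5, 4, 3, 2, 0, 3, 4, 5, 3, 2, 4, 3], [6, 5, 4, 3, 2, 0, 3, 4, 5, 3, 2, 4, 3], [6, 5, 4, 3, 2, 0, 3, 4, 5, 2, 4, 3], [6, 5, 4, 3, 2, 0, 3, 4, 5, 2, 4, 3], [6, 5, 4, 3, 2, 0, 3, 4, 5, 2, 3], [6, 5, 4, 3, 2, 0, 3, 4, 5, 2, 3], [6, 5, 4, 3, 2, 0, 3, 4, 5, 4, 3], [6, 5, 4, 3, 2,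 0, 3, 4, 5, 4, 3], [6, 5, 4, 3, 2, 0, 3, 4, 5, 3], [6, 5, 4, 3, 2, 0, 3, 4, 5, 3], [6, 5, 4, 3, 2, 0, 3, 4, 5], [6, 5, 4, 3, 2, 0, 3, 4, 5], [6, 5, 4, 3, 2, 0, 5, 4, 6, 5], [6, 5, 4, 3, 2, 0, 5, 4, 6, 5, 3, 2, 4, 3], [6, 5, 4, 3, 2, 0, 5, 4, 6, 5, 3, 2, 4, 3], [6, 5, 4, 3, 2, 0, 5, 4, 6, 5, 2, 4, 3], [6, 5, 4, 3, 2, 0, 5, 4, 6, 5, 2, 4, 3], [6, 5, 4, 3, 2, 0, 5, 4, 6, 5, 2, 3], [6, 5, 4, 3, 2, 0, 5, 4, 6, 5, 2, 3], [6, 5, 4, 3, 2, 0, 5, 4, 6, 5, 4, 3], [6, 5, 4, 3, 2, 0, 5, 4, 6, 5, 4, 3], [6, 5, 4, 3, 2, 0, 5, 4, 6, 5, 3], [6, 5, 4, 3, 2, 0, 5, 4, 6, 5, 3], [6, 5, 4, 3, 2, 0, 5, 4, 6, 5], [6, 5, 4, 3, 2, 0, 5, 4, 6, 5],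 [6, 5, 4, 3, 2, 0, 4, 6, 5], [6, 5, 4, 3, 2, 0, 4, 6, 5, 3, 2, 4, 3], [6, 5, 4, 3, 2, 0, 4, 6, 5, 3, 2, 4, 3], [6, 5, 4, 3, 2, 0, 4, 6, 5, 2, 4, 3], [6, 5, 4, 3, 2, 0, 4, 6, 5, 2, 4, 3], [6, 5, 4, 3, 2, 0, 4, 6, 5, 2, 3], [6, 5, 4, 3, 2, 0, 4, 6, 5, 2, 3], [6, 5, 4, 3, 2, 0, 4, 6, 5, 4, 3], [6, 5, 4, 3, 2, 0, 4, 6, 5, 4, 3], [6, 5, 4, 3, 2, 0, 4, 6, 5, 3], [6, 5, 4, 3, 2, 0, 4, 6, 5, 3], [6, 5, 4, 3, 2, 0, 4, 6, 5], [6, 5, 4, 3, 2, 0, 4, 6, 5], [6, 5, 4, 3, 2, 0, 4, 5], [6, 5, 4, 3, 2, 0, 4, 5, 3, 2, 4, 3], [6, 5, 4, 3, 2, 0, 4, 5, 3, 2, 4, 3], [6, 5, 4, 3, 2, 0, 4, 5, 2, 4, 3], [6, 5, 4, 3, 2, 0, 4, 5, 2, 4, 3], [6, 5,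 4, 3, 2, 0, 4, 5, 2, 3], [6, 5, 4, 3, 2, 0, 4, 5, 2, 3], [6, 5, 4, 3, 2, 0, 4, 5, 4, 3], [6, 5, 4, 3, 2, 0, 4, 5, 4, 3], [6, 5, 4, 3, 2, 0, 4, 5, 3], [6, 5, 4, 3, 2, 0, 4, 5, 3], [6, 5, 4, 3, 2, 0, 4, 5], [6, 5, 4, 3, 2, 0, 4, 5], [6, 5, 4, 3, 2, 0, 6, 5], [6, 5, 4, 3, 2, 0, 6, 5, 3, 2, 4, 3], [6, 5, 4, 3, 2, 0, 6, 5, 3, 2, 4, 3], [6, 5, 4, 3, 2, 0, 6, 5, 2, 4, 3], [6, 5, 4, 3, 2, 0, 6, 5, 2, 4, 3], [6, 5, 4, 3, 2, 0, 6, 5, 2, 3], [6, 5, 4, 3, 2, 0, 6, 5, 2, 3], [6, 5, 4, 3, 2, 0, 6, 5, 4, 3], [6, 5, 4, 3, 2, 0, 6, 5, 4, 3], [6, 5, 4, 3, 2, 0, 6, 5, 3], [6, 5, 4, 3, 2, 0, 6, 5, 3], [6, 5, 4, 3, 2, 0, 6, 5], [6, 5, 4, 3,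 2, 0, 6, 5], [6, 5, 4, 3, 2, 0, 5], [6, 5, 4, 3, 2, 0, 5, 3, 2, 4, 3], [6, 5, 4, 3, 2, 0, 5, 3, 2, 4, 3], [6, 5, 4, 3, 2, 0, 5, 2, 4, 3], [6, 5, 4, 3, 2, 0, 5, 2, 4, 3], [6, 5, 4, 3, 2, 0, 5, 2, 3], [6, 5, 4, 3, 2, 0, 5, 2, 3], [6, 5, 4, 3, 2, 0, 5, 4, 3], [6, 5, 4, 3, 2, 0, 5, 4, 3], [6, 5, 4, 3, 2, 0, 5, 3], [6, 5, 4, 3, 2, 0, 5, 3], [6, 5, 4, 3, 2, 0, 5], [6, 5, 4, 3, 2, 0, 5], [6, 5, 4, 3, 2, 0], [6, 5, 4, 3, 2, 0, 3, 2, 4, 3], [6, 5, 4, 3, 2, 0, 3, 2, 4, 3], [6, 5, 4, 3, 2, 0, 2, 4, 3], [6, 5, 4, 3, 2, 0, 2, 4, 3], [6, 5, 4, 3, 2, 0, 2, 3], [6, 5, 4, 3, 2, 0, 2, 3], [6, 5, 4, 3, 2, 0, 4, 3], [6, 5, 4, 3, 2, 0, 4, 3],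 [6, 5, 4, 3, 2, 0, 3], [6, 5, 4, 3, 2, 0, 3], [6, 5, 4, 3, 2, 0], [6, 5, 4, 3, 2, 0]] = true := by decide +kernel

theorem set6_2 : setOk goodE8 swap P6 Q6 L7 [204, 166] [[6, 5, 4, 3, 2, 0, 1, 3, 4, 5], [6, 5, 4, 3, 2, 0, 1, 3, 4, 5], [6, 5, 4, 3, 2, 0, 1, 3, 4, 5, 3, 4, 1, 3, 5, 6, 4, 5, 0, 2, 3, 1, 4, 3, 2, 0], [1, 3, 2, 4, 3, 1, 6, 5, 4, 3, 2, 0, 4, 3, 5, 4, 6, 5, 4, 3, 3, 1, 4, 3, 5, 6, 4, 5, 3, 4, 2, 3, 0, 2, 3, 4, 5, 1, 3, 4, 2, 3, 1, 0, 2, 3, 4, 5, 8, 0, 2, 3, 4, 1, 3, 2, 0, 3, 2, 4, 3, 5, 4, 6, 5, 5, 6, 4, 5, 0, 2, 3, 1, 4, 3, 2, 0], [6, 5, 4, 3, 2, 0, 1, 3, 4, 5, 4, 1, 3, 5, 6, 4, 5, 0, 2, 3, 1, 4, 3, 2, 0], [1,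 3, 2, 4, 3, 1, 6, 5, 4, 3, 2, 0, 3, 5, 4, 6, 5, 4, 3, 3, 1, 4, 3, 5, 6, 4, 5, 3, 4, 2, 3, 0, 2, 3, 4, 5, 1, 3, 4, 2, 3, 1, 0, 2, 3, 4, 5, 8, 0, 2, 3, 4, 1, 3, 2, 0, 3, 2, 4, 3, 5, 4, 6, 5, 5, 6, 4, 5, 0, 2, 3, 1, 4, 3, 2, 0], [6, 5, 4, 3, 2, 0, 1, 3, 4, 5, 1, 3, 5, 6, 4, 5, 0, 2, 3, 1, 4, 3, 2, 0], [1, 3, 2, 4, 3, 1, 6, 5, 4, 3, 2, 0, 5, 4, 6, 5, 4, 3, 3, 1, 4, 3, 5, 6, 4, 5, 3, 4, 2, 3, 0, 2, 3, 4, 5, 1, 3, 4, 2, 3, 1, 0, 2, 3, 4, 5, 8, 0, 2, 3, 4, 1, 3, 2, 0, 3, 2, 4, 3, 5, 4, 6, 5, 5, 6, 4, 5, 0, 2, 3, 1, 4, 3, 2, 0], [6, 5, 4, 3, 2, 0, 1, 3, 4, 5, 4, 3, 5, 6, 4, 5, 0, 2, 3, 1, 4, 3, 2, 0], [1, 3, 2, 4, 3, 1, 6, 5, 4,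 3, 2, 0, 5, 4, 6, 5, 4, 3, 3, 1, 4, 3, 5, 6, 4, 5, 3, 4, 2, 3, 0, 2, 3, 4, 5, 1, 3, 4, 2, 3, 1, 0, 2, 3, 4, 5, 8, 0, 2, 3, 4, 1, 3, 2, 0, 3, 2, 4, 3, 5, 4, 6, 5, 5, 6, 4, 5, 0, 2, 3, 1, 4, 3, 2, 0], [6, 5, 4, 3, 2, 0, 1, 3, 4, 5, 3, 5, 6, 4, 5, 0, 2, 3, 1, 4, 3, 2, 0], [1, 3, 2, 4, 3, 1, 6, 5, 4, 3, 2, 0, 3, 5, 4, 6, 5, 4, 3, 3, 1, 4, 3, 5, 6, 4, 5, 3, 4, 2, 3, 0, 2, 3, 4, 5, 1, 3, 4, 2, 3, 1, 0, 2, 3, 4, 5, 8, 0, 2, 3, 4, 1, 3, 2, 0, 3, 2, 4, 3, 5, 4, 6, 5, 5, 6, 4, 5, 0, 2, 3, 1, 4, 3, 2, 0], [6, 5, 4, 3, 2, 0, 1, 3, 4, 5, 5, 6, 4, 5, 0, 2, 3, 1, 4, 3, 2, 0], [1, 3, 2, 4, 3, 1, 6, 5, 4, 3, 2, 0, 4, 3, 5, 4, 6, 5, 4, 3,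 3, 1, 4, 3, 5, 6, 4, 5, 3, 4, 2, 3, 0, 2, 3, 4, 5, 1, 3, 4, 2, 3, 1, 0, 2, 3, 4, 5, 8, 0, 2, 3, 4, 1, 3, 2, 0, 3, 2, 4, 3, 5, 4, 6, 5, 5, 6, 4, 5, 0, 2, 3, 1, 4, 3, 2, 0], [6, 5, 4, 3, 2, 0, 1, 3, 4, 5, 3, 4, 1, 3], [6, 5, 4, 3, 2, 0, 1, 3, 4, 5, 3, 4, 1, 3, 5, 6, 4, 5, 0, 2, 3, 1, 4, 3, 2, 0], [1, 3, 2, 4, 3, 1, 6, 5, 4, 3, 2, 0, 4, 3, 5, 4, 6, 5, 4, 3, 3, 1, 4, 3, 5, 6, 4, 5, 3, 4, 2, 3, 0, 2, 3, 4, 5, 1, 3, 4, 2, 3, 1, 0, 2, 3, 4, 5, 8, 0, 2, 3, 4, 1, 3, 2, 0, 3, 2, 4, 3, 5, 4, 6, 5, 5, 6, 4, 5, 0, 2, 3, 1, 4, 3, 2, 0], [1, 3, 2, 4, 3, 1, 6, 5, 4, 3, 2, 0, 4, 3, 5, 4, 6, 5, 4, 3, 3, 1, 4, 3, 5, 6, 4, 5, 3, 4, 2, 3, 0,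 2, 3, 4, 5, 1, 3, 4, 2, 3, 1, 0, 2, 3, 4, 5, 8, 3, 2, 0, 1, 3, 2, 5, 4, 3, 1, 6, 5, 4, 3, 2, 0, 3, 2, 1, 3, 5, 4, 6, 5], [1, 3, 2, 4, 3, 1, 6, 5, 4, 3, 2, 0, 4, 3, 5, 4, 6, 5, 4, 3, 3, 1, 4, 3, 5, 6, 4, 5, 3, 4, 2, 3, 0, 2, 3, 4, 5, 1, 3, 4, 2, 3, 1, 0, 2, 3, 4, 5, 8, 0, 2, 3, 4, 1, 3, 2, 0, 3, 2, 4, 3, 5, 4, 6, 5, 5, 6, 4, 5, 0, 2, 3, 1, 4, 3, 2, 0], [6, 5, 4, 3, 2, 0, 1, 3, 4, 5, 4, 1, 3], [6, 5, 4, 3, 2, 0, 1, 3, 4, 5, 4, 1, 3, 5, 6, 4, 5, 0, 2, 3, 1, 4, 3, 2, 0], [1, 3, 2, 4, 3, 1, 6, 5, 4, 3, 2, 0, 3, 5, 4, 6, 5, 4, 3, 3, 1, 4, 3, 5, 6, 4, 5, 3, 4, 2, 3, 0, 2, 3, 4, 5, 1, 3, 4, 2, 3, 1, 0, 2, 3, 4, 5, 8, 0, 2, 3, 4,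 1, 3, 2, 0, 3, 2, 4, 3, 5, 4, 6, 5, 5, 6, 4, 5, 0, 2, 3, 1, 4, 3, 2, 0], [1, 3, 2, 4, 3, 1, 6, 5, 4, 3, 2, 0, 3, 5, 4, 6, 5, 4, 3, 3, 1, 4, 3, 5, 6, 4, 5, 3, 4, 2, 3, 0, 2, 3, 4, 5, 1, 3, 4, 2, 3, 1, 0, 2, 3, 4, 5, 8, 3, 2, 0, 1, 3, 2, 5, 4, 3, 1, 6, 5, 4, 3, 2, 0, 3, 2, 1, 3, 5, 4, 6, 5], [1, 3, 2, 4, 3, 1, 6, 5, 4, 3, 2, 0, 3, 5, 4, 6, 5, 4, 3, 3, 1, 4, 3, 5, 6, 4, 5, 3, 4, 2, 3, 0, 2, 3, 4, 5, 1, 3, 4, 2, 3, 1, 0, 2, 3, 4, 5, 8, 0, 2, 3, 4, 1, 3, 2, 0, 3, 2, 4, 3, 5, 4, 6, 5, 5, 6, 4, 5, 0, 2, 3, 1, 4, 3, 2, 0], [6, 5, 4, 3, 2, 0, 1, 3, 4, 5, 1, 3], [6, 5, 4, 3, 2, 0, 1, 3, 4, 5, 1, 3, 5, 6, 4, 5, 0, 2, 3, 1, 4, 3, 2,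 0], [1, 3, 2, 4, 3, 1, 6, 5, 4, 3, 2, 0, 5, 4, 6, 5, 4, 3, 3, 1, 4, 3, 5, 6, 4, 5, 3, 4, 2, 3, 0, 2, 3, 4, 5, 1, 3, 4, 2, 3, 1, 0, 2, 3, 4, 5, 8, 0, 2, 3, 4, 1, 3, 2, 0, 3, 2, 4, 3, 5, 4, 6, 5, 5, 6, 4, 5, 0, 2, 3, 1, 4, 3, 2, 0], [1, 3, 2, 4, 3, 1, 6, 5, 4, 3, 2, 0, 5, 4, 6, 5, 4, 3, 3, 1, 4, 3, 5, 6, 4, 5, 3, 4, 2, 3, 0, 2, 3, 4, 5, 1, 3, 4, 2, 3, 1, 0, 2, 3, 4, 5, 8, 3, 2, 0, 1, 3, 2, 5, 4, 3, 1, 6, 5, 4, 3, 2, 0, 3, 2, 1, 3, 5, 4, 6, 5], [1, 3, 2, 4, 3, 1, 6, 5, 4, 3, 2, 0, 5, 4, 6, 5, 4, 3, 3, 1, 4, 3, 5, 6, 4, 5, 3, 4, 2, 3, 0, 2, 3, 4, 5, 1, 3, 4, 2, 3, 1, 0, 2, 3, 4, 5, 8, 0, 2, 3, 4, 1, 3, 2, 0, 3, 2, 4, 3, 5,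 4, 6, 5, 5, 6, 4, 5, 0, 2, 3, 1, 4, 3, 2, 0], [6, 5, 4, 3, 2, 0, 1, 3, 4, 5, 4, 3], [6, 5, 4, 3, 2, 0, 1, 3, 4, 5, 4, 3, 5, 6, 4, 5, 0, 2, 3, 1, 4, 3, 2, 0], [1, 3, 2, 4, 3, 1, 6, 5, 4, 3, 2, 0, 5, 4, 6, 5, 4, 3, 3, 1, 4, 3, 5, 6, 4, 5, 3, 4, 2, 3, 0, 2, 3, 4, 5, 1, 3, 4, 2, 3, 1, 0, 2, 3, 4, 5, 8, 0, 2, 3, 4, 1, 3, 2, 0, 3, 2, 4, 3, 5, 4, 6, 5, 5, 6, 4, 5, 0, 2, 3, 1, 4, 3, 2, 0], [1, 3, 2, 4, 3, 1, 6, 5, 4, 3, 2, 0, 5, 4, 6, 5, 4, 3, 3, 1, 4, 3, 5, 6, 4, 5, 3, 4, 2, 3, 0, 2, 3, 4, 5, 1, 3, 4, 2, 3, 1, 0, 2, 3, 4, 5, 8, 3, 2, 0, 1, 3, 2, 5, 4, 3, 1, 6, 5, 4, 3, 2, 0, 3, 2, 1, 3, 5, 4, 6, 5], [1, 3, 2, 4, 3, 1, 6, 5, 4,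 3, 2, 0, 5, 4, 6, 5, 4, 3, 3, 1, 4, 3, 5, 6, 4, 5, 3, 4, 2, 3, 0, 2, 3, 4, 5, 1, 3, 4, 2, 3, 1, 0, 2, 3, 4, 5, 8, 0, 2, 3, 4, 1, 3, 2, 0, 3, 2, 4, 3, 5, 4, 6, 5, 5, 6, 4, 5, 0, 2, 3, 1, 4, 3, 2, 0], [6, 5, 4, 3, 2, 0, 1, 3, 4, 5, 3], [6, 5, 4, 3, 2, 0, 1, 3, 4, 5, 3, 5, 6, 4, 5, 0, 2, 3, 1, 4, 3, 2, 0], [1, 3, 2, 4, 3, 1, 6, 5, 4, 3, 2, 0, 3, 5, 4, 6, 5, 4, 3, 3, 1, 4, 3, 5, 6, 4, 5, 3, 4, 2, 3, 0, 2, 3, 4, 5, 1, 3, 4, 2, 3, 1, 0, 2, 3, 4, 5, 8, 0, 2, 3, 4, 1, 3, 2, 0, 3, 2, 4, 3, 5, 4, 6, 5, 5, 6, 4, 5, 0, 2, 3, 1, 4, 3, 2, 0], [1, 3, 2, 4, 3, 1, 6, 5, 4, 3, 2, 0, 3, 5, 4, 6, 5, 4, 3, 3, 1, 4, 3, 5, 6, 4, 5, 3, 4, 2, 3,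 0, 2, 3, 4, 5, 1, 3, 4, 2, 3, 1, 0, 2, 3, 4, 5, 8, 3, 2, 0, 1, 3, 2, 5, 4, 3, 1, 6, 5, 4, 3, 2, 0, 3, 2, 1, 3, 5, 4, 6, 5], [1, 3, 2, 4, 3, 1, 6, 5, 4, 3, 2, 0, 3, 5, 4, 6, 5, 4, 3, 3, 1, 4, 3, 5, 6, 4, 5, 3, 4, 2, 3, 0, 2, 3, 4, 5, 1, 3, 4, 2, 3, 1, 0, 2, 3, 4, 5, 8, 0, 2, 3, 4, 1, 3, 2, 0, 3, 2, 4, 3, 5, 4, 6, 5, 5, 6, 4, 5, 0, 2, 3, 1, 4, 3, 2, 0], [6, 5, 4, 3, 2, 0, 1, 3, 4, 5], [6, 5, 4, 3, 2, 0, 1, 3, 4, 5, 5, 6, 4, 5, 0, 2, 3, 1, 4, 3, 2, 0], [1, 3, 2, 4, 3, 1, 6, 5, 4, 3, 2, 0, 4, 3, 5, 4, 6, 5, 4, 3, 3, 1, 4, 3, 5, 6, 4, 5, 3, 4, 2, 3, 0, 2, 3, 4, 5, 1, 3, 4, 2, 3, 1, 0, 2, 3, 4, 5, 8, 0, 2, 3, 4, 1, 3, 2, 0, 3,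 2, 4, 3, 5, 4, 6, 5, 5, 6, 4, 5, 0, 2, 3, 1, 4, 3, 2, 0], [1, 3, 2, 4, 3, 1, 6, 5, 4, 3, 2, 0, 4, 3, 5, 4, 6, 5, 4, 3, 3, 1, 4, 3, 5, 6, 4, 5, 3, 4, 2, 3, 0, 2, 3, 4, 5, 1, 3, 4, 2, 3, 1, 0, 2, 3, 4, 5, 8, 3, 2, 0, 1, 3, 2, 5, 4, 3, 1, 6, 5, 4, 3, 2, 0, 3, 2, 1, 3, 5, 4, 6, 5], [1, 3, 2, 4, 3, 1, 6, 5, 4, 3, 2, 0, 4, 3, 5, 4, 6, 5, 4, 3, 3, 1, 4, 3, 5, 6, 4, 5, 3, 4, 2, 3, 0, 2, 3, 4, 5, 1, 3, 4, 2, 3, 1, 0, 2, 3, 4, 5, 8, 0, 2, 3, 4, 1, 3, 2, 0, 3, 2, 4, 3, 5, 4, 6, 5, 5, 6, 4, 5, 0, 2, 3, 1, 4, 3, 2, 0]] = true := by decide +kernel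

theorem set6_3 : setOk goodE8 swap P6 Q6 L7 [204, 166, 137] [[6, 5, 4, 3, 2, 0, 1, 3, 4, 5, 2, 3], [6, 5, 4, 3, 2, 0, 1, 3, 4, 5, 2, 3, 5, 6, 4, 5, 0, 2, 3, 1, 4, 3, 2, 0], [0, 1, 3, 2, 5, 4, 3, 1, 6, 5, 4, 3, 2, 0, 5, 4, 6, 5, 2, 4, 1, 3, 3, 1, 4, 3, 5, 6, 4, 5, 3, 4, 2, 3, 0, 2, 3, 4, 5, 1, 3, 4, 2, 3, 1, 0, 2, 3, 4, 5, 8, 0, 2, 3, 4, 1, 3, 2, 0, 3, 2, 4, 3, 5, 4, 6, 5, 5, 6, 4, 5, 0, 2, 3, 1, 4, 3, 2, 0], [0, 1, 3, 2, 5, 4, 3, 1, 6, 5, 4, 3, 2, 0, 5, 4, 6, 5, 2, 4, 1, 3, 3, 1, 4, 3, 5, 6, 4, 5, 3, 4, 2, 3, 0, 2, 3, 4, 5, 1, 3, 4, 2, 3, 1, 0, 2, 3, 4, 5, 8, 0, 3, 4, 1, 3, 2, 5, 4, 3, 1, 6, 5, 4, 3, 2, 0, 3, 4, 1, 3,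 5, 4, 6, 5, 3, 4, 1, 3, 3, 1, 4, 3, 5, 6, 4, 5, 3, 4, 2, 3, 0, 2, 3, 4, 5, 1, 3, 4, 2, 3, 1, 0, 2, 3, 4, 5, 8, 0, 2, 5, 4, 3, 1, 6, 5, 4, 3, 2, 0, 5, 4, 3, 2, 1, 3, 4, 5, 3, 2, 4, 3, 5, 6, 4, 5, 0, 2, 3, 1, 4, 3, 2, 0], [0, 1, 3, 2, 5, 4, 3, 1, 6, 5, 4, 3, 2, 0, 5, 4, 6, 5, 4, 3, 3, 1, 4, 3, 5, 6, 4, 5, 3, 4, 2, 3, 0, 2, 3, 4, 5, 1, 3, 4, 2, 3, 1, 0, 2, 3, 4, 5, 8, 0, 2, 5, 4, 3, 1, 6, 5, 4, 3, 2, 0, 5, 4, 3, 2, 1, 3, 4, 5, 3, 2, 4, 3, 5, 6, 4, 5, 0, 2, 3, 1, 4, 3, 2, 0], [0, 1, 3, 2, 5, 4, 3, 1, 6, 5, 4, 3, 2, 0, 5, 4, 6, 5, 2, 4, 1, 3, 3, 1, 4, 3, 5, 6, 4, 5, 3, 4, 2, 3, 0, 2, 3, 4, 5, 1, 3, 4, 2, 3, 1, 0, 2, 3, 4, 5,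 8, 0, 3, 4, 1, 3, 2, 5, 4, 3, 1, 6, 5, 4, 3, 2, 0, 3, 4, 1, 3, 5, 4, 6, 5, 3, 4, 1, 3, 3, 1, 4, 3, 5, 6, 4, 5, 3, 4, 2, 3, 0, 2, 3, 4, 5, 1, 3, 4, 2, 3, 1, 0, 2, 3, 4, 5, 8, 0, 2, 5, 4, 3, 1, 6, 5, 4, 3, 2, 0, 5, 4, 3, 2, 1, 3, 4, 5, 3, 2, 4, 3, 5, 6, 4, 5, 0, 2, 3, 1, 4, 3, 2, 0], [6, 5, 4, 3, 2, 0, 1, 3, 4, 5, 2, 3, 0, 2, 3, 1, 4, 3, 2, 0], [0, 1, 3, 2, 5, 4, 3, 1, 6, 5, 4, 3, 2, 0, 5, 4, 6, 5, 2, 4, 1, 3, 3, 1, 4, 3, 5, 6, 4, 5, 3, 4, 2, 3, 0, 2, 3, 4, 5, 1, 3, 4, 2, 3, 1, 0, 2, 3, 4, 5, 8, 0, 2, 3, 4, 1, 3, 2, 0, 3, 2, 4, 3, 5, 4, 6, 5, 5, 6, 4, 5, 0, 2, 3, 1, 4, 3, 2, 0], [0, 1, 3, 2, 5, 4, 3, 1, 6, 5, 4, 3, 2, 0,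 5, 4, 6, 5, 2, 4, 1, 3, 3, 1, 4, 3, 5, 6, 4, 5, 3, 4, 2, 3, 0, 2, 3, 4, 5, 1, 3, 4, 2, 3, 1, 0, 2, 3, 4, 5, 8, 0, 3, 4, 1, 3, 2, 5, 4, 3, 1, 6, 5, 4, 3, 2, 0, 3, 4, 1, 3, 5, 4, 6, 5, 3, 4, 1, 3, 3, 1, 4, 3, 5, 6, 4, 5, 3, 4, 2, 3, 0, 2, 3, 4, 5, 1, 3, 4, 2, 3, 1, 0, 2, 3, 4, 5, 8, 0, 2, 5, 4, 3, 1, 6, 5, 4, 3, 2, 0, 5, 4, 3, 2, 1, 3, 4, 5, 3, 2, 4, 3, 5, 6, 4, 5, 0, 2, 3, 1, 4, 3, 2, 0], [1, 3, 2, 4, 3, 1, 6, 5, 4, 3, 2, 0, 5, 4, 6, 5, 4, 3, 3, 1, 4, 3, 5, 6, 4, 5, 3, 4, 2, 3, 0, 2, 3, 4, 5, 1, 3, 4, 2, 3, 1, 0, 2, 3, 4, 5, 8, 0, 2, 5, 4, 3, 1, 6, 5, 4, 3, 2, 0, 5, 4, 3, 2, 1, 3, 4, 5, 3, 2, 4, 3, 5, 6, 4, 5, 0, 2, 3, 1,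 4, 3, 2, 0], [0, 1, 3, 2, 5, 4, 3, 1, 6, 5, 4, 3, 2, 0, 5, 4, 6, 5, 2, 4, 1, 3, 3, 1, 4, 3, 5, 6, 4, 5, 3, 4, 2, 3, 0, 2, 3, 4, 5, 1, 3, 4, 2, 3, 1, 0, 2, 3, 4, 5, 8, 0, 3, 4, 1, 3, 2, 5, 4, 3, 1, 6, 5, 4, 3, 2, 0, 3, 4, 1, 3, 5, 4, 6, 5, 3, 4, 1, 3, 3, 1, 4, 3, 5, 6, 4, 5, 3, 4, 2, 3, 0, 2, 3, 4, 5, 1, 3, 4, 2, 3, 1, 0, 2, 3, 4, 5, 8, 0, 2, 5, 4, 3, 1, 6, 5, 4, 3, 2, 0, 5, 4, 3, 2, 1, 3, 4, 5, 3, 2, 4, 3, 5, 6, 4, 5, 0, 2, 3, 1, 4, 3, 2, 0], [6, 5, 4, 3, 2, 0, 1, 3, 4, 5, 2, 3], [0, 1, 3, 2, 5, 4, 3, 1, 6, 5, 4, 3, 2, 0, 5, 4, 6, 5, 4, 3, 3, 1, 4, 3, 5, 6, 4, 5, 3, 4, 2, 3, 0, 2, 3, 4, 5, 1, 3, 4, 2, 3, 1, 0, 2, 3, 4,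 5, 8, 0, 2, 5, 4, 3, 1, 6, 5, 4, 3, 2, 0, 5, 4, 3, 2, 1, 3, 4, 5, 3, 2, 4, 3, 5, 6, 4, 5, 0, 2, 3, 1, 4, 3, 2, 0], [0, 1, 3, 2, 5, 4, 3, 1, 6, 5, 4, 3, 2, 0, 5, 4, 6, 5, 2, 4, 1, 3, 3, 1, 4, 3, 5, 6, 4, 5, 3, 4, 2, 3, 0, 2, 3, 4, 5, 1, 3, 4, 2, 3, 1, 0, 2, 3, 4, 5, 8, 0, 3, 4, 1, 3, 2, 5, 4, 3, 1, 6, 5, 4, 3, 2, 0, 3, 4, 1, 3, 5, 4, 6, 5, 3, 4, 1, 3, 3, 1, 4, 3, 5, 6, 4, 5, 3, 4, 2, 3, 0, 2, 3, 4, 5, 1, 3, 4, 2, 3, 1, 0, 2, 3, 4, 5, 8, 0, 2, 5, 4, 3, 1, 6, 5, 4, 3, 2, 0, 5, 4, 3, 2, 1, 3, 4, 5, 3, 2, 4, 3, 5, 6, 4, 5, 0, 2, 3, 1, 4, 3, 2, 0], [1, 3, 2, 4, 3, 1, 6, 5, 4, 3, 2, 0, 5, 4, 6, 5, 4, 3, 3, 1, 4, 3, 5, 6, 4, 5,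 3, 4, 2, 3, 0, 2, 3, 4, 5, 1, 3, 4, 2, 3, 1, 0, 2, 3, 4, 5, 8, 0, 2, 5, 4, 3, 1, 6, 5, 4, 3, 2, 0, 5, 4, 3, 2, 1, 3, 4, 5, 3, 2, 4, 3, 5, 6, 4, 5, 0, 2, 3, 1, 4, 3, 2, 0], [0, 1, 3, 2, 5, 4, 3, 1, 6, 5, 4, 3, 2, 0, 5, 4, 6, 5, 2, 4, 1, 3, 3, 1, 4, 3, 5, 6, 4, 5, 3, 4, 2, 3, 0, 2, 3, 4, 5, 1, 3, 4, 2, 3, 1, 0, 2, 3, 4, 5, 8, 0, 3, 4, 1, 3, 2, 5, 4, 3, 1, 6, 5, 4, 3, 2, 0, 3, 4, 1, 3, 5, 4, 6, 5, 3, 4, 1, 3, 3, 1, 4, 3, 5, 6, 4, 5, 3, 4, 2, 3, 0, 2, 3, 4, 5, 1, 3, 4, 2, 3, 1, 0, 2, 3, 4, 5, 8, 0, 2, 5, 4, 3, 1, 6, 5, 4, 3, 2, 0, 5, 4, 3, 2, 1, 3, 4, 5, 3, 2, 4, 3, 5, 6, 4, 5, 0, 2, 3, 1, 4, 3, 2, 0]] = true := by decide +kernel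

theorem set6_4 : setOk goodE8 swap P6 Q6 L7 [204, 166, 137, 130] [[2, 0, 4, 1, 3, 2, 5, 4, 3, 1, 6, 5, 4, 3, 2, 0, 3, 2, 1, 3, 5, 4, 6, 5, 2, 4, 1, 3, 3, 1, 4, 3, 5, 6, 4, 5, 3, 4, 2, 3, 0, 2, 3, 4, 5, 1, 3, 4, 2, 3, 1, 0, 2, 3, 4, 5, 8, 3, 2, 0, 1, 3, 2, 5, 4, 3, 1, 6, 5, 4, 3, 2, 0, 3, 2, 1, 3, 5, 4, 6, 5], [2, 0, 4, 1, 3, 2, 5, 4, 3, 1, 6, 5, 4, 3, 2, 0, 3, 2, 1, 3, 5, 4, 6, 5, 2, 4, 1, 3, 3, 1, 4, 3, 5, 6, 4, 5, 3, 4, 2, 3, 0, 2, 3, 4, 5, 1, 3, 4, 2, 3, 1, 0, 2, 3, 4, 5, 8, 3, 2, 0, 4, 3, 2, 5, 4, 3, 1, 6, 5, 4, 3, 2, 0, 3, 4, 1, 3, 5, 4, 6, 5, 3, 2, 1, 3, 0, 2, 3, 1, 4, 3, 2, 0], [2, 0, 4, 1, 3, 2, 5, 4, 3, 1, 6,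 5, 4, 3, 2, 0, 3, 2, 1, 3, 5, 4, 6, 5, 2, 4, 1, 3, 3, 1, 4, 3, 5, 6, 4, 5, 3, 4, 2, 3, 0, 2, 3, 4, 5, 1, 3, 4, 2, 3, 1, 0, 2, 3, 4, 5, 8, 3, 2, 0, 1, 3, 2, 5, 4, 3, 1, 6, 5, 4, 3, 2, 0, 3, 2, 1, 3, 5, 4, 6, 5, 3, 2, 4, 3, 3, 1, 4, 3, 5, 6, 4, 5, 3, 4, 2, 3, 0, 2, 3, 4, 5, 1, 3, 4, 2, 3, 1, 0, 2, 3, 4, 5, 8, 0, 2, 3, 4, 1, 3, 2, 0, 3, 2, 4, 3, 5, 4, 6, 5, 5, 6, 4, 5, 0, 2, 3, 1, 4, 3, 2, 0], [2, 0, 4, 1, 3, 2, 5, 4, 3, 1, 6, 5, 4, 3, 2, 0, 3, 2, 1, 3, 5, 4, 6, 5, 2, 4, 1, 3, 3, 1, 4, 3, 5, 6, 4, 5, 3, 4, 2, 3, 0, 2, 3, 4, 5, 1, 3, 4, 2, 3, 1, 0, 2, 3, 4, 5, 8, 3, 2, 0, 1, 3, 2, 5, 4, 3, 1, 6, 5, 4, 3, 2, 0, 3, 2, 1, 3, 5,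 4, 6, 5, 3, 2, 4, 3, 3, 1, 4, 3, 5, 6, 4, 5, 3, 4, 2, 3, 0, 2, 3, 4, 5, 1, 3, 4, 2, 3, 1, 0, 2, 3, 4, 5, 8, 3, 2, 0, 1, 3, 2, 5, 4, 3, 1, 6, 5, 4, 3, 2, 0, 3, 4, 1, 3, 5, 4, 6, 5, 3, 4, 1, 3, 3, 1, 4, 3, 5, 6, 4, 5, 3, 4, 2, 3, 0, 2, 3, 4, 5, 1, 3, 4, 2, 3, 1, 0, 2, 3, 4, 5, 8, 0, 2, 5, 4, 3, 1, 6, 5, 4, 3, 2, 0, 5, 4, 3, 2, 1, 3, 4, 5, 3, 2, 4, 3, 5, 6, 4, 5, 0, 2, 3, 1, 4, 3, 2, 0], [2, 0, 4, 1, 3, 2, 5, 4, 3, 1, 6, 5, 4, 3, 2, 0, 3, 2, 1, 3, 5, 4, 6, 5, 2, 4, 1, 3, 3, 1, 4, 3, 5, 6, 4, 5, 3, 4, 2, 3, 0, 2, 3, 4, 5, 1, 3, 4, 2, 3, 1, 0, 2, 3, 4, 5, 8, 3, 2, 0, 1, 3, 2, 5, 4, 3, 1, 6, 5, 4, 3, 2, 0, 3, 4, 1, 3, 5, 4, 6,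 5, 3, 4, 1, 3, 3, 1, 4, 3, 5, 6, 4, 5, 3, 4, 2, 3, 0, 2, 3, 4, 5, 1, 3, 4, 2, 3, 1, 0, 2, 3, 4, 5, 8, 0, 2, 5, 4, 3, 1, 6, 5, 4, 3, 2, 0, 5, 4, 3, 2, 1, 3, 4, 5, 3, 2, 4, 3, 5, 6, 4, 5, 0, 2, 3, 1, 4, 3, 2, 0], [2, 0, 4, 1, 3, 2, 5, 4, 3, 1, 6, 5, 4, 3, 2, 0, 3, 2, 1, 3, 5, 4, 6, 5, 2, 4, 1, 3, 3, 1, 4, 3, 5, 6, 4, 5, 3, 4, 2, 3, 0, 2, 3, 4, 5, 1, 3, 4, 2, 3, 1, 0, 2, 3, 4, 5, 8, 3, 2, 0, 1, 3, 2, 5, 4, 3, 1, 6, 5, 4, 3, 2, 0, 3, 2, 1, 3, 5, 4, 6, 5, 3, 2, 4, 3, 3, 1, 4, 3, 5, 6, 4, 5, 3, 4, 2, 3, 0, 2, 3, 4, 5, 1, 3, 4, 2, 3, 1, 0, 2, 3, 4, 5, 8, 3, 2, 0, 1, 3, 2, 5, 4, 3, 1, 6, 5, 4, 3, 2, 0, 3, 4, 1, 3, 5, 4, 6, 5, 3,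 4, 1, 3, 3, 1, 4, 3, 5, 6, 4, 5, 3, 4, 2, 3, 0, 2, 3, 4, 5, 1, 3, 4, 2, 3, 1, 0, 2, 3, 4, 5, 8, 0, 2, 5, 4, 3, 1, 6, 5, 4, 3, 2, 0, 5, 4, 3, 2, 1, 3, 4, 5, 3, 2, 4, 3, 5, 6, 4, 5, 0, 2, 3, 1, 4, 3, 2, 0], [2, 0, 4, 1, 3, 2, 5, 4, 3, 1, 6, 5, 4, 3, 2, 0, 3, 2, 1, 3, 5, 4, 6, 5, 2, 4, 1, 3, 3, 1, 4, 3, 5, 6, 4, 5, 3, 4, 2, 3, 0, 2, 3, 4, 5, 1, 3, 4, 2, 3, 1, 0, 2, 3, 4, 5, 8, 0, 2, 5, 4, 3, 1, 6, 5, 4, 3, 2, 0, 5, 4, 3, 2, 1, 3, 4, 5, 3, 2, 4, 3, 5, 6, 4, 5, 0, 2, 3, 1, 4, 3, 2, 0], [2, 0, 4, 1, 3, 2, 5, 4, 3, 1, 6, 5, 4, 3, 2, 0, 3, 2, 1, 3, 5, 4, 6, 5, 2, 4, 1, 3, 3, 1, 4, 3, 5, 6, 4, 5, 3, 4, 2, 3, 0, 2, 3, 4, 5, 1, 3,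 4, 2, 3, 1, 0, 2, 3, 4, 5, 8, 3, 2, 0, 1, 3, 2, 5, 4, 3, 1, 6, 5, 4, 3, 2, 0, 3, 2, 1, 3, 5, 4, 6, 5, 3, 2, 4, 3, 3, 1, 4, 3, 5, 6, 4, 5, 3, 4, 2, 3, 0, 2, 3, 4, 5, 1, 3, 4, 2, 3, 1, 0, 2, 3, 4, 5, 8, 0, 2, 3, 4, 1, 3, 2, 0, 3, 2, 4, 3, 5, 4, 6, 5, 5, 6, 4, 5, 0, 2, 3, 1, 4, 3, 2, 0], [2, 0, 4, 1, 3, 2, 5, 4, 3, 1, 6, 5, 4, 3, 2, 0, 3, 2, 1, 3, 5, 4, 6, 5, 2, 4, 1, 3, 3, 1, 4, 3, 5, 6, 4, 5, 3, 4, 2, 3, 0, 2, 3, 4, 5, 1, 3, 4, 2, 3, 1, 0, 2, 3, 4, 5, 8, 3, 2, 0, 1, 3, 2, 5, 4, 3, 1, 6, 5, 4, 3, 2, 0, 3, 2, 1, 3, 5, 4, 6, 5, 3, 2, 4, 3, 3, 1, 4, 3, 5, 6, 4, 5, 3, 4, 2, 3, 0, 2, 3, 4, 5, 1, 3, 4, 2, 3, 1, 0, 2, 3, 4, 5, 8,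 3, 2, 0, 1, 3, 2, 5, 4, 3, 1, 6, 5, 4, 3, 2, 0, 3, 4, 1, 3, 5, 4, 6, 5, 3, 4, 1, 3, 3, 1, 4, 3, 5, 6, 4, 5, 3, 4, 2, 3, 0, 2, 3, 4, 5, 1, 3, 4, 2, 3, 1, 0, 2, 3, 4, 5, 8, 0, 2, 5, 4, 3, 1, 6, 5, 4, 3, 2, 0, 5, 4, 3, 2, 1, 3, 4, 5, 3, 2, 4, 3, 5, 6, 4, 5, 0, 2, 3, 1, 4, 3, 2, 0], [2, 0, 4, 1, 3, 2, 5, 4, 3, 1, 6, 5, 4, 3, 2, 0, 3, 2, 1, 3, 5, 4, 6, 5, 2, 4, 1, 3, 3, 1, 4, 3, 5, 6, 4, 5, 3, 4, 2, 3, 0, 2, 3, 4, 5, 1, 3, 4, 2, 3, 1, 0, 2, 3, 4, 5, 8, 0, 3, 4, 1, 3, 2, 5, 4, 3, 1, 6, 5, 4, 3, 2, 0, 3, 4, 1, 3, 5, 4, 6, 5, 3, 4, 1, 3, 3, 1, 4, 3, 5, 6, 4, 5, 3, 4, 2, 3, 0, 2, 3, 4, 5, 1, 3, 4, 2, 3, 1, 0, 2, 3, 4, 5, 8, 0, 2,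 5, 4, 3, 1, 6, 5, 4, 3, 2, 0, 5, 4, 3, 2, 1, 3, 4, 5, 3, 2, 4, 3, 5, 6, 4, 5, 0, 2, 3, 1, 4, 3, 2, 0], [2, 0, 4, 1, 3, 2, 5, 4, 3, 1, 6, 5, 4, 3, 2, 0, 3, 2, 1, 3, 5, 4, 6, 5, 2, 4, 1, 3, 3, 1, 4, 3, 5, 6, 4, 5, 3, 4, 2, 3, 0, 2, 3, 4, 5, 1, 3, 4, 2, 3, 1, 0, 2, 3, 4, 5, 8, 3, 2, 0, 1, 3, 2, 5, 4, 3, 1, 6, 5, 4, 3, 2, 0, 3, 2, 1, 3, 5, 4, 6, 5, 3, 2, 4, 3, 3, 1, 4, 3, 5, 6, 4, 5, 3, 4, 2, 3, 0, 2, 3, 4, 5, 1, 3, 4, 2, 3, 1, 0, 2, 3, 4, 5, 8, 3, 2, 0, 1, 3, 2, 5, 4, 3, 1, 6, 5, 4, 3, 2, 0, 3, 4, 1, 3, 5, 4, 6, 5, 3, 4, 1, 3, 3, 1, 4, 3, 5, 6, 4, 5, 3, 4, 2, 3, 0, 2, 3, 4, 5, 1, 3, 4, 2, 3, 1, 0, 2, 3, 4, 5, 8, 0, 2, 5, 4,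 3, 1, 6, 5, 4, 3, 2, 0, 5, 4, 3, 2, 1, 3, 4, 5, 3, 2, 4, 3, 5, 6, 4, 5, 0, 2, 3, 1, 4, 3, 2, 0], [2, 0, 4, 1, 3, 2, 5, 4, 3, 1, 6, 5, 4, 3, 2, 0, 3, 2, 1, 3, 5, 4, 6, 5, 2, 4, 1, 3, 3, 1, 4, 3, 5, 6, 4, 5, 3, 4, 2, 3, 0, 2, 3, 4, 5, 1, 3, 4, 2, 3, 1, 0, 2, 3, 4, 5, 8, 0, 2, 3, 4, 1, 3, 2, 0, 3, 2, 4, 3, 5, 4, 6, 5, 5, 6, 4, 5, 0, 2, 3, 1, 4, 3, 2, 0], [2, 0, 4, 1, 3, 2, 5, 4, 3, 1, 6, 5, 4, 3, 2, 0, 3, 2, 1, 3, 5, 4, 6, 5, 2, 4, 1, 3, 3, 1, 4, 3, 5, 6, 4, 5, 3, 4, 2, 3, 0, 2, 3, 4, 5, 1, 3, 4, 2, 3, 1, 0, 2, 3, 4, 5, 8, 3, 2, 0, 1, 3, 2, 5, 4, 3, 1, 6, 5, 4, 3, 2, 0, 3, 4, 1, 3, 5, 4, 6, 5, 3, 4, 1, 3, 3, 1, 4, 3, 5, 6,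 4, 5, 3, 4, 2, 3, 0, 2, 3, 4, 5, 1, 3, 4, 2, 3, 1, 0, 2, 3, 4, 5, 8, 0, 2, 5, 4, 3, 1, 6, 5, 4, 3, 2, 0, 5, 4, 3, 2, 1, 3, 4, 5, 3, 2, 4, 3, 5, 6, 4, 5, 0, 2, 3, 1, 4, 3, 2, 0], [2, 0, 4, 1, 3, 2, 5, 4, 3, 1, 6, 5, 4, 3, 2, 0, 3, 2, 1, 3, 5, 4, 6, 5, 2, 4, 1, 3, 3, 1, 4, 3, 5, 6, 4, 5, 3, 4, 2, 3, 0, 2, 3, 4, 5, 1, 3, 4, 2, 3, 1, 0, 2, 3, 4, 5, 8, 3, 2, 0, 1, 3, 2, 5, 4, 3, 1, 6, 5, 4, 3, 2, 0, 3, 2, 1, 3, 5, 4, 6, 5, 3, 2, 4, 3, 3, 1, 4, 3, 5, 6, 4, 5, 3, 4, 2, 3, 0, 2, 3, 4, 5, 1, 3, 4, 2, 3, 1, 0, 2, 3, 4, 5, 8, 3, 2, 0, 1, 3, 2, 5, 4, 3, 1, 6, 5, 4, 3, 2, 0, 3, 4, 1, 3, 5, 4, 6, 5, 3, 4, 1, 3, 3, 1, 4, 3, 5, 6, 4, 5,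 3, 4, 2, 3, 0, 2, 3, 4, 5, 1, 3, 4, 2, 3, 1, 0, 2, 3, 4, 5, 8, 0, 2, 5, 4, 3, 1, 6, 5, 4, 3, 2, 0, 5, 4, 3, 2, 1, 3, 4, 5, 3, 2, 4, 3, 5, 6, 4, 5, 0, 2, 3, 1, 4, 3, 2, 0], [2, 0, 4, 1, 3, 2, 5, 4, 3, 1, 6, 5, 4, 3, 2, 0, 3, 2, 1, 3, 5, 4, 6, 5, 2, 4, 1, 3, 3, 1, 4, 3, 5, 6, 4, 5, 3, 4, 2, 3, 0, 2, 3, 4, 5, 1, 3, 4, 2, 3, 1, 0, 2, 3, 4, 5, 8, 0, 3, 4, 1, 3, 2, 5, 4, 3, 1, 6, 5, 4, 3, 2, 0, 3, 4, 1, 3, 5, 4, 6, 5, 3, 4, 1, 3, 3, 1, 4, 3, 5, 6, 4, 5, 3, 4, 2, 3, 0, 2, 3, 4, 5, 1, 3, 4, 2, 3, 1, 0, 2, 3, 4, 5, 8, 0, 2, 5, 4, 3, 1, 6, 5, 4, 3, 2, 0, 5, 4, 3, 2, 1, 3, 4, 5, 3, 2, 4, 3, 5, 6, 4, 5, 0, 2, 3, 1, 4, 3, 2, 0], [2,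 0, 4, 1, 3, 2, 5, 4, 3, 1, 6, 5, 4, 3, 2, 0, 3, 2, 1, 3, 5, 4, 6, 5, 2, 4, 1, 3, 3, 1, 4, 3, 5, 6, 4, 5, 3, 4, 2, 3, 0, 2, 3, 4, 5, 1, 3, 4, 2, 3, 1, 0, 2, 3, 4, 5, 8, 3, 2, 0, 1, 3, 2, 5, 4, 3, 1, 6, 5, 4, 3, 2, 0, 3, 2, 1, 3, 5, 4, 6, 5, 3, 2, 4, 3, 3, 1, 4, 3, 5, 6, 4, 5, 3, 4, 2, 3, 0, 2, 3, 4, 5, 1, 3, 4, 2, 3, 1, 0, 2, 3, 4, 5, 8, 3, 2, 0, 1, 3, 2, 5, 4, 3, 1, 6, 5, 4, 3, 2, 0, 3, 4, 1, 3, 5, 4, 6, 5, 3, 4, 1, 3, 3, 1, 4, 3, 5, 6, 4, 5, 3, 4, 2, 3, 0, 2, 3, 4, 5, 1, 3, 4, 2, 3, 1, 0, 2, 3, 4, 5, 8, 0, 2, 5, 4, 3, 1, 6, 5, 4, 3, 2, 0, 5, 4, 3, 2, 1, 3, 4, 5, 3, 2, 4, 3, 5, 6, 4, 5, 0, 2, 3, 1, 4, 3, 2, 0]] = true :=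 by decide +kernel

end Cfsg.Agent.H65.Inv.E8
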