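import Cfsg.Agent.H65.Inv.E8.Base

/-!
Checks of the Heisenberg level of type E8 (generated data).
-/

set_option autoImplicit false
set_option maxRecDepth 100000

open Cfsg.Lie Cfsg.Agent.H46

namespace Cfsg.Agent.H65.Inv.E8

/-- The tree of set 0. -/
def tree0 : Z.Tree := .node [] [(120, [6, 5, 4, 3, 2, 0, 1, 3, 2, 4, 3, 1, 5, 4, 3, 2, 0, 6, 5, 4, 3, 2, 1, 3, 4, 5, 6]), (122, [5, 4, 3, 2, 0, 1, 3, 2, 4, 3, 1, 5, 4, 3, 2, 0, 6, 5, 4, 3, 2, 1, 3, 4, 5, 6]), (125, [4, 3, 2, 0, 1, 3, 2, 4, 3, 1, 5, 4, 3, 2, 0, 6, 5, 4, 3, 2, 1, 3, 4, 5, 6]), (129, [3, 2, 0, 1, 3, 2, 4, 3, 1, 5, 4, 3, 2, 0, 6, 5, 4, 3, 2, 1, 3, 4, 5, 6]), (134, [2, 0, 1, 3, 2, 4, 3, 1, 5, 4, 3, 2, 0, 6, 5, 4, 3, 2, 1, 3, 4, 5,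 6]), (140, [0, 1, 3, 2, 4, 3, 1, 5, 4, 3, 2, 0, 6, 5, 4, 3, 2, 1, 3, 4, 5, 6]), (146, [2, 0, 3, 2, 4, 3, 1, 5, 4, 3, 2, 0, 6, 5, 4, 3, 2, 1, 3, 4, 5, 6]), (151, [0, 3, 2, 4, 3, 1, 5, 4, 3, 2, 0, 6, 5, 4, 3, 2, 1, 3, 4, 5, 6]), (155, [0, 2, 4, 3, 1, 5, 4, 3, 2, 0, 6, 5, 4, 3, 2, 1, 3, 4, 5, 6]), (158, [0, 2, 3, 1, 5, 4, 3, 2, 0, 6, 5, 4, 3, 2, 1, 3, 4, 5, 6]), (160, [0, 2, 3, 4, 1, 3, 2, 0, 6, 5, 4, 3, 2, 1, 3, 4, 5, 6]), (161, [0, 2, 3, 4, 1, 3, 2, 0, 5, 4, 3, 2, 1, 3, 4, 5, 6]), (168, [1, 3, 2, 4, 3, 1, 5, 4, 3, 2, 0, 6, 5, 4, 3, 2, 1, 3, 4, 5, 6]), (173, [3, 2, 4, 3, 1, 5, 4, 3, 2, 0, 6, 5, 4, 3, 2, 1, 3, 4, 5, 6]), (177, [2, 4, 3, 1, 5, 4, 3, 2, 0, 6, 5, 4, 3, 2, 1, 3, 4, 5, 6]), (180,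 [2, 3, 1, 5, 4, 3, 2, 0, 6, 5, 4, 3, 2, 1, 3, 4, 5, 6]), (182, [2, 3, 4, 1, 3, 2, 0, 6, 5, 4, 3, 2, 1, 3, 4, 5, 6]), (183, [2, 3, 4, 1, 3, 2, 0, 5, 4, 3, 2, 1, 3, 4, 5, 6]), (187, [4, 3, 1, 5, 4, 3, 2, 0, 6, 5, 4, 3, 2, 1, 3, 4, 5, 6]), (190, [3, 1, 5, 4, 3, 2, 0, 6, 5, 4, 3, 2, 1, 3, 4, 5, 6]), (192, [3, 4, 1, 3, 2, 0, 6, 5, 4, 3, 2, 1, 3, 4, 5, 6]), (193, [3, 4, 1, 3, 2, 0, 5, 4, 3, 2, 1, 3, 4, 5, 6]), (196, [1, 5, 4, 3, 2, 0, 6, 5, 4, 3, 2, 1, 3, 4, 5, 6]), (198, [4, 1, 3, 2, 0, 6, 5, 4, 3, 2, 1, 3, 4, 5, 6]), (199, [4, 1, 3, 2, 0, 5, 4, 3, 2, 1, 3, 4, 5, 6]), (201, [1, 3, 2, 0, 6, 5, 4, 3, 2, 1, 3, 4, 5, 6]), (202, [1, 3, 2, 0, 5, 4, 3, 2, 1, 3, 4, 5, 6]), (203, [1, 3, 2, 0, 4, 3, 2, 1,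 3, 4, 5, 6]), (206, [5, 4, 3, 2, 0, 6, 5, 4, 3, 2, 1, 3, 4, 5, 6]), (208, [4, 3, 2, 0, 6, 5, 4, 3, 2, 1, 3, 4, 5, 6]), (209, [4, 3, 2, 0, 5, 4, 3, 2, 1, 3, 4, 5, 6]), (211, [3, 2, 0, 6, 5, 4, 3, 2, 1, 3, 4, 5, 6]), (212, [3, 2, 0, 5, 4, 3, 2, 1, 3, 4, 5, 6]), (213, [3, 2, 0, 4, 3, 2, 1, 3, 4, 5, 6]), (215, [2, 0, 6, 5, 4, 3, 2, 1, 3, 4, 5, 6]), (216, [2, 0, 5, 4, 3, 2, 1, 3, 4, 5, 6]), (217, [2, 0, 4, 3, 2, 1, 3, 4, 5, 6]), (218, [2, 0, 3, 2, 1, 3, 4, 5, 6]), (220, [0, 6, 5, 4, 3, 2, 1, 3, 4, 5, 6]), (221, [0, 5, 4, 3, 2, 1, 3, 4, 5, 6]), (222, [0, 4, 3, 2, 1, 3, 4, 5, 6]), (223, [0, 3, 2, 1, 3, 4, 5, 6]), (224, [0, 2, 1, 3, 4, 5, 6]), (225, [0, 2, 3, 4, 5, 6]), (227, [6, 5, 4, 3, 2, 1, 3,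 4, 5, 6]), (228, [5, 4, 3, 2, 1, 3, 4, 5, 6]), (229, [4, 3, 2, 1, 3, 4, 5, 6]), (230, [3, 2, 1, 3, 4, 5, 6]), (231, [2, 1, 3, 4, 5, 6]), (232, [1, 3, 4, 5, 6]), (233, [2, 3, 4, 5, 6]), (234, [3, 4, 5, 6]), (235, [4, 5, 6]), (236, [5, 6]), (237, [6]), (238, [])] (.cons 238 (.node [7] [(122, [5, 4, 3, 2, 0, 1, 3, 2, 4, 3, 1, 5, 4, 3, 2, 0]), (125, [4, 3, 2, 0, 1, 3, 2, 4, 3, 1, 5, 4, 3, 2, 0]), (129, [3, 2, 0, 1, 3, 2, 4, 3, 1, 5, 4, 3, 2, 0]), (134, [2, 0, 1, 3, 2, 4, 3, 1, 5, 4, 3, 2, 0]), (140, [0, 1, 3, 2, 4, 3, 1, 5, 4, 3, 2, 0]), (146, [2, 0, 3, 2, 4, 3, 1, 5, 4, 3, 2, 0]), (151, [0, 3, 2, 4, 3, 1, 5, 4, 3, 2, 0]), (155, [0, 2, 4, 3, 1, 5, 4, 3, 2, 0]), (158, [0, 2, 3, 1, 5, 4, 3, 2, 0]),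 (160, [0, 2, 3, 4, 1, 3, 2, 0]), (168, [1, 3, 2, 4, 3, 1, 5, 4, 3, 2, 0]), (173, [3, 2, 4, 3, 1, 5, 4, 3, 2, 0]), (177, [2, 4, 3, 1, 5, 4, 3, 2, 0]), (180, [2, 3, 1, 5, 4, 3, 2, 0]), (182, [2, 3, 4, 1, 3, 2, 0]), (187, [4, 3, 1, 5, 4, 3, 2, 0]), (190, [3, 1, 5, 4, 3, 2, 0]), (192, [3, 4, 1, 3, 2, 0]), (196, [1, 5, 4, 3, 2, 0]), (198, [4, 1, 3, 2, 0]), (201, [1, 3, 2, 0]), (206, [5, 4, 3, 2, 0]), (208, [4, 3, 2, 0]), (211, [3, 2, 0]), (215, [2, 0]), (220, [0]), (227, [])] (.cons 227 (.node [7, 7, 6, 5, 4, 3, 1] [(122, [5, 4, 3, 2, 1, 3, 4, 5]), (125, [4, 3, 2, 1, 3, 4, 5]), (129, [3, 2, 1, 3, 4, 5]), (134, [2, 1, 3, 4, 5]), (140, [1, 3, 4, 5]), (146, [2, 3, 4, 5]), (151, [3, 4, 5]), (155, [4,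 5]), (158, [5]), (160, [])] (.cons 160 (.node [7, 0, 2, 3, 4, 7, 6, 5, 4, 3, 2, 1, 3, 4, 5] [(122, [])] (.cons 122 (.node [5, 4, 3, 1, 2, 0, 3, 2, 4, 3, 1, 5, 4, 3, 2, 0, 6, 5, 4, 3, 1, 2, 3, 4, 5, 6, 7, 5, 4, 3, 1, 2, 0, 3, 2, 4, 3, 1, 5, 4, 3, 2, 0, 5, 4, 3, 1, 2, 3, 4, 5, 5, 6, 4, 5, 3, 2, 1, 3, 0, 2, 3, 4, 5, 6, 1, 3, 4, 5, 2, 3, 4, 1, 3, 0, 7, 6, 5, 4, 3, 2, 1, 3, 4, 5, 6, 7, 0, 2, 3, 4, 5, 1, 3, 4, 2, 3, 0, 2, 1, 3, 4, 5, 8, 3, 1, 2, 0, 3, 2, 5, 4, 3, 1, 6, 5, 4, 3, 2, 0, 7, 6, 5, 4, 3, 1, 2, 3, 4, 5, 6, 7, 3, 1, 2, 0, 3, 2, 5, 4, 3, 1, 6, 5, 4, 3, 2, 0, 5, 4, 6, 5, 0, 2, 3, 4, 7, 6, 5, 4, 3, 2, 1, 3, 4, 5] [] (.nil))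
    (.nil)))
    (.nil)))
    (.nil)))
    (.nil))

theorem set7_0 : Z.setOk goodE8 swap P7 Q7 L8 [] [] tree0 = true := by decide +kernel

end Cfsg.Agent.H65.Inv.E8
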