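import Cfsg.Agent.H65.Inv.E8.Base

/-!
Checks of the Heisenberg level of type E8 (generated data).
-/

set_option autoImplicit false
set_option maxRecDepth 100000

open Cfsg.Lie Cfsg.Agent.H46

namespace Cfsg.Agent.H65.Inv.E8

/-- The tree of set 1. -/
def tree1 : Z.Tree := .node [7, 6, 5, 4, 3, 1, 2, 3, 4, 5, 6, 7] [(168, [1, 3, 2, 4, 3, 1, 5, 4, 3, 2, 6, 5, 4, 3, 1]), (173, [3, 2, 4, 3, 1, 5, 4, 3, 2, 6, 5, 4, 3, 1]), (177, [2, 4, 3, 1, 5, 4, 3, 2, 6, 5, 4, 3, 1]), (180, [2, 3, 1, 5, 4, 3, 2, 6, 5, 4, 3, 1]), (182, [2, 3, 4, 1, 3, 2, 6, 5, 4, 3, 1]), (183, [2, 3, 4, 1, 3, 2, 5, 4, 3, 1]), (187, [4, 3, 1, 5, 4, 3, 2, 6, 5, 4, 3, 1]), (190, [3, 1, 5, 4, 3, 2, 6, 5, 4, 3, 1]), (192, [3, 4, 1, 3, 2, 6, 5, 4, 3, 1]), (193, [3, 4, 1,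 3, 2, 5, 4, 3, 1]), (196, [1, 5, 4, 3, 2, 6, 5, 4, 3, 1]), (198, [4, 1, 3, 2, 6, 5, 4, 3, 1]), (199, [4, 1, 3, 2, 5, 4, 3, 1]), (201, [1, 3, 2, 6, 5, 4, 3, 1]), (202, [1, 3, 2, 5, 4, 3, 1]), (203, [1, 3, 2, 4, 3, 1]), (206, [5, 4, 3, 2, 6, 5, 4, 3, 1]), (208, [4, 3, 2, 6, 5, 4, 3, 1]), (209, [4, 3, 2, 5, 4, 3, 1]), (211, [3, 2, 6, 5, 4, 3, 1]), (212, [3, 2, 5, 4, 3, 1]), (213, [3, 2, 4, 3, 1]), (215, [2, 6, 5, 4, 3, 1]), (216, [2, 5, 4, 3, 1]), (217, [2, 4, 3, 1]), (218, [2, 3, 1]), (220, [6, 5, 4, 3, 1]), (221, [5, 4, 3, 1]), (222, [4, 3, 1]), (223, [3, 1]), (224, [1]), (225, [])] (.cons 225 (.node [7, 6, 5, 4, 3, 1, 2, 3, 4, 5, 6, 7, 0, 7, 6, 5, 4, 3, 1] [(173, [3, 2, 4, 3, 5, 4, 6, 5]), (177, [2, 4, 3, 5, 4, 6, 5]), (180, [2,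 3, 5, 4, 6, 5]), (182, [2, 3, 4, 6, 5]), (183, [2, 3, 4, 5]), (187, [4, 3, 5, 4, 6, 5]), (190, [3, 5, 4, 6, 5]), (192, [3, 4, 6, 5]), (193, [3, 4, 5]), (196, [5, 4, 6, 5]), (198, [4, 6, 5]), (199, [4, 5]), (201, [6, 5]), (202, [5]), (203, [])] (.cons 203 (.node [7, 6, 5, 4, 3, 1, 2, 3, 4, 5, 6, 7, 0, 0, 2, 3, 4, 7, 6, 5, 4, 3, 2, 1, 3, 4, 5] [(173, [3, 2, 4, 3]), (177, [2, 4, 3]), (180, [2, 3]), (187, [4, 3]), (190, [3]), (196, [])] (.cons 196 (.node [7, 6, 5, 4, 3, 1, 2, 3, 4, 5, 6, 7, 0, 5, 4, 0, 2, 3, 4, 5, 6, 7, 6, 5, 4, 3, 2, 1, 3, 4, 5, 6, 7] [(173, [])] (.cons 173 (.node [3, 2, 4, 3, 1, 5, 4, 3, 2, 0, 6, 5, 4, 3, 1, 2, 3, 4, 5, 6, 7, 2, 0, 3, 2, 4, 3, 1, 5, 4, 3, 2, 0, 3, 1, 2, 3, 4, 5, 5, 6, 4, 5, 3, 2, 1, 3, 0, 2, 3, 4,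 5, 6, 1, 3, 4, 5, 2, 3, 4, 1, 3, 0, 7, 6, 5, 4, 3, 2, 1, 3, 4, 5, 6, 7, 0, 2, 3, 4, 5, 1, 3, 4, 2, 3, 0, 2, 1, 3, 4, 5, 8, 3, 1, 2, 0, 3, 2, 5, 4, 3, 1, 6, 5, 4, 3, 2, 0, 3, 1, 2, 3, 5, 4, 6, 5, 5, 4, 0, 2, 3, 4, 5, 6, 7, 6, 5, 4, 3, 2, 1, 3, 4, 5, 6, 7] [] (.nil))
    (.nil)))
    (.nil)))
    (.nil)))
    (.nil))

theorem set7_1 : Z.setOk goodE8 swap P7 Q7 L8 [226] [7, 6, 5, 4, 3, 1, 2, 3, 4, 5, 6, 7, 7, 6, 5, 4, 3, 1] tree1 = true := by decide +kernel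

end Cfsg.Agent.H65.Inv.E8
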