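import Cfsg.Agent.H65.Inv.E8.Base

/-!
Checks of the Heisenberg level of type E8 (generated data).
-/

set_option autoImplicit false
set_option maxRecDepth 100000

open Cfsg.Lie Cfsg.Agent.H46

namespace Cfsg.Agent.H65.Inv.E8

/-- The tree of set 2. -/
def tree2 : Z.Tree := .node [7, 6, 5, 4, 3, 1, 2, 3, 4, 5, 6, 7, 0, 2, 3, 1, 4, 3, 2, 0, 7, 6, 5, 4, 3, 1] [(182, [2, 3, 4, 1, 3, 2, 6]), (183, [2, 3, 4, 1, 3, 2]), (192, [3, 4, 1, 3, 2, 6]), (193, [3, 4, 1, 3, 2]), (198, [4, 1, 3, 2, 6]), (199, [4, 1, 3, 2]), (201, [1, 3, 2, 6]), (202, [1, 3, 2]), (208, [4, 3, 2, 6]), (209, [4, 3, 2]), (211, [3, 2, 6]), (212, [3, 2]), (215, [2, 6]), (216, [2]), (220, [6]),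 (221, [])] (.cons 221 (.node [7, 6, 5, 4, 3, 1, 2, 3, 4, 5, 6, 7, 0, 2, 3, 1, 4, 3, 2, 0, 5, 0, 2, 3, 4, 7, 6, 5, 4, 3, 2, 1, 3, 4, 5] [(183, []), (192, [3, 4, 1, 3]), (198, [4, 1, 3]), (201, [1, 3]), (208, [4, 3]), (211, [3]), (215, [])] (.cons 183 (.node [0, 2, 3, 1, 4, 3, 2, 0, 7, 6, 5, 4, 3, 1, 2, 3, 4, 5, 6, 7, 1, 3, 2, 4, 3, 1, 5, 4, 3, 2, 0, 1, 3, 4, 5, 5, 6, 4, 5, 3, 2, 1, 3, 0, 2, 3, 4, 5, 6, 1, 3, 4, 5, 2, 3, 4, 1, 3, 0, 7, 6, 5, 4, 3, 2, 1, 3, 4, 5, 6, 7, 0, 2, 3, 4, 5, 1, 3, 4, 2, 3, 0, 2, 1, 3, 4, 5, 8, 3, 1, 2, 0, 3, 2, 5, 4, 3, 1, 6, 5, 4, 3, 2, 0, 7, 6, 5, 4, 3, 1, 2, 3, 4, 5, 6, 7, 3, 1, 2, 0, 3, 2, 5, 4, 3, 1, 6, 5, 4, 3, 2, 0, 5, 4,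 6, 5, 0, 2, 3, 4, 7, 6, 5, 4, 3, 2, 1, 3, 4, 5] [(192, [3, 4, 1, 3]), (198, [4, 1, 3]), (201, [1, 3]), (208, [4, 3]), (211, [3]), (215, [])] (.cons 215 (.node [0, 2, 3, 1, 4, 3, 2, 0, 7, 6, 5, 4, 3, 1, 2, 3, 4, 5, 6, 7, 1, 3, 2, 4, 3, 1, 5, 4, 3, 2, 0, 1, 3, 4, 5, 5, 6, 4, 5, 3, 2, 1, 3, 0, 2, 3, 4, 5, 6, 1, 3, 4, 5, 2, 3, 4, 1, 3, 0, 7, 6, 5, 4, 3, 2, 1, 3, 4, 5, 6, 7, 0, 2, 3, 4, 5, 1, 3, 4, 2, 3, 0, 2, 1, 3, 4, 5, 8, 3, 1, 2, 0, 3, 2, 5, 4, 3, 1, 6, 5, 4, 3, 2, 0, 3, 1, 2, 3, 5, 4, 6, 5, 5, 4, 0, 2, 3, 4, 5, 6, 7, 6, 5, 4, 3, 2, 1, 3, 4, 5, 6, 7] [(192, [])] (.cons 192 (.node [0, 2, 3, 1, 4, 3, 2, 0, 7, 6, 5, 4, 3, 1, 2, 3, 4, 5, 6, 7, 1, 3, 2, 4,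 3, 1, 5, 4, 3, 2, 0, 1, 3, 4, 5, 5, 6, 4, 5, 3, 2, 1, 3, 0, 2, 3, 4, 5, 6, 1, 3, 4, 5, 2, 3, 4, 1, 3, 0, 7, 6, 5, 4, 3, 2, 1, 3, 4, 5, 6, 7, 0, 2, 3, 4, 5, 1, 3, 4, 2, 3, 0, 2, 1, 3, 4, 5, 8, 3, 1, 2, 0, 3, 2, 5, 4, 3, 1, 6, 5, 4, 3, 2, 0, 7, 6, 5, 4, 3, 1, 2, 3, 4, 5, 6, 7, 3, 1, 2, 0, 3, 2, 5, 4, 3, 1, 6, 5, 4, 3, 2, 0, 5, 4, 3, 1, 2, 3, 4, 5, 5, 6, 4, 5, 3, 2, 1, 3, 0, 2, 3, 4, 5, 6, 1, 3, 4, 5, 2, 3, 4, 1, 3, 0, 7, 6, 5, 4, 3, 2, 1, 3, 4, 5, 6, 7, 0, 2, 3, 4, 5, 1, 3, 4, 2, 3, 0, 2, 1, 3, 4, 5, 8, 3, 1, 2, 0, 3, 2, 5, 4, 3, 1, 6, 5, 4, 3, 2, 0, 3, 1, 2, 3, 5, 4, 6, 5, 5, 4, 0, 2, 3, 4, 5, 6, 7, 6, 5, 4, 3, 2, 1, 3, 4, 5, 6, 7] [] (.nil))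
    (.nil)))
    (.nil)))
    (.cons 215 (.node [7, 6, 5, 4, 3, 1, 2, 3, 4, 5, 6, 7, 0, 2, 3, 1, 4, 3, 2, 0, 5, 5, 4, 0, 2, 3, 4, 5, 6, 7, 6, 5, 4, 3, 2, 1, 3, 4, 5, 6, 7] [(183, []), (192, [])] (.cons 183 (.node [0, 2, 3, 1, 4, 3, 2, 0, 7, 6, 5, 4, 3, 1, 2, 3, 4, 5, 6, 7, 1, 3, 2, 4, 3, 1, 5, 4, 3, 2, 0, 1, 3, 4, 5, 5, 6, 4, 5, 3, 2, 1, 3, 0, 2, 3, 4, 5, 6, 1, 3, 4, 5, 2, 3, 4, 1, 3, 0, 7, 6, 5, 4, 3, 2, 1, 3, 4, 5, 6, 7, 0, 2, 3, 4, 5, 1, 3, 4, 2, 3, 0, 2, 1, 3, 4, 5, 8, 3, 1, 2, 0, 3, 2, 5, 4, 3, 1, 6, 5, 4, 3, 2, 0, 3, 1, 2, 3, 5, 4, 6, 5, 5, 4, 0, 2, 3, 4, 5, 6, 7, 6, 5, 4, 3, 2, 1, 3, 4, 5, 6, 7] [(192, [])] (.cons 192 (.node [0, 2, 3, 1, 4, 3,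 2, 0, 7, 6, 5, 4, 3, 1, 2, 3, 4, 5, 6, 7, 1, 3, 2, 4, 3, 1, 5, 4, 3, 2, 0, 1, 3, 4, 5, 5, 6, 4, 5, 3, 2, 1, 3, 0, 2, 3, 4, 5, 6, 1, 3, 4, 5, 2, 3, 4, 1, 3, 0, 7, 6, 5, 4, 3, 2, 1, 3, 4, 5, 6, 7, 0, 2, 3, 4, 5, 1, 3, 4, 2, 3, 0, 2, 1, 3, 4, 5, 8, 3, 1, 2, 0, 3, 2, 5, 4, 3, 1, 6, 5, 4, 3, 2, 0, 7, 6, 5, 4, 3, 1, 2, 3, 4, 5, 6, 7, 3, 1, 2, 0, 3, 2, 5, 4, 3, 1, 6, 5, 4, 3, 2, 0, 5, 4, 3, 1, 2, 3, 4, 5, 5, 6, 4, 5, 3, 2, 1, 3, 0, 2, 3, 4, 5, 6, 1, 3, 4, 5, 2, 3, 4, 1, 3, 0, 7, 6, 5, 4, 3, 2, 1, 3, 4, 5, 6, 7, 0, 2, 3, 4, 5, 1, 3, 4, 2, 3, 0, 2, 1, 3, 4, 5, 8, 3, 1, 2, 0, 3, 2, 5, 4, 3, 1, 6, 5, 4, 3, 2, 0, 3, 1, 2, 3, 5, 4, 6, 5, 5, 4, 0, 2, 3, 4, 5, 6, 7,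 6, 5, 4, 3, 2, 1, 3, 4, 5, 6, 7] [] (.nil))
    (.nil)))
    (.cons 192 (.node [0, 2, 3, 1, 4, 3, 2, 0, 7, 6, 5, 4, 3, 1, 2, 3, 4, 5, 6, 7, 3, 2, 4, 3, 1, 6, 5, 4, 3, 2, 0, 1, 3, 4, 5, 5, 6, 4, 5, 3, 2, 1, 3, 0, 2, 3, 4, 5, 6, 1, 3, 4, 5, 2, 3, 4, 1, 3, 0, 7, 6, 5, 4, 3, 2, 1, 3, 4, 5, 6, 7, 0, 2, 3, 4, 5, 1, 3, 4, 2, 3, 0, 2, 1, 3, 4, 5, 8, 3, 1, 2, 0, 3, 2, 5, 4, 3, 1, 6, 5, 4, 3, 2, 0, 3, 1, 2, 3, 5, 4, 6, 5, 5, 4, 0, 2, 3, 4, 5, 6, 7, 6, 5, 4, 3, 2, 1, 3, 4, 5, 6, 7] [(183, [])] (.cons 183 (.node [0, 2, 3, 1, 4, 3, 2, 0, 7, 6, 5, 4, 3, 1, 2, 3, 4, 5, 6, 7, 1, 3, 2, 4, 3, 1, 5, 4, 3, 2, 0, 1, 3, 4, 5, 5, 6, 4, 5, 3, 2, 1, 3, 0, 2, 3, 4, 5, 6, 1, 3,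 4, 5, 2, 3, 4, 1, 3, 0, 7, 6, 5, 4, 3, 2, 1, 3, 4, 5, 6, 7, 0, 2, 3, 4, 5, 1, 3, 4, 2, 3, 0, 2, 1, 3, 4, 5, 8, 3, 1, 2, 0, 3, 2, 5, 4, 3, 1, 6, 5, 4, 3, 2, 0, 7, 6, 5, 4, 3, 1, 2, 3, 4, 5, 6, 7, 3, 1, 2, 0, 3, 2, 5, 4, 3, 1, 6, 5, 4, 3, 2, 0, 5, 4, 3, 1, 2, 3, 4, 5, 5, 6, 4, 5, 3, 2, 1, 3, 0, 2, 3, 4, 5, 6, 1, 3, 4, 5, 2, 3, 4, 1, 3, 0, 7, 6, 5, 4, 3, 2, 1, 3, 4, 5, 6, 7, 0, 2, 3, 4, 5, 1, 3, 4, 2, 3, 0, 2, 1, 3, 4, 5, 8, 3, 1, 2, 0, 3, 2, 5, 4, 3, 1, 6, 5, 4, 3, 2, 0, 3, 1, 2, 3, 5, 4, 6, 5, 5, 4, 0, 2, 3, 4, 5, 6, 7, 6, 5, 4, 3, 2, 1, 3, 4, 5, 6, 7] [] (.nil))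
    (.nil)))
    (.nil))))
    (.nil))))
    (.nil))

theorem set7_2 : Z.setOk goodE8 swap P7 Q7 L8 [226, 159] [7, 6, 5, 4, 3, 1, 2, 3, 4, 5, 6, 7, 0, 2, 3, 1, 4, 3, 2, 0, 0, 2, 3, 4, 7, 6, 5, 4, 3, 2, 1, 3, 4, 5] tree2 = true := by decide +kernel

end Cfsg.Agent.H65.Inv.E8
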