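import Cfsg.Agent.H65.Inv.E8.Base

/-!
Checks of the Heisenberg level of type E8 (generated data).
-/

set_option autoImplicit false
set_option maxRecDepth 100000

open Cfsg.Lie Cfsg.Agent.H46

namespace Cfsg.Agent.H65.Inv.E8

/-- The tree of set 4. -/
def tree4 : Z.Tree := .node [7, 6, 5, 4, 3, 1, 2, 3, 4, 5, 6, 7, 0, 2, 3, 1, 4, 3, 2, 0, 5, 4, 6, 5, 0, 2, 3, 4, 7, 6, 5, 4, 3, 2, 1, 3, 4, 5] [(198, [4, 1, 6]), (199, [4, 1]), (201, [1, 6]), (202, [1]), (208, [4, 6]), (209, [4]), (211, [6]), (212, [])] (.cons 212 (.node [7, 6, 5, 4, 3, 1, 2, 3, 4, 5, 6, 7, 0, 2, 3, 1, 4, 3, 2, 0, 5, 4, 6, 5, 3, 5, 4, 0, 2, 3, 4, 5, 6, 7,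 6, 5, 4, 3, 2, 1, 3, 4, 5, 6, 7] [(199, []), (201, []), (208, [])] (.cons 199 (.node [0, 2, 3, 1, 4, 3, 2, 0, 7, 6, 5, 4, 3, 1, 2, 3, 4, 5, 6, 7, 2, 4, 3, 1, 5, 4, 3, 2, 0, 1, 3, 4, 5, 5, 6, 4, 5, 3, 2, 1, 3, 0, 2, 3, 4, 5, 6, 1, 3, 4, 5, 2, 3, 4, 1, 3, 0, 7, 6, 5, 4, 3, 2, 1, 3, 4, 5, 6, 7, 0, 2, 3, 4, 5, 1, 3, 4, 2, 3, 0, 2, 1, 3, 4, 5, 8, 5, 4, 3, 2, 0, 6, 5, 4, 3, 1, 2, 3, 4, 5, 6, 7, 4, 3, 1, 2, 0, 3, 2, 4, 3, 1, 6, 5, 4, 3, 2, 0, 1, 2, 4, 3, 5, 4, 6, 5, 2, 3, 5, 4, 0, 2, 3, 4, 5, 6, 7, 6, 5, 4, 3, 2, 1, 3, 4, 5, 6, 7] [(201, []), (208, [])] (.cons 201 (.node [0, 2, 5, 4, 3, 1, 6, 5, 4, 3, 2, 0, 7, 6, 5, 4, 3, 1,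 2, 3, 4, 5, 6, 7, 0, 2, 5, 4, 3, 1, 6, 5, 4, 3, 2, 0, 1, 3, 4, 6, 5, 5, 6, 4, 5, 3, 2, 1, 3, 0, 2, 3, 4, 5, 6, 1, 3, 4, 5, 2, 3, 4, 1, 3, 0, 7, 6, 5, 4, 3, 2, 1, 3, 4, 5, 6, 7, 0, 2, 3, 4, 5, 1, 3, 4, 2, 3, 0, 2, 1, 3, 4, 5, 8, 3, 1, 2, 0, 3, 2, 5, 4, 3, 1, 6, 5, 4, 3, 2, 0, 7, 6, 5, 4, 3, 1, 2, 3, 4, 5, 6, 7, 3, 1, 2, 0, 3, 2, 5, 4, 3, 1, 6, 5, 4, 3, 2, 0, 1, 3, 4, 5, 5, 6, 4, 5, 3, 2, 1, 3, 0, 2, 3, 4, 5, 6, 1, 3, 4, 5, 2, 3, 4, 1, 3, 0, 7, 6, 5, 4, 3, 2, 1, 3, 4, 5, 6, 7, 0, 2, 3, 4, 5, 1, 3, 4, 2, 3, 0, 2, 1, 3, 4, 5, 8, 0, 1, 2, 3, 4, 5, 6, 7, 1, 2, 0, 4, 3, 2, 5, 4, 3, 1, 6, 5, 4, 3, 2, 0, 4, 3, 1, 2, 3, 4, 6, 5,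 2, 3, 5, 4, 0, 2, 3, 4, 5, 6, 7, 6, 5, 4, 3, 2, 1, 3, 4, 5, 6, 7] [(208, [])] (.cons 208 (.node [0, 2, 5, 4, 3, 1, 6, 5, 4, 3, 2, 0, 7, 6, 5, 4, 3, 1, 2, 3, 4, 5, 6, 7, 0, 2, 5, 4, 3, 1, 6, 5, 4, 3, 2, 0, 1, 3, 4, 6, 5, 5, 6, 4, 5, 3, 2, 1, 3, 0, 2, 3, 4, 5, 6, 1, 3, 4, 5, 2, 3, 4, 1, 3, 0, 7, 6, 5, 4, 3, 2, 1, 3, 4, 5, 6, 7, 0, 2, 3, 4, 5, 1, 3, 4, 2, 3, 0, 2, 1, 3, 4, 5, 8, 3, 1, 2, 0, 3, 2, 5, 4, 3, 1, 6, 5, 4, 3, 2, 0, 7, 6, 5, 4, 3, 1, 2, 3, 4, 5, 6, 7, 3, 1, 2, 0, 3, 2, 5, 4, 3, 1, 6, 5, 4, 3, 2, 0, 1, 3, 4, 5, 5, 6, 4, 5, 3, 2, 1, 3, 0, 2, 3, 4, 5, 6, 1, 3, 4, 5, 2, 3, 4, 1, 3, 0, 7, 6, 5, 4, 3, 2, 1, 3, 4, 5,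 6, 7, 0, 2, 3, 4, 5, 1, 3, 4, 2, 3, 0, 2, 1, 3, 4, 5, 8, 3, 1, 2, 0, 3, 2, 5, 4, 3, 1, 6, 5, 4, 3, 2, 0, 7, 6, 5, 4, 3, 1, 2, 3, 4, 5, 6, 7, 3, 1, 2, 0, 3, 2, 5, 4, 3, 1, 6, 5, 4, 3, 2, 0, 1, 3, 4, 5, 5, 6, 4, 5, 3, 2, 1, 3, 0, 2, 3, 4, 5, 6, 1, 3, 4, 5, 2, 3, 4, 1, 3, 0, 7, 6, 5, 4, 3, 2, 1, 3, 4, 5, 6, 7, 0, 2, 3, 4, 5, 1, 3, 4, 2, 3, 0, 2, 1, 3, 4, 5, 8, 0, 1, 2, 3, 4, 5, 6, 7, 1, 2, 0, 4, 3, 2, 5, 4, 3, 1, 6, 5, 4, 3, 2, 0, 4, 3, 1, 2, 3, 4, 6, 5, 2, 3, 5, 4, 0, 2, 3, 4, 5, 6, 7, 6, 5, 4, 3, 2, 1, 3, 4, 5, 6, 7] [] (.nil))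
    (.nil)))
    (.cons 208 (.node [0, 2, 5, 4, 3, 1, 6, 5, 4, 3, 2, 0, 7, 6, 5, 4, 3, 1, 2, 3, 4, 5, 6, 7, 0, 2, 5, 4, 3, 1, 6, 5, 4, 3, 2, 0, 1, 2, 3, 4, 5, 5, 6, 4, 5, 3, 2, 1, 3, 0, 2, 3, 4, 5, 6, 1, 3, 4, 5, 2, 3, 4, 1, 3, 0, 7, 6, 5, 4, 3, 2, 1, 3, 4, 5, 6, 7, 0, 2, 3, 4, 5, 1, 3, 4, 2, 3, 0, 2, 1, 3, 4, 5, 8, 3, 1, 2, 0, 3, 2, 5, 4, 3, 1, 6, 5, 4, 3, 2, 0, 7, 6, 5, 4, 3, 1, 2, 3, 4, 5, 6, 7, 3, 2, 4, 3, 1, 5, 4, 3, 2, 0, 1, 3, 4, 5, 5, 6, 4, 5, 3, 2, 1, 3, 0, 2, 3, 4, 5, 6, 1, 3, 4, 5, 2, 3, 4, 1, 3, 0, 7, 6, 5, 4, 3, 2, 1, 3, 4, 5, 6, 7, 0, 2, 3, 4, 5, 1, 3, 4, 2, 3, 0, 2, 1, 3, 4, 5, 8, 0, 2, 5, 4, 3, 1, 6, 5,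 4, 3, 2, 0, 7, 6, 5, 4, 3, 1, 2, 3, 4, 5, 6, 7, 5, 4, 3, 1, 2, 0, 3, 2, 4, 3, 1, 5, 4, 3, 2, 0, 3, 1, 4, 3, 5, 4, 6, 5, 3, 1, 2, 3, 5, 4, 0, 2, 3, 4, 5, 6, 7, 6, 5, 4, 3, 2, 1, 3, 4, 5, 6, 7] [(201, [])] (.cons 201 (.node [0, 2, 5, 4, 3, 1, 6, 5, 4, 3, 2, 0, 7, 6, 5, 4, 3, 1, 2, 3, 4, 5, 6, 7, 0, 2, 5, 4, 3, 1, 6, 5, 4, 3, 2, 0, 1, 3, 4, 6, 5, 5, 6, 4, 5, 3, 2, 1, 3, 0, 2, 3, 4, 5, 6, 1, 3, 4, 5, 2, 3, 4, 1, 3, 0, 7, 6, 5, 4, 3, 2, 1, 3, 4, 5, 6, 7, 0, 2, 3, 4, 5, 1, 3, 4, 2, 3, 0, 2, 1, 3, 4, 5, 8, 3, 1, 2, 0, 3, 2, 5, 4, 3, 1, 6, 5, 4, 3, 2, 0, 7, 6, 5, 4, 3, 1, 2, 3, 4, 5, 6, 7, 3, 1, 2, 0, 3, 2, 5, 4, 3, 1, 6, 5,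 4, 3, 2, 0, 1, 3, 4, 5, 5, 6, 4, 5, 3, 2, 1, 3, 0, 2, 3, 4, 5, 6, 1, 3, 4, 5, 2, 3, 4, 1, 3, 0, 7, 6, 5, 4, 3, 2, 1, 3, 4, 5, 6, 7, 0, 2, 3, 4, 5, 1, 3, 4, 2, 3, 0, 2, 1, 3, 4, 5, 8, 3, 1, 2, 0, 3, 2, 5, 4, 3, 1, 6, 5, 4, 3, 2, 0, 7, 6, 5, 4, 3, 1, 2, 3, 4, 5, 6, 7, 3, 1, 2, 0, 3, 2, 5, 4, 3, 1, 6, 5, 4, 3, 2, 0, 1, 3, 4, 5, 5, 6, 4, 5, 3, 2, 1, 3, 0, 2, 3, 4, 5, 6, 1, 3, 4, 5, 2, 3, 4, 1, 3, 0, 7, 6, 5, 4, 3, 2, 1, 3, 4, 5, 6, 7, 0, 2, 3, 4, 5, 1, 3, 4, 2, 3, 0, 2, 1, 3, 4, 5, 8, 0, 1, 2, 3, 4, 5, 6, 7, 1, 2, 0, 4, 3, 2, 5, 4, 3, 1, 6, 5, 4, 3, 2, 0, 4, 3, 1, 2, 3, 4, 6, 5, 2, 3, 5, 4, 0, 2, 3, 4, 5, 6, 7, 6, 5, 4, 3,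 2, 1, 3, 4, 5, 6, 7] [] (.nil))
    (.nil)))
    (.nil))))
    (.cons 201 (.node [0, 2, 5, 4, 3, 1, 6, 5, 4, 3, 2, 0, 7, 6, 5, 4, 3, 1, 2, 3, 4, 5, 6, 7, 2, 4, 3, 1, 5, 4, 3, 2, 0, 1, 3, 4, 5, 5, 6, 4, 5, 3, 2, 1, 3, 0, 2, 3, 4, 5, 6, 1, 3, 4, 5, 2, 3, 4, 1, 3, 0, 7, 6, 5, 4, 3, 2, 1, 3, 4, 5, 6, 7, 0, 2, 3, 4, 5, 1, 3, 4, 2, 3, 0, 2, 1, 3, 4, 5, 8, 5, 4, 3, 2, 0, 6, 5, 4, 3, 1, 2, 3, 4, 5, 6, 7, 4, 3, 1, 2, 0, 3, 2, 4, 3, 1, 6, 5, 4, 3, 2, 0, 1, 2, 4, 3, 5, 4, 6, 5, 2, 3, 5, 4, 0, 2, 3, 4, 5, 6, 7, 6, 5, 4, 3, 2, 1, 3, 4, 5, 6, 7] [(199, []), (208, [])] (.cons 199 (.node [0, 2, 5, 4, 3, 1, 6, 5, 4, 3, 2, 0, 7, 6, 5,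 4, 3, 1, 2, 3, 4, 5, 6, 7, 0, 2, 5, 4, 3, 1, 6, 5, 4, 3, 2, 0, 1, 3, 4, 6, 5, 5, 6, 4, 5, 3, 2, 1, 3, 0, 2, 3, 4, 5, 6, 1, 3, 4, 5, 2, 3, 4, 1, 3, 0, 7, 6, 5, 4, 3, 2, 1, 3, 4, 5, 6, 7, 0, 2, 3, 4, 5, 1, 3, 4, 2, 3, 0, 2, 1, 3, 4, 5, 8, 3, 1, 2, 0, 3, 2, 5, 4, 3, 1, 6, 5, 4, 3, 2, 0, 7, 6, 5, 4, 3, 1, 2, 3, 4, 5, 6, 7, 3, 1, 2, 0, 3, 2, 5, 4, 3, 1, 6, 5, 4, 3, 2, 0, 1, 3, 4, 5, 5, 6, 4, 5, 3, 2, 1, 3, 0, 2, 3, 4, 5, 6, 1, 3, 4, 5, 2, 3, 4, 1, 3, 0, 7, 6, 5, 4, 3, 2, 1, 3, 4, 5, 6, 7, 0, 2, 3, 4, 5, 1, 3, 4, 2, 3, 0, 2, 1, 3, 4, 5, 8, 0, 1, 2, 3, 4, 5, 6, 7, 1, 2, 0, 4, 3, 2, 5, 4, 3, 1, 6, 5, 4, 3, 2, 0, 4, 3, 1, 2, 3,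 4, 6, 5, 2, 3, 5, 4, 0, 2, 3, 4, 5, 6, 7, 6, 5, 4, 3, 2, 1, 3, 4, 5, 6, 7] [(208, [])] (.cons 208 (.node [0, 2, 5, 4, 3, 1, 6, 5, 4, 3, 2, 0, 7, 6, 5, 4, 3, 1, 2, 3, 4, 5, 6, 7, 0, 2, 5, 4, 3, 1, 6, 5, 4, 3, 2, 0, 1, 3, 4, 6, 5, 5, 6, 4, 5, 3, 2, 1, 3, 0, 2, 3, 4, 5, 6, 1, 3, 4, 5, 2, 3, 4, 1, 3, 0, 7, 6, 5, 4, 3, 2, 1, 3, 4, 5, 6, 7, 0, 2, 3, 4, 5, 1, 3, 4, 2, 3, 0, 2, 1, 3, 4, 5, 8, 3, 1, 2, 0, 3, 2, 5, 4, 3, 1, 6, 5, 4, 3, 2, 0, 7, 6, 5, 4, 3, 1, 2, 3, 4, 5, 6, 7, 3, 1, 2, 0, 3, 2, 5, 4, 3, 1, 6, 5, 4, 3, 2, 0, 1, 3, 4, 5, 5, 6, 4, 5, 3, 2, 1, 3, 0, 2, 3, 4, 5, 6, 1, 3, 4, 5, 2, 3, 4, 1, 3, 0, 7, 6, 5, 4, 3, 2, 1,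 3, 4, 5, 6, 7, 0, 2, 3, 4, 5, 1, 3, 4, 2, 3, 0, 2, 1, 3, 4, 5, 8, 3, 1, 2, 0, 3, 2, 5, 4, 3, 1, 6, 5, 4, 3, 2, 0, 7, 6, 5, 4, 3, 1, 2, 3, 4, 5, 6, 7, 3, 1, 2, 0, 3, 2, 5, 4, 3, 1, 6, 5, 4, 3, 2, 0, 1, 3, 4, 5, 5, 6, 4, 5, 3, 2, 1, 3, 0, 2, 3, 4, 5, 6, 1, 3, 4, 5, 2, 3, 4, 1, 3, 0, 7, 6, 5, 4, 3, 2, 1, 3, 4, 5, 6, 7, 0, 2, 3, 4, 5, 1, 3, 4, 2, 3, 0, 2, 1, 3, 4, 5, 8, 0, 1, 2, 3, 4, 5, 6, 7, 1, 2, 0, 4, 3, 2, 5, 4, 3, 1, 6, 5, 4, 3, 2, 0, 4, 3, 1, 2, 3, 4, 6, 5, 2, 3, 5, 4, 0, 2, 3, 4, 5, 6, 7, 6, 5, 4, 3, 2, 1, 3, 4, 5, 6, 7] [] (.nil))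
    (.nil)))
    (.cons 208 (.node [0, 2, 5, 4, 3, 1, 6, 5, 4, 3, 2, 0, 7, 6, 5, 4, 3, 1, 2, 3, 4, 5, 6, 7, 0, 2, 5, 4, 3, 1, 6, 5, 4, 3, 2, 0, 1, 2, 3, 4, 5, 5, 6, 4, 5, 3, 2, 1, 3, 0, 2, 3, 4, 5, 6, 1, 3, 4, 5, 2, 3, 4, 1, 3, 0, 7, 6, 5, 4, 3, 2, 1, 3, 4, 5, 6, 7, 0, 2, 3, 4, 5, 1, 3, 4, 2, 3, 0, 2, 1, 3, 4, 5, 8, 3, 1, 2, 0, 3, 2, 5, 4, 3, 1, 6, 5, 4, 3, 2, 0, 7, 6, 5, 4, 3, 1, 2, 3, 4, 5, 6, 7, 3, 1, 2, 0, 3, 2, 5, 4, 3, 1, 6, 5, 4, 3, 2, 0, 1, 3, 4, 5, 5, 6, 4, 5, 3, 2, 1, 3, 0, 2, 3, 4, 5, 6, 1, 3, 4, 5, 2, 3, 4, 1, 3, 0, 7, 6, 5, 4, 3, 2, 1, 3, 4, 5, 6, 7, 0, 2, 3, 4, 5, 1, 3, 4, 2, 3, 0, 2, 1, 3, 4, 5, 8, 0, 1,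 2, 3, 4, 5, 6, 7, 1, 2, 0, 4, 3, 2, 5, 4, 3, 1, 6, 5, 4, 3, 2, 0, 4, 3, 1, 2, 3, 4, 6, 5, 2, 3, 5, 4, 0, 2, 3, 4, 5, 6, 7, 6, 5, 4, 3, 2, 1, 3, 4, 5, 6, 7] [(199, [])] (.cons 199 (.node [0, 2, 5, 4, 3, 1, 6, 5, 4, 3, 2, 0, 7, 6, 5, 4, 3, 1, 2, 3, 4, 5, 6, 7, 0, 2, 5, 4, 3, 1, 6, 5, 4, 3, 2, 0, 1, 3, 4, 6, 5, 5, 6, 4, 5, 3, 2, 1, 3, 0, 2, 3, 4, 5, 6, 1, 3, 4, 5, 2, 3, 4, 1, 3, 0, 7, 6, 5, 4, 3, 2, 1, 3, 4, 5, 6, 7, 0, 2, 3, 4, 5, 1, 3, 4, 2, 3, 0, 2, 1, 3, 4, 5, 8, 3, 1, 2, 0, 3, 2, 5, 4, 3, 1, 6, 5, 4, 3, 2, 0, 7, 6, 5, 4, 3, 1, 2, 3, 4, 5, 6, 7, 3, 1, 2, 0, 3, 2, 5, 4, 3, 1, 6, 5, 4, 3, 2, 0, 1, 3, 4, 5, 5, 6, 4, 5,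 3, 2, 1, 3, 0, 2, 3, 4, 5, 6, 1, 3, 4, 5, 2, 3, 4, 1, 3, 0, 7, 6, 5, 4, 3, 2, 1, 3, 4, 5, 6, 7, 0, 2, 3, 4, 5, 1, 3, 4, 2, 3, 0, 2, 1, 3, 4, 5, 8, 3, 1, 2, 0, 3, 2, 5, 4, 3, 1, 6, 5, 4, 3, 2, 0, 7, 6, 5, 4, 3, 1, 2, 3, 4, 5, 6, 7, 3, 1, 2, 0, 3, 2, 5, 4, 3, 1, 6, 5, 4, 3, 2, 0, 1, 3, 4, 5, 5, 6, 4, 5, 3, 2, 1, 3, 0, 2, 3, 4, 5, 6, 1, 3, 4, 5, 2, 3, 4, 1, 3, 0, 7, 6, 5, 4, 3, 2, 1, 3, 4, 5, 6, 7, 0, 2, 3, 4, 5, 1, 3, 4, 2, 3, 0, 2, 1, 3, 4, 5, 8, 0, 1, 2, 3, 4, 5, 6, 7, 1, 2, 0, 4, 3, 2, 5, 4, 3, 1, 6, 5, 4, 3, 2, 0, 4, 3, 1, 2, 3, 4, 6, 5, 2, 3, 5, 4, 0, 2, 3, 4, 5, 6, 7, 6, 5, 4, 3, 2, 1, 3, 4, 5, 6, 7] [] (.nil))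
    (.nil)))
    (.nil))))
    (.cons 208 (.node [0, 2, 5, 4, 3, 1, 6, 5, 4, 3, 2, 0, 7, 6, 5, 4, 3, 1, 2, 3, 4, 5, 6, 7, 0, 2, 5, 4, 3, 1, 6, 5, 4, 3, 2, 0, 1, 2, 3, 4, 5, 5, 6, 4, 5, 3, 2, 1, 3, 0, 2, 3, 4, 5, 6, 1, 3, 4, 5, 2, 3, 4, 1, 3, 0, 7, 6, 5, 4, 3, 2, 1, 3, 4, 5, 6, 7, 0, 2, 3, 4, 5, 1, 3, 4, 2, 3, 0, 2, 1, 3, 4, 5, 8, 0, 1, 2, 3, 4, 5, 6, 7, 1, 2, 0, 4, 3, 2, 5, 4, 3, 1, 6, 5, 4, 3, 2, 0, 4, 3, 1, 2, 3, 4, 6, 5, 2, 3, 5, 4, 0, 2, 3, 4, 5, 6, 7, 6, 5, 4, 3, 2, 1, 3, 4, 5, 6, 7] [(199, []), (201, [])] (.cons 199 (.node [0, 2, 5, 4, 3, 1, 6, 5, 4, 3, 2, 0, 7, 6, 5, 4, 3, 1, 2, 3, 4, 5, 6, 7, 0, 2, 5, 4, 3, 1,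 6, 5, 4, 3, 2, 0, 1, 2, 3, 4, 5, 5, 6, 4, 5, 3, 2, 1, 3, 0, 2, 3, 4, 5, 6, 1, 3, 4, 5, 2, 3, 4, 1, 3, 0, 7, 6, 5, 4, 3, 2, 1, 3, 4, 5, 6, 7, 0, 2, 3, 4, 5, 1, 3, 4, 2, 3, 0, 2, 1, 3, 4, 5, 8, 3, 1, 2, 0, 3, 2, 5, 4, 3, 1, 6, 5, 4, 3, 2, 0, 7, 6, 5, 4, 3, 1, 2, 3, 4, 5, 6, 7, 3, 2, 4, 3, 1, 5, 4, 3, 2, 0, 1, 3, 4, 5, 5, 6, 4, 5, 3, 2, 1, 3, 0, 2, 3, 4, 5, 6, 1, 3, 4, 5, 2, 3, 4, 1, 3, 0, 7, 6, 5, 4, 3, 2, 1, 3, 4, 5, 6, 7, 0, 2, 3, 4, 5, 1, 3, 4, 2, 3, 0, 2, 1, 3, 4, 5, 8, 0, 2, 5, 4, 3, 1, 6, 5, 4, 3, 2, 0, 7, 6, 5, 4, 3, 1, 2, 3, 4, 5, 6, 7, 5, 4, 3, 1, 2, 0, 3, 2, 4, 3, 1, 5, 4, 3, 2, 0, 3, 1, 4, 3, 5, 4, 6, 5, 3, 1,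 2, 3, 5, 4, 0, 2, 3, 4, 5, 6, 7, 6, 5, 4, 3, 2, 1, 3, 4, 5, 6, 7] [(201, [])] (.cons 201 (.node [0, 2, 5, 4, 3, 1, 6, 5, 4, 3, 2, 0, 7, 6, 5, 4, 3, 1, 2, 3, 4, 5, 6, 7, 0, 2, 5, 4, 3, 1, 6, 5, 4, 3, 2, 0, 1, 3, 4, 6, 5, 5, 6, 4, 5, 3, 2, 1, 3, 0, 2, 3, 4, 5, 6, 1, 3, 4, 5, 2, 3, 4, 1, 3, 0, 7, 6, 5, 4, 3, 2, 1, 3, 4, 5, 6, 7, 0, 2, 3, 4, 5, 1, 3, 4, 2, 3, 0, 2, 1, 3, 4, 5, 8, 3, 1, 2, 0, 3, 2, 5, 4, 3, 1, 6, 5, 4, 3, 2, 0, 7, 6, 5, 4, 3, 1, 2, 3, 4, 5, 6, 7, 3, 1, 2, 0, 3, 2, 5, 4, 3, 1, 6, 5, 4, 3, 2, 0, 1, 3, 4, 5, 5, 6, 4, 5, 3, 2, 1, 3, 0, 2, 3, 4, 5, 6, 1, 3, 4, 5, 2, 3, 4, 1, 3, 0, 7, 6, 5, 4, 3, 2, 1, 3, 4, 5,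 6, 7, 0, 2, 3, 4, 5, 1, 3, 4, 2, 3, 0, 2, 1, 3, 4, 5, 8, 3, 1, 2, 0, 3, 2, 5, 4, 3, 1, 6, 5, 4, 3, 2, 0, 7, 6, 5, 4, 3, 1, 2, 3, 4, 5, 6, 7, 3, 1, 2, 0, 3, 2, 5, 4, 3, 1, 6, 5, 4, 3, 2, 0, 1, 3, 4, 5, 5, 6, 4, 5, 3, 2, 1, 3, 0, 2, 3, 4, 5, 6, 1, 3, 4, 5, 2, 3, 4, 1, 3, 0, 7, 6, 5, 4, 3, 2, 1, 3, 4, 5, 6, 7, 0, 2, 3, 4, 5, 1, 3, 4, 2, 3, 0, 2, 1, 3, 4, 5, 8, 0, 1, 2, 3, 4, 5, 6, 7, 1, 2, 0, 4, 3, 2, 5, 4, 3, 1, 6, 5, 4, 3, 2, 0, 4, 3, 1, 2, 3, 4, 6, 5, 2, 3, 5, 4, 0, 2, 3, 4, 5, 6, 7, 6, 5, 4, 3, 2, 1, 3, 4, 5, 6, 7] [] (.nil))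
    (.nil)))
    (.cons 201 (.node [0, 2, 5, 4, 3, 1, 6, 5, 4, 3, 2, 0, 7, 6, 5, 4, 3, 1, 2, 3, 4, 5, 6, 7, 0, 2, 5, 4, 3, 1, 6, 5, 4, 3, 2, 0, 1, 2, 3, 4, 5, 5, 6, 4, 5, 3, 2, 1, 3, 0, 2, 3, 4, 5, 6, 1, 3, 4, 5, 2, 3, 4, 1, 3, 0, 7, 6, 5, 4, 3, 2, 1, 3, 4, 5, 6, 7, 0, 2, 3, 4, 5, 1, 3, 4, 2, 3, 0, 2, 1, 3, 4, 5, 8, 3, 1, 2, 0, 3, 2, 5, 4, 3, 1, 6, 5, 4, 3, 2, 0, 7, 6, 5, 4, 3, 1, 2, 3, 4, 5, 6, 7, 3, 1, 2, 0, 3, 2, 5, 4, 3, 1, 6, 5, 4, 3, 2, 0, 1, 3, 4, 5, 5, 6, 4, 5, 3, 2, 1, 3, 0, 2, 3, 4, 5, 6, 1, 3, 4, 5, 2, 3, 4, 1, 3, 0, 7, 6, 5, 4, 3, 2, 1, 3, 4, 5, 6, 7, 0, 2, 3, 4, 5, 1, 3, 4, 2, 3, 0, 2, 1, 3, 4, 5, 8, 0, 1,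 2, 3, 4, 5, 6, 7, 1, 2, 0, 4, 3, 2, 5, 4, 3, 1, 6, 5, 4, 3, 2, 0, 4, 3, 1, 2, 3, 4, 6, 5, 2, 3, 5, 4, 0, 2, 3, 4, 5, 6, 7, 6, 5, 4, 3, 2, 1, 3, 4, 5, 6, 7] [(199, [])] (.cons 199 (.node [0, 2, 5, 4, 3, 1, 6, 5, 4, 3, 2, 0, 7, 6, 5, 4, 3, 1, 2, 3, 4, 5, 6, 7, 0, 2, 5, 4, 3, 1, 6, 5, 4, 3, 2, 0, 1, 3, 4, 6, 5, 5, 6, 4, 5, 3, 2, 1, 3, 0, 2, 3, 4, 5, 6, 1, 3, 4, 5, 2, 3, 4, 1, 3, 0, 7, 6, 5, 4, 3, 2, 1, 3, 4, 5, 6, 7, 0, 2, 3, 4, 5, 1, 3, 4, 2, 3, 0, 2, 1, 3, 4, 5, 8, 3, 1, 2, 0, 3, 2, 5, 4, 3, 1, 6, 5, 4, 3, 2, 0, 7, 6, 5, 4, 3, 1, 2, 3, 4, 5, 6, 7, 3, 1, 2, 0, 3, 2, 5, 4, 3, 1, 6, 5, 4, 3, 2, 0, 1, 3, 4, 5, 5, 6, 4, 5,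 3, 2, 1, 3, 0, 2, 3, 4, 5, 6, 1, 3, 4, 5, 2, 3, 4, 1, 3, 0, 7, 6, 5, 4, 3, 2, 1, 3, 4, 5, 6, 7, 0, 2, 3, 4, 5, 1, 3, 4, 2, 3, 0, 2, 1, 3, 4, 5, 8, 3, 1, 2, 0, 3, 2, 5, 4, 3, 1, 6, 5, 4, 3, 2, 0, 7, 6, 5, 4, 3, 1, 2, 3, 4, 5, 6, 7, 3, 1, 2, 0, 3, 2, 5, 4, 3, 1, 6, 5, 4, 3, 2, 0, 1, 3, 4, 5, 5, 6, 4, 5, 3, 2, 1, 3, 0, 2, 3, 4, 5, 6, 1, 3, 4, 5, 2, 3, 4, 1, 3, 0, 7, 6, 5, 4, 3, 2, 1, 3, 4, 5, 6, 7, 0, 2, 3, 4, 5, 1, 3, 4, 2, 3, 0, 2, 1, 3, 4, 5, 8, 0, 1, 2, 3, 4, 5, 6, 7, 1, 2, 0, 4, 3, 2, 5, 4, 3, 1, 6, 5, 4, 3, 2, 0, 4, 3, 1, 2, 3, 4, 6, 5, 2, 3, 5, 4, 0, 2, 3, 4, 5, 6, 7, 6, 5, 4, 3, 2, 1, 3, 4, 5, 6, 7] [] (.nil))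
    (.nil)))
    (.nil))))
    (.nil)))))
    (.nil))

theorem set7_4 : Z.setOk goodE8 swap P7 Q7 L8 [226, 159, 152] [7, 6, 5, 4, 3, 1, 2, 3, 4, 5, 6, 7, 0, 2, 3, 1, 4, 3, 2, 0, 5, 4, 6, 5, 5, 4, 0, 2, 3, 4, 5, 6, 7, 6, 5, 4, 3, 2, 1, 3, 4, 5, 6, 7] tree4 = true := by decide +kernel

end Cfsg.Agent.H65.Inv.E8
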