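import Cfsg.Agent.H65.Inv.E8.Top0
import Cfsg.Agent.H65.Inv.E8.Top1
import Cfsg.Agent.H65.Inv.E8.Top2
import Cfsg.Agent.H65.Inv.E8.Top3
import Cfsg.Agent.H65.Inv.E8.Top4
import Cfsg.Agent.H65.Inv.E8.Top5
import Cfsg.Agent.H65.Inv.E8.Top6

/-!
The checks of the Heisenberg level of type E8.
-/
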