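import Cfsg.Agent.H65.Inv.E8.Level0
import Cfsg.Agent.H65.Inv.E8.Level1
import Cfsg.Agent.H65.Inv.E8.Level2
import Cfsg.Agent.H65.Inv.E8.Level3
import Cfsg.Agent.H65.Inv.E8.Level4
import Cfsg.Agent.H65.Inv.E8.Level5
import Cfsg.Agent.H65.Inv.E8.Level6
import Cfsg.Agent.H65.Inv.E8.Top

/-!
The induction of type E8 (generated data).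
-/

set_option autoImplicit false
set_option maxRecDepth 100000

open Cfsg.Lie Cfsg.Agent.H46

namespace Cfsg.Agent.H65.Inv.E8

theorem swap_ok : swapOk goodE8 swap = true := by decide +kernel

variable (F : Type*) [Field F] [Fintype F] [CharP F 2]

theorem red0 : Reduces F goodE8 P0 L0 := reduces_nil _ List.mem_cons_self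

theorem red1 : Reduces F goodE8 P1 L1 :=
  reduces_step (certs := [[[], []]]) goodE8 swap_ok rad0 rfl
    (by simp [L0, set0_0]) (red0 F)

theorem red2 : Reduces F goodE8 P2 L2 :=
  reduces_step (certs := [[[], [0], []],
  [[2]]]) goodE8 swap_ok rad1 rfl
    (by simp [L1, set1_0, set1_1]) (red1 F)

theorem red3 : Reduces F goodE8 P3 L3 :=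
  reduces_step (certs := [[[], [2, 0], [0], []],
  [[3], [3]]]) goodE8 swap_ok rad2 rfl
    (by simp [L2, set2_0, set2_1]) (red2 F)

theorem red4 : Reduces F goodE8 P4 L4 :=
  reduces_step (certs := [[[], [3, 2, 0], [2, 0], [0], []],
  [[4], [4, 2], [4]],
  [[4, 3]]]) goodE8 swap_ok rad3 rfl
    (by simp [L3, set3_0, set3_1, set3_2]) (red3 F)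

theorem red5 : Reduces F goodE8 P5 L5 :=
  reduces_step (certs := [[[], [3, 2, 0, 4, 3, 2], [3, 2, 0, 4, 3, 2, 3, 4], [3, 2, 0, 4, 3, 2, 4], [3, 2, 0, 4, 3, 2], [2, 0, 4, 3, 2], [2, 0, 4, 3, 2, 3, 4], [2, 0, 4, 3, 2, 4], [2, 0, 4, 3, 2], [2, 0, 3, 2], [2, 0, 3, 2, 3, 4], [2, 0, 3, 2, 4], [2, 0, 3, 2], [0, 4, 3, 2], [0, 4, 3, 2, 3, 4], [0, 4, 3, 2, 4], [0, 4, 3, 2], [0, 3, 2], [0, 3, 2, 3, 4], [0, 3, 2, 4], [0, 3, 2], [0, 2], [0, 2, 3, 4], [0, 2, 4], [0, 2], [4, 3, 2], [4, 3, 2, 3, 4], [4, 3, 2, 4], [4, 3, 2], [3, 2], [3, 2, 3, 4], [3, 2, 4], [3, 2], [2], [2, 3, 4], [2, 4], [2], [], [3, 4], [4], []],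
  [[1, 3, 2], [1, 3, 2, 3, 1], [1, 3, 2, 3, 1], [1, 3, 2, 1], [1, 3, 2, 1], [1, 3, 2], [1, 3, 2], [1, 3, 2], [1, 3, 2, 3, 1], [1, 3, 2, 1], [1, 3, 2]],
  [[1, 3, 2, 4], [1, 3, 2, 4, 2, 3, 0, 2], [1, 3, 2, 4], [1, 3, 2, 4], [1, 3, 2, 4]]]) goodE8 swap_ok rad4 rfl
    (by simp [L4, set4_0, set4_1, set4_2]) (red4 F)

theorem red6 : Reduces F goodE8 P6 L6 :=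
  reduces_step (certs := [[[], [4, 3, 2, 0, 1, 3, 2, 4, 3, 1], [4, 3, 2, 0, 1, 3, 2, 4, 3, 1, 4, 3, 2, 0], [4, 3, 2, 0, 1, 3, 2, 4, 3, 1, 3, 2, 0], [4, 3, 2, 0, 1, 3, 2, 4, 3, 1, 2, 0], [4, 3, 2, 0, 1, 3, 2, 4, 3, 1, 0], [4, 3, 2, 0, 1, 3, 2, 4, 3, 1], [3, 2, 0, 1, 3, 2, 4, 3, 1], [3, 2, 0, 1, 3, 2, 4, 3, 1, 4, 3, 2, 0], [3, 2, 0, 1, 3, 2, 4, 3, 1, 3, 2, 0], [3, 2, 0, 1, 3, 2, 4, 3, 1, 2, 0], [3, 2, 0, 1, 3, 2, 4, 3, 1, 0], [3, 2, 0, 1, 3, 2, 4, 3, 1], [2, 0, 1, 3, 2, 4, 3, 1], [2, 0, 1, 3, 2, 4, 3, 1, 4, 3, 2, 0], [2, 0, 1, 3, 2, 4, 3, 1, 3, 2, 0], [2, 0, 1, 3, 2, 4, 3, 1, 2, 0], [2, 0, 1, 3, 2, 4, 3, 1, 0], [2, 0, 1, 3, 2, 4, 3,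 1], [0, 1, 3, 2, 4, 3, 1], [0, 1, 3, 2, 4, 3, 1, 4, 3, 2, 0], [0, 1, 3, 2, 4, 3, 1, 3, 2, 0], [0, 1, 3, 2, 4, 3, 1, 2, 0], [0, 1, 3, 2, 4, 3, 1, 0], [0, 1, 3, 2, 4, 3, 1], [2, 0, 3, 2, 4, 3, 1], [2, 0, 3, 2, 4, 3, 1, 4, 3, 2, 0], [2, 0, 3, 2, 4, 3, 1, 3, 2, 0], [2, 0, 3, 2, 4, 3, 1, 2, 0], [2, 0, 3, 2, 4, 3, 1, 0], [2, 0, 3, 2, 4, 3, 1], [0, 3, 2, 4, 3, 1], [0, 3, 2, 4, 3, 1, 4, 3, 2, 0], [0, 3, 2, 4, 3, 1, 3, 2, 0], [0, 3, 2, 4, 3, 1, 2, 0], [0, 3, 2, 4, 3, 1, 0], [0, 3, 2, 4, 3, 1], [0, 2, 4, 3, 1], [0, 2, 4, 3, 1, 4, 3, 2, 0], [0, 2, 4, 3, 1, 3, 2, 0], [0, 2, 4, 3, 1, 2, 0], [0, 2, 4, 3, 1, 0], [0, 2, 4, 3, 1], [0, 2, 3, 1], [0,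 2, 3, 1, 4, 3, 2, 0], [0, 2, 3, 1, 3, 2, 0], [0, 2, 3, 1, 2, 0], [0, 2, 3, 1, 0], [0, 2, 3, 1], [1, 3, 2, 4, 3, 1], [1, 3, 2, 4, 3, 1, 4, 3, 2, 0], [1, 3, 2, 4, 3, 1, 3, 2, 0], [1, 3, 2, 4, 3, 1, 2, 0], [1, 3, 2, 4, 3, 1, 0], [1, 3, 2, 4, 3, 1], [3, 2, 4, 3, 1], [3, 2, 4, 3, 1, 4, 3, 2, 0], [3, 2, 4, 3, 1, 3, 2, 0], [3, 2, 4, 3, 1, 2, 0], [3, 2, 4, 3, 1, 0], [3, 2, 4, 3, 1], [2, 4, 3, 1], [2, 4, 3, 1, 4, 3, 2, 0], [2, 4, 3, 1, 3, 2, 0], [2, 4, 3, 1, 2, 0], [2, 4, 3, 1, 0], [2, 4, 3, 1], [2, 3, 1], [2, 3, 1, 4, 3, 2, 0], [2, 3, 1, 3, 2, 0], [2, 3, 1, 2, 0], [2, 3, 1, 0], [2, 3, 1], [4, 3, 1], [4, 3, 1, 4, 3, 2, 0], [4, 3, 1, 3, 2,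 0], [4, 3, 1, 2, 0], [4, 3, 1, 0], [4, 3, 1], [3, 1], [3, 1, 4, 3, 2, 0], [3, 1, 3, 2, 0], [3, 1, 2, 0], [3, 1, 0], [3, 1], [1], [1, 4, 3, 2, 0], [1, 3, 2, 0], [1, 2, 0], [1, 0], [1], [], [4, 3, 2, 0], [3, 2, 0], [2, 0], [0], []],
  [[5, 4, 3, 1], [5, 4, 3, 1, 0, 3, 4, 5], [5, 4, 3, 1, 0, 3, 4, 5, 3, 4], [5, 4, 3, 1, 0, 3, 4, 5, 4], [5, 4, 3, 1, 0, 3, 4, 5], [5, 4, 3, 1, 0, 4, 5], [5, 4, 3, 1, 0, 4, 5, 3, 4], [5, 4, 3, 1, 0, 4, 5, 4], [5, 4, 3, 1, 0, 4, 5], [5, 4, 3, 1, 0, 5], [5, 4, 3, 1, 0, 5, 3, 4], [5, 4, 3, 1, 0, 5, 4], [5, 4, 3, 1, 0, 5], [5, 4, 3, 1, 0], [5, 4, 3, 1, 0, 3, 4], [5, 4, 3, 1, 0, 4], [5, 4, 3, 1, 0], [5, 4, 3,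 1, 3, 4, 5], [5, 4, 3, 1, 3, 4, 5, 3, 4], [5, 4, 3, 1, 3, 4, 5, 4], [5, 4, 3, 1, 3, 4, 5], [5, 4, 3, 1, 4, 5], [5, 4, 3, 1, 4, 5, 3, 4], [5, 4, 3, 1, 4, 5, 4], [5, 4, 3, 1, 4, 5], [5, 4, 3, 1, 5], [5, 4, 3, 1, 5, 3, 4], [5, 4, 3, 1, 5, 4], [5, 4, 3, 1, 5], [5, 4, 3, 1], [5, 4, 3, 1, 3, 4], [5, 4, 3, 1, 4], [5, 4, 3, 1]],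
  [[5, 4, 3, 1, 2, 0], [5, 4, 3, 1, 2, 0, 2, 4], [5, 4, 3, 1, 2, 0, 2, 4], [5, 4, 3, 1, 2, 0, 2], [5, 4, 3, 1, 2, 0, 2], [5, 4, 3, 1, 2, 0, 4], [5, 4, 3, 1, 2, 0, 4], [5, 4, 3, 1, 2, 0], [5, 4, 3, 1, 2, 0]],
  [[5, 4, 3, 1, 2, 3, 4, 5]],
  [[5, 4, 3, 1, 2, 3, 4, 5]],
  [[5, 4, 3, 1, 2, 3, 4, 5]]]) goodE8 swap_ok rad5 rfl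
    (by simp [L5, set5_0, set5_1, set5_2, set5_3, set5_4, set5_5]) (red5 F)

theorem red7 : Reduces F goodE8 P7 L7 :=
  reduces_step (certs := [[[], [5, 4, 3, 2, 0, 1, 3, 2, 4, 3, 1, 5, 4, 3, 2, 0], [5, 4, 3, 2, 0, 1, 3, 2, 4, 3, 1, 5, 4, 3, 2, 0, 5, 4, 3, 2, 1, 3, 4, 5], [5, 4, 3, 2, 0, 1, 3, 2, 4, 3, 1, 5, 4, 3, 2, 0, 5, 4, 3, 2, 1, 3, 4, 5], [5, 4, 3, 2, 0, 1, 3, 2, 4, 3, 1, 5, 4, 3, 2, 0, 4, 3, 2, 1, 3, 4, 5], [5, 4, 3, 2, 0, 1, 3, 2, 4, 3, 1, 5, 4, 3, 2, 0, 4, 3, 2, 1, 3, 4, 5], [5, 4, 3, 2, 0, 1, 3, 2, 4, 3, 1, 5, 4, 3, 2, 0, 3, 2, 1, 3, 4, 5], [5, 4, 3, 2, 0, 1, 3, 2, 4, 3, 1, 5, 4, 3, 2, 0, 3, 2, 1, 3, 4, 5], [5, 4, 3, 2,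 0, 1, 3, 2, 4, 3, 1, 5, 4, 3, 2, 0, 2, 1, 3, 4, 5], [5, 4, 3, 2, 0, 1, 3, 2, 4, 3, 1, 5, 4, 3, 2, 0, 2, 1, 3, 4, 5], [5, 4, 3, 2, 0, 1, 3, 2, 4, 3, 1, 5, 4, 3, 2, 0, 2, 3, 4, 5], [5, 4, 3, 2, 0, 1, 3, 2, 4, 3, 1, 5, 4, 3, 2, 0, 2, 3, 4, 5], [5, 4, 3, 2, 0, 1, 3, 2, 4, 3, 1, 5, 4, 3, 2, 0, 1, 3, 4, 5], [5, 4, 3, 2, 0, 1, 3, 2, 4, 3, 1, 5, 4, 3, 2, 0, 1, 3, 4, 5], [5, 4, 3, 2, 0, 1, 3, 2, 4, 3, 1, 5, 4, 3, 2, 0, 3, 4, 5], [5, 4, 3, 2, 0, 1, 3, 2, 4, 3, 1, 5, 4, 3, 2, 0, 3, 4, 5], [5, 4, 3, 2, 0, 1, 3, 2, 4, 3, 1, 5, 4, 3, 2, 0, 4, 5], [5, 4, 3, 2, 0, 1, 3, 2, 4, 3, 1, 5, 4, 3, 2, 0, 4, 5], [5, 4, 3, 2, 0, 1, 3, 2, 4, 3, 1, 5, 4, 3,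 2, 0, 5], [5, 4, 3, 2, 0, 1, 3, 2, 4, 3, 1, 5, 4, 3, 2, 0, 5], [5, 4, 3, 2, 0, 1, 3, 2, 4, 3, 1, 5, 4, 3, 2, 0], [5, 4, 3, 2, 0, 1, 3, 2, 4, 3, 1, 5, 4, 3, 2, 0], [4, 3, 2, 0, 1, 3, 2, 4, 3, 1, 5, 4, 3, 2, 0], [4, 3, 2, 0, 1, 3, 2, 4, 3, 1, 5, 4, 3, 2, 0, 5, 4, 3, 2, 1, 3, 4, 5], [4, 3, 2, 0, 1, 3, 2, 4, 3, 1, 5, 4, 3, 2, 0, 5, 4, 3, 2, 1, 3, 4, 5], [4, 3, 2, 0, 1, 3, 2, 4, 3, 1, 5, 4, 3, 2, 0, 4, 3, 2, 1, 3, 4, 5], [4, 3, 2, 0, 1, 3, 2, 4, 3, 1, 5, 4, 3, 2, 0, 4, 3, 2, 1, 3, 4, 5], [4, 3, 2, 0, 1, 3, 2, 4, 3, 1, 5, 4, 3, 2, 0, 3, 2, 1, 3, 4, 5], [4, 3, 2, 0, 1, 3, 2, 4, 3, 1, 5, 4, 3, 2, 0, 3, 2, 1, 3, 4, 5], [4, 3, 2, 0, 1, 3,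 2, 4, 3, 1, 5, 4, 3, 2, 0, 2, 1, 3, 4, 5], [4, 3, 2, 0, 1, 3, 2, 4, 3, 1, 5, 4, 3, 2, 0, 2, 1, 3, 4, 5], [4, 3, 2, 0, 1, 3, 2, 4, 3, 1, 5, 4, 3, 2, 0, 2, 3, 4, 5], [4, 3, 2, 0, 1, 3, 2, 4, 3, 1, 5, 4, 3, 2, 0, 2, 3, 4, 5], [4, 3, 2, 0, 1, 3, 2, 4, 3, 1, 5, 4, 3, 2, 0, 1, 3, 4, 5], [4, 3, 2, 0, 1, 3, 2, 4, 3, 1, 5, 4, 3, 2, 0, 1, 3, 4, 5], [4, 3, 2, 0, 1, 3, 2, 4, 3, 1, 5, 4, 3, 2, 0, 3, 4, 5], [4, 3, 2, 0, 1, 3, 2, 4, 3, 1, 5, 4, 3, 2, 0, 3, 4, 5], [4, 3, 2, 0, 1, 3, 2, 4, 3, 1, 5, 4, 3, 2, 0, 4, 5], [4, 3, 2, 0, 1, 3, 2, 4, 3, 1, 5, 4, 3, 2, 0, 4, 5], [4, 3, 2, 0, 1, 3, 2, 4, 3, 1, 5, 4, 3, 2, 0, 5], [4, 3, 2, 0, 1, 3, 2, 4, 3,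 1, 5, 4, 3, 2, 0, 5], [4, 3, 2, 0, 1, 3, 2, 4, 3, 1, 5, 4, 3, 2, 0], [4, 3, 2, 0, 1, 3, 2, 4, 3, 1, 5, 4, 3, 2, 0], [3, 2, 0, 1, 3, 2, 4, 3, 1, 5, 4, 3, 2, 0], [3, 2, 0, 1, 3, 2, 4, 3, 1, 5, 4, 3, 2, 0, 5, 4, 3, 2, 1, 3, 4, 5], [3, 2, 0, 1, 3, 2, 4, 3, 1, 5, 4, 3, 2, 0, 5, 4, 3, 2, 1, 3, 4, 5], [3, 2, 0, 1, 3, 2, 4, 3, 1, 5, 4, 3, 2, 0, 4, 3, 2, 1, 3, 4, 5], [3, 2, 0, 1, 3, 2, 4, 3, 1, 5, 4, 3, 2, 0, 4, 3, 2, 1, 3, 4, 5], [3, 2, 0, 1, 3, 2, 4, 3, 1, 5, 4, 3, 2, 0, 3, 2, 1, 3, 4, 5], [3, 2, 0, 1, 3, 2, 4, 3, 1, 5, 4, 3, 2, 0, 3, 2, 1, 3, 4, 5], [3, 2, 0, 1, 3, 2, 4, 3, 1, 5, 4, 3, 2, 0, 2, 1, 3, 4, 5], [3, 2, 0, 1, 3, 2, 4, 3, 1,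 5, 4, 3, 2, 0, 2, 1, 3, 4, 5], [3, 2, 0, 1, 3, 2, 4, 3, 1, 5, 4, 3, 2, 0, 2, 3, 4, 5], [3, 2, 0, 1, 3, 2, 4, 3, 1, 5, 4, 3, 2, 0, 2, 3, 4, 5], [3, 2, 0, 1, 3, 2, 4, 3, 1, 5, 4, 3, 2, 0, 1, 3, 4, 5], [3, 2, 0, 1, 3, 2, 4, 3, 1, 5, 4, 3, 2, 0, 1, 3, 4, 5], [3, 2, 0, 1, 3, 2, 4, 3, 1, 5, 4, 3, 2, 0, 3, 4, 5], [3, 2, 0, 1, 3, 2, 4, 3, 1, 5, 4, 3, 2, 0, 3, 4, 5], [3, 2, 0, 1, 3, 2, 4, 3, 1, 5, 4, 3, 2, 0, 4, 5], [3, 2, 0, 1, 3, 2, 4, 3, 1, 5, 4, 3, 2, 0, 4, 5], [3, 2, 0, 1, 3, 2, 4, 3, 1, 5, 4, 3, 2, 0, 5], [3, 2, 0, 1, 3, 2, 4, 3, 1, 5, 4, 3, 2, 0, 5], [3, 2, 0, 1, 3, 2, 4, 3, 1, 5, 4, 3, 2, 0], [3, 2, 0, 1, 3, 2, 4, 3, 1, 5, 4, 3, 2,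 0], [2, 0, 1, 3, 2, 4, 3, 1, 5, 4, 3, 2, 0], [2, 0, 1, 3, 2, 4, 3, 1, 5, 4, 3, 2, 0, 5, 4, 3, 2, 1, 3, 4, 5], [2, 0, 1, 3, 2, 4, 3, 1, 5, 4, 3, 2, 0, 5, 4, 3, 2, 1, 3, 4, 5], [2, 0, 1, 3, 2, 4, 3, 1, 5, 4, 3, 2, 0, 4, 3, 2, 1, 3, 4, 5], [2, 0, 1, 3, 2, 4, 3, 1, 5, 4, 3, 2, 0, 4, 3, 2, 1, 3, 4, 5], [2, 0, 1, 3, 2, 4, 3, 1, 5, 4, 3, 2, 0, 3, 2, 1, 3, 4, 5], [2, 0, 1, 3, 2, 4, 3, 1, 5, 4, 3, 2, 0, 3, 2, 1, 3, 4, 5], [2, 0, 1, 3, 2, 4, 3, 1, 5, 4, 3, 2, 0, 2, 1, 3, 4, 5], [2, 0, 1, 3, 2, 4, 3, 1, 5, 4, 3, 2, 0, 2, 1, 3, 4, 5], [2, 0, 1, 3, 2, 4, 3, 1, 5, 4, 3, 2, 0, 2, 3, 4, 5], [2, 0, 1, 3, 2, 4, 3, 1, 5, 4, 3, 2, 0, 2, 3, 4, 5], [2,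 0, 1, 3, 2, 4, 3, 1, 5, 4, 3, 2, 0, 1, 3, 4, 5], [2, 0, 1, 3, 2, 4, 3, 1, 5, 4, 3, 2, 0, 1, 3, 4, 5], [2, 0, 1, 3, 2, 4, 3, 1, 5, 4, 3, 2, 0, 3, 4, 5], [2, 0, 1, 3, 2, 4, 3, 1, 5, 4, 3, 2, 0, 3, 4, 5], [2, 0, 1, 3, 2, 4, 3, 1, 5, 4, 3, 2, 0, 4, 5], [2, 0, 1, 3, 2, 4, 3, 1, 5, 4, 3, 2, 0, 4, 5], [2, 0, 1, 3, 2, 4, 3, 1, 5, 4, 3, 2, 0, 5], [2, 0, 1, 3, 2, 4, 3, 1, 5, 4, 3, 2, 0, 5], [2, 0, 1, 3, 2, 4, 3, 1, 5, 4, 3, 2, 0], [2, 0, 1, 3, 2, 4, 3, 1, 5, 4, 3, 2, 0], [0, 1, 3, 2, 4, 3, 1, 5, 4, 3, 2, 0], [0, 1, 3, 2, 4, 3, 1, 5, 4, 3, 2, 0, 5, 4, 3, 2, 1, 3, 4, 5], [0, 1, 3, 2, 4, 3, 1, 5, 4, 3, 2, 0, 5, 4, 3, 2, 1, 3, 4, 5], [0, 1, 3,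 2, 4, 3, 1, 5, 4, 3, 2, 0, 4, 3, 2, 1, 3, 4, 5], [0, 1, 3, 2, 4, 3, 1, 5, 4, 3, 2, 0, 4, 3, 2, 1, 3, 4, 5], [0, 1, 3, 2, 4, 3, 1, 5, 4, 3, 2, 0, 3, 2, 1, 3, 4, 5], [0, 1, 3, 2, 4, 3, 1, 5, 4, 3, 2, 0, 3, 2, 1, 3, 4, 5], [0, 1, 3, 2, 4, 3, 1, 5, 4, 3, 2, 0, 2, 1, 3, 4, 5], [0, 1, 3, 2, 4, 3, 1, 5, 4, 3, 2, 0, 2, 1, 3, 4, 5], [0, 1, 3, 2, 4, 3, 1, 5, 4, 3, 2, 0, 2, 3, 4, 5], [0, 1, 3, 2, 4, 3, 1, 5, 4, 3, 2, 0, 2, 3, 4, 5], [0, 1, 3, 2, 4, 3, 1, 5, 4, 3, 2, 0, 1, 3, 4, 5], [0, 1, 3, 2, 4, 3, 1, 5, 4, 3, 2, 0, 1, 3, 4, 5], [0, 1, 3, 2, 4, 3, 1, 5, 4, 3, 2, 0, 3, 4, 5], [0, 1, 3, 2, 4, 3, 1, 5, 4, 3, 2, 0, 3, 4, 5], [0, 1, 3, 2, 4, 3,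 1, 5, 4, 3, 2, 0, 4, 5], [0, 1, 3, 2, 4, 3, 1, 5, 4, 3, 2, 0, 4, 5], [0, 1, 3, 2, 4, 3, 1, 5, 4, 3, 2, 0, 5], [0, 1, 3, 2, 4, 3, 1, 5, 4, 3, 2, 0, 5], [0, 1, 3, 2, 4, 3, 1, 5, 4, 3, 2, 0], [0, 1, 3, 2, 4, 3, 1, 5, 4, 3, 2, 0], [2, 0, 3, 2, 4, 3, 1, 5, 4, 3, 2, 0], [2, 0, 3, 2, 4, 3, 1, 5, 4, 3, 2, 0, 5, 4, 3, 2, 1, 3, 4, 5], [2, 0, 3, 2, 4, 3, 1, 5, 4, 3, 2, 0, 5, 4, 3, 2, 1, 3, 4, 5], [2, 0, 3, 2, 4, 3, 1, 5, 4, 3, 2, 0, 4, 3, 2, 1, 3, 4, 5], [2, 0, 3, 2, 4, 3, 1, 5, 4, 3, 2, 0, 4, 3, 2, 1, 3, 4, 5], [2, 0, 3, 2, 4, 3, 1, 5, 4, 3, 2, 0, 3, 2, 1, 3, 4, 5], [2, 0, 3, 2, 4, 3, 1, 5, 4, 3, 2, 0, 3, 2, 1, 3, 4, 5], [2, 0, 3, 2, 4, 3,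 1, 5, 4, 3, 2, 0, 2, 1, 3, 4, 5], [2, 0, 3, 2, 4, 3, 1, 5, 4, 3, 2, 0, 2, 1, 3, 4, 5], [2, 0, 3, 2, 4, 3, 1, 5, 4, 3, 2, 0, 2, 3, 4, 5], [2, 0, 3, 2, 4, 3, 1, 5, 4, 3, 2, 0, 2, 3, 4, 5], [2, 0, 3, 2, 4, 3, 1, 5, 4, 3, 2, 0, 1, 3, 4, 5], [2, 0, 3, 2, 4, 3, 1, 5, 4, 3, 2, 0, 1, 3, 4, 5], [2, 0, 3, 2, 4, 3, 1, 5, 4, 3, 2, 0, 3, 4, 5], [2, 0, 3, 2, 4, 3, 1, 5, 4, 3, 2, 0, 3, 4, 5], [2, 0, 3, 2, 4, 3, 1, 5, 4, 3, 2, 0, 4, 5], [2, 0, 3, 2, 4, 3, 1, 5, 4, 3, 2, 0, 4, 5], [2, 0, 3, 2, 4, 3, 1, 5, 4, 3, 2, 0, 5], [2, 0, 3, 2, 4, 3, 1, 5, 4, 3, 2, 0, 5], [2, 0, 3, 2, 4, 3, 1, 5, 4, 3, 2, 0], [2, 0, 3, 2, 4, 3, 1, 5, 4, 3, 2, 0], [0, 3, 2,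 4, 3, 1, 5, 4, 3, 2, 0], [0, 3, 2, 4, 3, 1, 5, 4, 3, 2, 0, 5, 4, 3, 2, 1, 3, 4, 5], [0, 3, 2, 4, 3, 1, 5, 4, 3, 2, 0, 5, 4, 3, 2, 1, 3, 4, 5], [0, 3, 2, 4, 3, 1, 5, 4, 3, 2, 0, 4, 3, 2, 1, 3, 4, 5], [0, 3, 2, 4, 3, 1, 5, 4, 3, 2, 0, 4, 3, 2, 1, 3, 4, 5], [0, 3, 2, 4, 3, 1, 5, 4, 3, 2, 0, 3, 2, 1, 3, 4, 5], [0, 3, 2, 4, 3, 1, 5, 4, 3, 2, 0, 3, 2, 1, 3, 4, 5], [0, 3, 2, 4, 3, 1, 5, 4, 3, 2, 0, 2, 1, 3, 4, 5], [0, 3, 2, 4, 3, 1, 5, 4, 3, 2, 0, 2, 1, 3, 4, 5], [0, 3, 2, 4, 3, 1, 5, 4, 3, 2, 0, 2, 3, 4, 5], [0, 3, 2, 4, 3, 1, 5, 4, 3, 2, 0, 2, 3, 4, 5], [0, 3, 2, 4, 3, 1, 5, 4, 3, 2, 0, 1, 3, 4, 5], [0, 3, 2, 4, 3, 1, 5, 4, 3, 2, 0, 1,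 3, 4, 5], [0, 3, 2, 4, 3, 1, 5, 4, 3, 2, 0, 3, 4, 5], [0, 3, 2, 4, 3, 1, 5, 4, 3, 2, 0, 3, 4, 5], [0, 3, 2, 4, 3, 1, 5, 4, 3, 2, 0, 4, 5], [0, 3, 2, 4, 3, 1, 5, 4, 3, 2, 0, 4, 5], [0, 3, 2, 4, 3, 1, 5, 4, 3, 2, 0, 5], [0, 3, 2, 4, 3, 1, 5, 4, 3, 2, 0, 5], [0, 3, 2, 4, 3, 1, 5, 4, 3, 2, 0], [0, 3, 2, 4, 3, 1, 5, 4, 3, 2, 0], [0, 2, 4, 3, 1, 5, 4, 3, 2, 0], [0, 2, 4, 3, 1, 5, 4, 3, 2, 0, 5, 4, 3, 2, 1, 3, 4, 5], [0, 2, 4, 3, 1, 5, 4, 3, 2, 0, 5, 4, 3, 2, 1, 3, 4, 5], [0, 2, 4, 3, 1, 5, 4, 3, 2, 0, 4, 3, 2, 1, 3, 4, 5], [0, 2, 4, 3, 1, 5, 4, 3, 2, 0, 4, 3, 2, 1, 3, 4, 5], [0, 2, 4, 3, 1, 5, 4, 3, 2, 0, 3, 2, 1, 3, 4, 5], [0, 2, 4, 3,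 1, 5, 4, 3, 2, 0, 3, 2, 1, 3, 4, 5], [0, 2, 4, 3, 1, 5, 4, 3, 2, 0, 2, 1, 3, 4, 5], [0, 2, 4, 3, 1, 5, 4, 3, 2, 0, 2, 1, 3, 4, 5], [0, 2, 4, 3, 1, 5, 4, 3, 2, 0, 2, 3, 4, 5], [0, 2, 4, 3, 1, 5, 4, 3, 2, 0, 2, 3, 4, 5], [0, 2, 4, 3, 1, 5, 4, 3, 2, 0, 1, 3, 4, 5], [0, 2, 4, 3, 1, 5, 4, 3, 2, 0, 1, 3, 4, 5], [0, 2, 4, 3, 1, 5, 4, 3, 2, 0, 3, 4, 5], [0, 2, 4, 3, 1, 5, 4, 3, 2, 0, 3, 4, 5], [0, 2, 4, 3, 1, 5, 4, 3, 2, 0, 4, 5], [0, 2, 4, 3, 1, 5, 4, 3, 2, 0, 4, 5], [0, 2, 4, 3, 1, 5, 4, 3, 2, 0, 5], [0, 2, 4, 3, 1, 5, 4, 3, 2, 0, 5], [0, 2, 4, 3, 1, 5, 4, 3, 2, 0], [0, 2, 4, 3, 1, 5, 4, 3, 2, 0], [0, 2, 3, 1, 5, 4, 3, 2, 0], [0, 2, 3,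 1, 5, 4, 3, 2, 0, 5, 4, 3, 2, 1, 3, 4, 5], [0, 2, 3, 1, 5, 4, 3, 2, 0, 5, 4, 3, 2, 1, 3, 4, 5], [0, 2, 3, 1, 5, 4, 3, 2, 0, 4, 3, 2, 1, 3, 4, 5], [0, 2, 3, 1, 5, 4, 3, 2, 0, 4, 3, 2, 1, 3, 4, 5], [0, 2, 3, 1, 5, 4, 3, 2, 0, 3, 2, 1, 3, 4, 5], [0, 2, 3, 1, 5, 4, 3, 2, 0, 3, 2, 1, 3, 4, 5], [0, 2, 3, 1, 5, 4, 3, 2, 0, 2, 1, 3, 4, 5], [0, 2, 3, 1, 5, 4, 3, 2, 0, 2, 1, 3, 4, 5], [0, 2, 3, 1, 5, 4, 3, 2, 0, 2, 3, 4, 5], [0, 2, 3, 1, 5, 4, 3, 2, 0, 2, 3, 4, 5], [0, 2, 3, 1, 5, 4, 3, 2, 0, 1, 3, 4, 5], [0, 2, 3, 1, 5, 4, 3, 2, 0, 1, 3, 4, 5], [0, 2, 3, 1, 5, 4, 3, 2, 0, 3, 4, 5], [0, 2, 3, 1, 5, 4, 3, 2, 0, 3, 4, 5], [0, 2, 3, 1, 5, 4,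 3, 2, 0, 4, 5], [0, 2, 3, 1, 5, 4, 3, 2, 0, 4, 5], [0, 2, 3, 1, 5, 4, 3, 2, 0, 5], [0, 2, 3, 1, 5, 4, 3, 2, 0, 5], [0, 2, 3, 1, 5, 4, 3, 2, 0], [0, 2, 3, 1, 5, 4, 3, 2, 0], [0, 2, 3, 4, 1, 3, 2, 0], [0, 2, 3, 4, 1, 3, 2, 0, 5, 4, 3, 2, 1, 3, 4, 5], [0, 2, 3, 4, 1, 3, 2, 0, 5, 4, 3, 2, 1, 3, 4, 5], [0, 2, 3, 4, 1, 3, 2, 0, 4, 3, 2, 1, 3, 4, 5], [0, 2, 3, 4, 1, 3, 2, 0, 4, 3, 2, 1, 3, 4, 5], [0, 2, 3, 4, 1, 3, 2, 0, 3, 2, 1, 3, 4, 5], [0, 2, 3, 4, 1, 3, 2, 0, 3, 2, 1, 3, 4, 5], [0, 2, 3, 4, 1, 3, 2, 0, 2, 1, 3, 4, 5], [0, 2, 3, 4, 1, 3, 2, 0, 2, 1, 3, 4, 5], [0, 2, 3, 4, 1, 3, 2, 0, 2, 3, 4, 5], [0, 2, 3, 4, 1, 3, 2, 0, 2, 3, 4, 5],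 [0, 2, 3, 4, 1, 3, 2, 0, 1, 3, 4, 5], [0, 2, 3, 4, 1, 3, 2, 0, 1, 3, 4, 5], [0, 2, 3, 4, 1, 3, 2, 0, 3, 4, 5], [0, 2, 3, 4, 1, 3, 2, 0, 3, 4, 5], [0, 2, 3, 4, 1, 3, 2, 0, 4, 5], [0, 2, 3, 4, 1, 3, 2, 0, 4, 5], [0, 2, 3, 4, 1, 3, 2, 0, 5], [0, 2, 3, 4, 1, 3, 2, 0, 5], [0, 2, 3, 4, 1, 3, 2, 0], [0, 2, 3, 4, 1, 3, 2, 0], [1, 3, 2, 4, 3, 1, 5, 4, 3, 2, 0], [1, 3, 2, 4, 3, 1, 5, 4, 3, 2, 0, 5, 4, 3, 2, 1, 3, 4, 5], [1, 3, 2, 4, 3, 1, 5, 4, 3, 2, 0, 5, 4, 3, 2, 1, 3, 4, 5], [1, 3, 2, 4, 3, 1, 5, 4, 3, 2, 0, 4, 3, 2, 1, 3, 4, 5], [1, 3, 2, 4, 3, 1, 5, 4, 3, 2, 0, 4, 3, 2, 1, 3, 4, 5], [1, 3, 2, 4, 3, 1, 5, 4, 3, 2, 0, 3, 2, 1, 3, 4, 5],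 [1, 3, 2, 4, 3, 1, 5, 4, 3, 2, 0, 3, 2, 1, 3, 4, 5], [1, 3, 2, 4, 3, 1, 5, 4, 3, 2, 0, 2, 1, 3, 4, 5], [1, 3, 2, 4, 3, 1, 5, 4, 3, 2, 0, 2, 1, 3, 4, 5], [1, 3, 2, 4, 3, 1, 5, 4, 3, 2, 0, 2, 3, 4, 5], [1, 3, 2, 4, 3, 1, 5, 4, 3, 2, 0, 2, 3, 4, 5], [1, 3, 2, 4, 3, 1, 5, 4, 3, 2, 0, 1, 3, 4, 5], [1, 3, 2, 4, 3, 1, 5, 4, 3, 2, 0, 1, 3, 4, 5], [1, 3, 2, 4, 3, 1, 5, 4, 3, 2, 0, 3, 4, 5], [1, 3, 2, 4, 3, 1, 5, 4, 3, 2, 0, 3, 4, 5], [1, 3, 2, 4, 3, 1, 5, 4, 3, 2, 0, 4, 5], [1, 3, 2, 4, 3, 1, 5, 4, 3, 2, 0, 4, 5], [1, 3, 2, 4, 3, 1, 5, 4, 3, 2, 0, 5], [1, 3, 2, 4, 3, 1, 5, 4, 3, 2, 0, 5], [1, 3, 2, 4, 3, 1, 5, 4, 3, 2, 0], [1, 3, 2, 4, 3,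 1, 5, 4, 3, 2, 0], [3, 2, 4, 3, 1, 5, 4, 3, 2, 0], [3, 2, 4, 3, 1, 5, 4, 3, 2, 0, 5, 4, 3, 2, 1, 3, 4, 5], [3, 2, 4, 3, 1, 5, 4, 3, 2, 0, 5, 4, 3, 2, 1, 3, 4, 5], [3, 2, 4, 3, 1, 5, 4, 3, 2, 0, 4, 3, 2, 1, 3, 4, 5], [3, 2, 4, 3, 1, 5, 4, 3, 2, 0, 4, 3, 2, 1, 3, 4, 5], [3, 2, 4, 3, 1, 5, 4, 3, 2, 0, 3, 2, 1, 3, 4, 5], [3, 2, 4, 3, 1, 5, 4, 3, 2, 0, 3, 2, 1, 3, 4, 5], [3, 2, 4, 3, 1, 5, 4, 3, 2, 0, 2, 1, 3, 4, 5], [3, 2, 4, 3, 1, 5, 4, 3, 2, 0, 2, 1, 3, 4, 5], [3, 2, 4, 3, 1, 5, 4, 3, 2, 0, 2, 3, 4, 5], [3, 2, 4, 3, 1, 5, 4, 3, 2, 0, 2, 3, 4, 5], [3, 2, 4, 3, 1, 5, 4, 3, 2, 0, 1, 3, 4, 5], [3, 2, 4, 3, 1, 5, 4, 3, 2, 0, 1, 3, 4, 5],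 [3, 2, 4, 3, 1, 5, 4, 3, 2, 0, 3, 4, 5], [3, 2, 4, 3, 1, 5, 4, 3, 2, 0, 3, 4, 5], [3, 2, 4, 3, 1, 5, 4, 3, 2, 0, 4, 5], [3, 2, 4, 3, 1, 5, 4, 3, 2, 0, 4, 5], [3, 2, 4, 3, 1, 5, 4, 3, 2, 0, 5], [3, 2, 4, 3, 1, 5, 4, 3, 2, 0, 5], [3, 2, 4, 3, 1, 5, 4, 3, 2, 0], [3, 2, 4, 3, 1, 5, 4, 3, 2, 0], [2, 4, 3, 1, 5, 4, 3, 2, 0], [2, 4, 3, 1, 5, 4, 3, 2, 0, 5, 4, 3, 2, 1, 3, 4, 5], [2, 4, 3, 1, 5, 4, 3, 2, 0, 5, 4, 3, 2, 1, 3, 4, 5], [2, 4, 3, 1, 5, 4, 3, 2, 0, 4, 3, 2, 1, 3, 4, 5], [2, 4, 3, 1, 5, 4, 3, 2, 0, 4, 3, 2, 1, 3, 4, 5], [2, 4, 3, 1, 5, 4, 3, 2, 0, 3, 2, 1, 3, 4, 5], [2, 4, 3, 1, 5, 4, 3, 2, 0, 3, 2, 1, 3, 4, 5], [2, 4, 3, 1, 5,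 4, 3, 2, 0, 2, 1, 3, 4, 5], [2, 4, 3, 1, 5, 4, 3, 2, 0, 2, 1, 3, 4, 5], [2, 4, 3, 1, 5, 4, 3, 2, 0, 2, 3, 4, 5], [2, 4, 3, 1, 5, 4, 3, 2, 0, 2, 3, 4, 5], [2, 4, 3, 1, 5, 4, 3, 2, 0, 1, 3, 4, 5], [2, 4, 3, 1, 5, 4, 3, 2, 0, 1, 3, 4, 5], [2, 4, 3, 1, 5, 4, 3, 2, 0, 3, 4, 5], [2, 4, 3, 1, 5, 4, 3, 2, 0, 3, 4, 5], [2, 4, 3, 1, 5, 4, 3, 2, 0, 4, 5], [2, 4, 3, 1, 5, 4, 3, 2, 0, 4, 5], [2, 4, 3, 1, 5, 4, 3, 2, 0, 5], [2, 4, 3, 1, 5, 4, 3, 2, 0, 5], [2, 4, 3, 1, 5, 4, 3, 2, 0], [2, 4, 3, 1, 5, 4, 3, 2, 0], [2, 3, 1, 5, 4, 3, 2, 0], [2, 3, 1, 5, 4, 3, 2, 0, 5, 4, 3, 2, 1, 3, 4, 5], [2, 3, 1, 5, 4, 3, 2, 0, 5, 4, 3, 2, 1, 3, 4, 5], [2, 3,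 1, 5, 4, 3, 2, 0, 4, 3, 2, 1, 3, 4, 5], [2, 3, 1, 5, 4, 3, 2, 0, 4, 3, 2, 1, 3, 4, 5], [2, 3, 1, 5, 4, 3, 2, 0, 3, 2, 1, 3, 4, 5], [2, 3, 1, 5, 4, 3, 2, 0, 3, 2, 1, 3, 4, 5], [2, 3, 1, 5, 4, 3, 2, 0, 2, 1, 3, 4, 5], [2, 3, 1, 5, 4, 3, 2, 0, 2, 1, 3, 4, 5], [2, 3, 1, 5, 4, 3, 2, 0, 2, 3, 4, 5], [2, 3, 1, 5, 4, 3, 2, 0, 2, 3, 4, 5], [2, 3, 1, 5, 4, 3, 2, 0, 1, 3, 4, 5], [2, 3, 1, 5, 4, 3, 2, 0, 1, 3, 4, 5], [2, 3, 1, 5, 4, 3, 2, 0, 3, 4, 5], [2, 3, 1, 5, 4, 3, 2, 0, 3, 4, 5], [2, 3, 1, 5, 4, 3, 2, 0, 4, 5], [2, 3, 1, 5, 4, 3, 2, 0, 4, 5], [2, 3, 1, 5, 4, 3, 2, 0, 5], [2, 3, 1, 5, 4, 3, 2, 0, 5], [2, 3, 1, 5, 4, 3, 2, 0], [2, 3, 1,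 5, 4, 3, 2, 0], [2, 3, 4, 1, 3, 2, 0], [2, 3, 4, 1, 3, 2, 0, 5, 4, 3, 2, 1, 3, 4, 5], [2, 3, 4, 1, 3, 2, 0, 5, 4, 3, 2, 1, 3, 4, 5], [2, 3, 4, 1, 3, 2, 0, 4, 3, 2, 1, 3, 4, 5], [2, 3, 4, 1, 3, 2, 0, 4, 3, 2, 1, 3, 4, 5], [2, 3, 4, 1, 3, 2, 0, 3, 2, 1, 3, 4, 5], [2, 3, 4, 1, 3, 2, 0, 3, 2, 1, 3, 4, 5], [2, 3, 4, 1, 3, 2, 0, 2, 1, 3, 4, 5], [2, 3, 4, 1, 3, 2, 0, 2, 1, 3, 4, 5], [2, 3, 4, 1, 3, 2, 0, 2, 3, 4, 5], [2, 3, 4, 1, 3, 2, 0, 2, 3, 4, 5], [2, 3, 4, 1, 3, 2, 0, 1, 3, 4, 5], [2, 3, 4, 1, 3, 2, 0, 1, 3, 4, 5], [2, 3, 4, 1, 3, 2, 0, 3, 4, 5], [2, 3, 4, 1, 3, 2, 0, 3, 4, 5], [2, 3, 4, 1, 3, 2, 0, 4, 5], [2, 3, 4, 1, 3, 2, 0, 4,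 5], [2, 3, 4, 1, 3, 2, 0, 5], [2, 3, 4, 1, 3, 2, 0, 5], [2, 3, 4, 1, 3, 2, 0], [2, 3, 4, 1, 3, 2, 0], [4, 3, 1, 5, 4, 3, 2, 0], [4, 3, 1, 5, 4, 3, 2, 0, 5, 4, 3, 2, 1, 3, 4, 5], [4, 3, 1, 5, 4, 3, 2, 0, 5, 4, 3, 2, 1, 3, 4, 5], [4, 3, 1, 5, 4, 3, 2, 0, 4, 3, 2, 1, 3, 4, 5], [4, 3, 1, 5, 4, 3, 2, 0, 4, 3, 2, 1, 3, 4, 5], [4, 3, 1, 5, 4, 3, 2, 0, 3, 2, 1, 3, 4, 5], [4, 3, 1, 5, 4, 3, 2, 0, 3, 2, 1, 3, 4, 5], [4, 3, 1, 5, 4, 3, 2, 0, 2, 1, 3, 4, 5], [4, 3, 1, 5, 4, 3, 2, 0, 2, 1, 3, 4, 5], [4, 3, 1, 5, 4, 3, 2, 0, 2, 3, 4, 5], [4, 3, 1, 5, 4, 3, 2, 0, 2, 3, 4, 5], [4, 3, 1, 5, 4, 3, 2, 0, 1, 3, 4, 5], [4, 3, 1, 5, 4, 3, 2, 0, 1, 3,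 4, 5], [4, 3, 1, 5, 4, 3, 2, 0, 3, 4, 5], [4, 3, 1, 5, 4, 3, 2, 0, 3, 4, 5], [4, 3, 1, 5, 4, 3, 2, 0, 4, 5], [4, 3, 1, 5, 4, 3, 2, 0, 4, 5], [4, 3, 1, 5, 4, 3, 2, 0, 5], [4, 3, 1, 5, 4, 3, 2, 0, 5], [4, 3, 1, 5, 4, 3, 2, 0], [4, 3, 1, 5, 4, 3, 2, 0], [3, 1, 5, 4, 3, 2, 0], [3, 1, 5, 4, 3, 2, 0, 5, 4, 3, 2, 1, 3, 4, 5], [3, 1, 5, 4, 3, 2, 0, 5, 4, 3, 2, 1, 3, 4, 5], [3, 1, 5, 4, 3, 2, 0, 4, 3, 2, 1, 3, 4, 5], [3, 1, 5, 4, 3, 2, 0, 4, 3, 2, 1, 3, 4, 5], [3, 1, 5, 4, 3, 2, 0, 3, 2, 1, 3, 4, 5], [3, 1, 5, 4, 3, 2, 0, 3, 2, 1, 3, 4, 5], [3, 1, 5, 4, 3, 2, 0, 2, 1, 3, 4, 5], [3, 1, 5, 4, 3, 2, 0, 2, 1, 3, 4, 5], [3, 1, 5, 4, 3, 2, 0, 2,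 3, 4, 5], [3, 1, 5, 4, 3, 2, 0, 2, 3, 4, 5], [3, 1, 5, 4, 3, 2, 0, 1, 3, 4, 5], [3, 1, 5, 4, 3, 2, 0, 1, 3, 4, 5], [3, 1, 5, 4, 3, 2, 0, 3, 4, 5], [3, 1, 5, 4, 3, 2, 0, 3, 4, 5], [3, 1, 5, 4, 3, 2, 0, 4, 5], [3, 1, 5, 4, 3, 2, 0, 4, 5], [3, 1, 5, 4, 3, 2, 0, 5], [3, 1, 5, 4, 3, 2, 0, 5], [3, 1, 5, 4, 3, 2, 0], [3, 1, 5, 4, 3, 2, 0], [3, 4, 1, 3, 2, 0], [3, 4, 1, 3, 2, 0, 5, 4, 3, 2, 1, 3, 4, 5], [3, 4, 1, 3, 2, 0, 5, 4, 3, 2, 1, 3, 4, 5], [3, 4, 1, 3, 2, 0, 4, 3, 2, 1, 3, 4, 5], [3, 4, 1, 3, 2, 0, 4, 3, 2, 1, 3, 4, 5], [3, 4, 1, 3, 2, 0, 3, 2, 1, 3, 4, 5], [3, 4, 1, 3, 2, 0, 3, 2, 1, 3, 4, 5], [3, 4, 1, 3, 2, 0, 2, 1, 3, 4, 5], [3,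 4, 1, 3, 2, 0, 2, 1, 3, 4, 5], [3, 4, 1, 3, 2, 0, 2, 3, 4, 5], [3, 4, 1, 3, 2, 0, 2, 3, 4, 5], [3, 4, 1, 3, 2, 0, 1, 3, 4, 5], [3, 4, 1, 3, 2, 0, 1, 3, 4, 5], [3, 4, 1, 3, 2, 0, 3, 4, 5], [3, 4, 1, 3, 2, 0, 3, 4, 5], [3, 4, 1, 3, 2, 0, 4, 5], [3, 4, 1, 3, 2, 0, 4, 5], [3, 4, 1, 3, 2, 0, 5], [3, 4, 1, 3, 2, 0, 5], [3, 4, 1, 3, 2, 0], [3, 4, 1, 3, 2, 0], [1, 5, 4, 3, 2, 0], [1, 5, 4, 3, 2, 0, 5, 4, 3, 2, 1, 3, 4, 5], [1, 5, 4, 3, 2, 0, 5, 4, 3, 2, 1, 3, 4, 5], [1, 5, 4, 3, 2, 0, 4, 3, 2, 1, 3, 4, 5], [1, 5, 4, 3, 2, 0, 4, 3, 2, 1, 3, 4, 5], [1, 5, 4, 3, 2, 0, 3, 2, 1, 3, 4, 5], [1, 5, 4, 3, 2, 0, 3, 2, 1, 3, 4, 5], [1, 5, 4, 3, 2,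 0, 2, 1, 3, 4, 5], [1, 5, 4, 3, 2, 0, 2, 1, 3, 4, 5], [1, 5, 4, 3, 2, 0, 2, 3, 4, 5], [1, 5, 4, 3, 2, 0, 2, 3, 4, 5], [1, 5, 4, 3, 2, 0, 1, 3, 4, 5], [1, 5, 4, 3, 2, 0, 1, 3, 4, 5], [1, 5, 4, 3, 2, 0, 3, 4, 5], [1, 5, 4, 3, 2, 0, 3, 4, 5], [1, 5, 4, 3, 2, 0, 4, 5], [1, 5, 4, 3, 2, 0, 4, 5], [1, 5, 4, 3, 2, 0, 5], [1, 5, 4, 3, 2, 0, 5], [1, 5, 4, 3, 2, 0], [1, 5, 4, 3, 2, 0], [4, 1, 3, 2, 0], [4, 1, 3, 2, 0, 5, 4, 3, 2, 1, 3, 4, 5], [4, 1, 3, 2, 0, 5, 4, 3, 2, 1, 3, 4, 5], [4, 1, 3, 2, 0, 4, 3, 2, 1, 3, 4, 5], [4, 1, 3, 2, 0, 4, 3, 2, 1, 3, 4, 5], [4, 1, 3, 2, 0, 3, 2, 1, 3, 4, 5], [4, 1, 3, 2, 0, 3, 2, 1, 3, 4, 5], [4, 1, 3, 2, 0,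 2, 1, 3, 4, 5], [4, 1, 3, 2, 0, 2, 1, 3, 4, 5], [4, 1, 3, 2, 0, 2, 3, 4, 5], [4, 1, 3, 2, 0, 2, 3, 4, 5], [4, 1, 3, 2, 0, 1, 3, 4, 5], [4, 1, 3, 2, 0, 1, 3, 4, 5], [4, 1, 3, 2, 0, 3, 4, 5], [4, 1, 3, 2, 0, 3, 4, 5], [4, 1, 3, 2, 0, 4, 5], [4, 1, 3, 2, 0, 4, 5], [4, 1, 3, 2, 0, 5], [4, 1, 3, 2, 0, 5], [4, 1, 3, 2, 0], [4, 1, 3, 2, 0], [1, 3, 2, 0], [1, 3, 2, 0, 5, 4, 3, 2, 1, 3, 4, 5], [1, 3, 2, 0, 5, 4, 3, 2, 1, 3, 4, 5], [1, 3, 2, 0, 4, 3, 2, 1, 3, 4, 5], [1, 3, 2, 0, 4, 3, 2, 1, 3, 4, 5], [1, 3, 2, 0, 3, 2, 1, 3, 4, 5], [1, 3, 2, 0, 3, 2, 1, 3, 4, 5], [1, 3, 2, 0, 2, 1, 3, 4, 5], [1, 3, 2, 0, 2, 1, 3, 4, 5], [1, 3, 2, 0, 2, 3,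 4, 5], [1, 3, 2, 0, 2, 3, 4, 5], [1, 3, 2, 0, 1, 3, 4, 5], [1, 3, 2, 0, 1, 3, 4, 5], [1, 3, 2, 0, 3, 4, 5], [1, 3, 2, 0, 3, 4, 5], [1, 3, 2, 0, 4, 5], [1, 3, 2, 0, 4, 5], [1, 3, 2, 0, 5], [1, 3, 2, 0, 5], [1, 3, 2, 0], [1, 3, 2, 0], [5, 4, 3, 2, 0], [5, 4, 3, 2, 0, 5, 4, 3, 2, 1, 3, 4, 5], [5, 4, 3, 2, 0, 5, 4, 3, 2, 1, 3, 4, 5], [5, 4, 3, 2, 0, 4, 3, 2, 1, 3, 4, 5], [5, 4, 3, 2, 0, 4, 3, 2, 1, 3, 4, 5], [5, 4, 3, 2, 0, 3, 2, 1, 3, 4, 5], [5, 4, 3, 2, 0, 3, 2, 1, 3, 4, 5], [5, 4, 3, 2, 0, 2, 1, 3, 4, 5], [5, 4, 3, 2, 0, 2, 1, 3, 4, 5], [5, 4, 3, 2, 0, 2, 3, 4, 5], [5, 4, 3, 2, 0, 2, 3, 4, 5], [5, 4, 3, 2, 0, 1, 3, 4, 5], [5, 4, 3,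 2, 0, 1, 3, 4, 5], [5, 4, 3, 2, 0, 3, 4, 5], [5, 4, 3, 2, 0, 3, 4, 5], [5, 4, 3, 2, 0, 4, 5], [5, 4, 3, 2, 0, 4, 5], [5, 4, 3, 2, 0, 5], [5, 4, 3, 2, 0, 5], [5, 4, 3, 2, 0], [5, 4, 3, 2, 0], [4, 3, 2, 0], [4, 3, 2, 0, 5, 4, 3, 2, 1, 3, 4, 5], [4, 3, 2, 0, 5, 4, 3, 2, 1, 3, 4, 5], [4, 3, 2, 0, 4, 3, 2, 1, 3, 4, 5], [4, 3, 2, 0, 4, 3, 2, 1, 3, 4, 5], [4, 3, 2, 0, 3, 2, 1, 3, 4, 5], [4, 3, 2, 0, 3, 2, 1, 3, 4, 5], [4, 3, 2, 0, 2, 1, 3, 4, 5], [4, 3, 2, 0, 2, 1, 3, 4, 5], [4, 3, 2, 0, 2, 3, 4, 5], [4, 3, 2, 0, 2, 3, 4, 5], [4, 3, 2, 0, 1, 3, 4, 5], [4, 3, 2, 0, 1, 3, 4, 5], [4, 3, 2, 0, 3, 4, 5], [4, 3, 2, 0, 3, 4, 5], [4, 3, 2, 0, 4,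 5], [4, 3, 2, 0, 4, 5], [4, 3, 2, 0, 5], [4, 3, 2, 0, 5], [4, 3, 2, 0], [4, 3, 2, 0], [3, 2, 0], [3, 2, 0, 5, 4, 3, 2, 1, 3, 4, 5], [3, 2, 0, 5, 4, 3, 2, 1, 3, 4, 5], [3, 2, 0, 4, 3, 2, 1, 3, 4, 5], [3, 2, 0, 4, 3, 2, 1, 3, 4, 5], [3, 2, 0, 3, 2, 1, 3, 4, 5], [3, 2, 0, 3, 2, 1, 3, 4, 5], [3, 2, 0, 2, 1, 3, 4, 5], [3, 2, 0, 2, 1, 3, 4, 5], [3, 2, 0, 2, 3, 4, 5], [3, 2, 0, 2, 3, 4, 5], [3, 2, 0, 1, 3, 4, 5], [3, 2, 0, 1, 3, 4, 5], [3, 2, 0, 3, 4, 5], [3, 2, 0, 3, 4, 5], [3, 2, 0, 4, 5], [3, 2, 0, 4, 5], [3, 2, 0, 5], [3, 2, 0, 5], [3, 2, 0], [3, 2, 0], [2, 0], [2, 0, 5, 4, 3, 2, 1, 3, 4, 5], [2, 0, 5, 4, 3, 2, 1, 3, 4, 5], [2, 0, 4,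 3, 2, 1, 3, 4, 5], [2, 0, 4, 3, 2, 1, 3, 4, 5], [2, 0, 3, 2, 1, 3, 4, 5], [2, 0, 3, 2, 1, 3, 4, 5], [2, 0, 2, 1, 3, 4, 5], [2, 0, 2, 1, 3, 4, 5], [2, 0, 2, 3, 4, 5], [2, 0, 2, 3, 4, 5], [2, 0, 1, 3, 4, 5], [2, 0, 1, 3, 4, 5], [2, 0, 3, 4, 5], [2, 0, 3, 4, 5], [2, 0, 4, 5], [2, 0, 4, 5], [2, 0, 5], [2, 0, 5], [2, 0], [2, 0], [0], [0, 5, 4, 3, 2, 1, 3, 4, 5], [0, 5, 4, 3, 2, 1, 3, 4, 5], [0, 4, 3, 2, 1, 3, 4, 5], [0, 4, 3, 2, 1, 3, 4, 5], [0, 3, 2, 1, 3, 4, 5], [0, 3, 2, 1, 3, 4, 5], [0, 2, 1, 3, 4, 5], [0, 2, 1, 3, 4, 5], [0, 2, 3, 4, 5], [0, 2, 3, 4, 5], [0, 1, 3, 4, 5], [0, 1, 3, 4, 5], [0, 3, 4, 5], [0, 3, 4, 5], [0, 4, 5], [0,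 4, 5], [0, 5], [0, 5], [0], [0], [], [5, 4, 3, 2, 1, 3, 4, 5], [5, 4, 3, 2, 1, 3, 4, 5], [4, 3, 2, 1, 3, 4, 5], [4, 3, 2, 1, 3, 4, 5], [3, 2, 1, 3, 4, 5], [3, 2, 1, 3, 4, 5], [2, 1, 3, 4, 5], [2, 1, 3, 4, 5], [1, 3, 4, 5], [1, 3, 4, 5], [2, 3, 4, 5], [2, 3, 4, 5], [3, 4, 5], [3, 4, 5], [4, 5], [4, 5], [5], [5], [], []],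
  [[6, 5, 4, 3, 2, 0], [6, 5, 4, 3, 2, 0, 3, 2, 4, 3, 5, 4, 6, 5], [6, 5, 4, 3, 2, 0, 3, 2, 4, 3, 5, 4, 6, 5, 3, 2, 4, 3], [6, 5, 4, 3, 2, 0, 3, 2, 4, 3, 5, 4, 6, 5, 3, 2, 4, 3], [6, 5, 4, 3, 2, 0, 3, 2, 4, 3, 5, 4, 6, 5, 2, 4, 3], [6, 5, 4, 3, 2, 0, 3, 2, 4, 3, 5, 4, 6, 5, 2, 4, 3], [6, 5, 4, 3, 2, 0, 3, 2, 4, 3, 5, 4, 6, 5, 2, 3], [6, 5, 4, 3, 2, 0, 3, 2, 4, 3, 5, 4, 6, 5, 2, 3], [6, 5, 4, 3, 2, 0, 3, 2, 4, 3, 5, 4, 6, 5, 4, 3], [6, 5, 4, 3, 2, 0, 3, 2, 4, 3, 5, 4, 6, 5, 4, 3], [6, 5, 4, 3, 2, 0, 3, 2, 4, 3, 5, 4, 6, 5, 3], [6, 5, 4, 3, 2, 0, 3, 2, 4, 3, 5, 4, 6, 5, 3], [6, 5, 4, 3, 2, 0, 3, 2, 4, 3, 5, 4, 6, 5], [6, 5, 4, 3, 2,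 0, 3, 2, 4, 3, 5, 4, 6, 5], [6, 5, 4, 3, 2, 0, 2, 4, 3, 5, 4, 6, 5], [6, 5, 4, 3, 2, 0, 2, 4, 3, 5, 4, 6, 5, 3, 2, 4, 3], [6, 5, 4, 3, 2, 0, 2, 4, 3, 5, 4, 6, 5, 3, 2, 4, 3], [6, 5, 4, 3, 2, 0, 2, 4, 3, 5, 4, 6, 5, 2, 4, 3], [6, 5, 4, 3, 2, 0, 2, 4, 3, 5, 4, 6, 5, 2, 4, 3], [6, 5, 4, 3, 2, 0, 2, 4, 3, 5, 4, 6, 5, 2, 3], [6, 5, 4, 3, 2, 0, 2, 4, 3, 5, 4, 6, 5, 2, 3], [6, 5, 4, 3, 2, 0, 2, 4, 3, 5, 4, 6, 5, 4, 3], [6, 5, 4, 3, 2, 0, 2, 4, 3, 5, 4, 6, 5, 4, 3], [6, 5, 4, 3, 2, 0, 2, 4, 3, 5, 4, 6, 5, 3], [6, 5, 4, 3, 2, 0, 2, 4, 3, 5, 4, 6, 5, 3], [6, 5, 4, 3, 2, 0, 2, 4, 3, 5, 4, 6, 5], [6, 5, 4, 3, 2, 0, 2, 4, 3, 5, 4, 6, 5], [6,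 5, 4, 3, 2, 0, 2, 3, 5, 4, 6, 5], [6, 5, 4, 3, 2, 0, 2, 3, 5, 4, 6, 5, 3, 2, 4, 3], [6, 5, 4, 3, 2, 0, 2, 3, 5, 4, 6, 5, 3, 2, 4, 3], [6, 5, 4, 3, 2, 0, 2, 3, 5, 4, 6, 5, 2, 4, 3], [6, 5, 4, 3, 2, 0, 2, 3, 5, 4, 6, 5, 2, 4, 3], [6, 5, 4, 3, 2, 0, 2, 3, 5, 4, 6, 5, 2, 3], [6, 5, 4, 3, 2, 0, 2, 3, 5, 4, 6, 5, 2, 3], [6, 5, 4, 3, 2, 0, 2, 3, 5, 4, 6, 5, 4, 3], [6, 5, 4, 3, 2, 0, 2, 3, 5, 4, 6, 5, 4, 3], [6, 5, 4, 3, 2, 0, 2, 3, 5, 4, 6, 5, 3], [6, 5, 4, 3, 2, 0, 2, 3, 5, 4, 6, 5, 3], [6, 5, 4, 3, 2, 0, 2, 3, 5, 4, 6, 5], [6, 5, 4, 3, 2, 0, 2, 3, 5, 4, 6, 5], [6, 5, 4, 3, 2, 0, 2, 3, 4, 6, 5], [6, 5, 4, 3, 2, 0, 2, 3, 4, 6, 5, 3, 2,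 4, 3], [6, 5, 4, 3, 2, 0, 2, 3, 4, 6, 5, 3, 2, 4, 3], [6, 5, 4, 3, 2, 0, 2, 3, 4, 6, 5, 2, 4, 3], [6, 5, 4, 3, 2, 0, 2, 3, 4, 6, 5, 2, 4, 3], [6, 5, 4, 3, 2, 0, 2, 3, 4, 6, 5, 2, 3], [6, 5, 4, 3, 2, 0, 2, 3, 4, 6, 5, 2, 3], [6, 5, 4, 3, 2, 0, 2, 3, 4, 6, 5, 4, 3], [6, 5, 4, 3, 2, 0, 2, 3, 4, 6, 5, 4, 3], [6, 5, 4, 3, 2, 0, 2, 3, 4, 6, 5, 3], [6, 5, 4, 3, 2, 0, 2, 3, 4, 6, 5, 3], [6, 5, 4, 3, 2, 0, 2, 3, 4, 6, 5], [6, 5, 4, 3, 2, 0, 2, 3, 4, 6, 5], [6, 5, 4, 3, 2, 0, 2, 3, 4, 5], [6, 5, 4, 3, 2, 0, 2, 3, 4, 5, 3, 2, 4, 3], [6, 5, 4, 3, 2, 0, 2, 3, 4, 5, 3, 2, 4, 3], [6, 5, 4, 3, 2, 0, 2, 3, 4, 5, 2, 4, 3], [6, 5, 4, 3, 2, 0, 2, 3,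 4, 5, 2, 4, 3], [6, 5, 4, 3, 2, 0, 2, 3, 4, 5, 2, 3], [6, 5, 4, 3, 2, 0, 2, 3, 4, 5, 2, 3], [6, 5, 4, 3, 2, 0, 2, 3, 4, 5, 4, 3], [6, 5, 4, 3, 2, 0, 2, 3, 4, 5, 4, 3], [6, 5, 4, 3, 2, 0, 2, 3, 4, 5, 3], [6, 5, 4, 3, 2, 0, 2, 3, 4, 5, 3], [6, 5, 4, 3, 2, 0, 2, 3, 4, 5], [6, 5, 4, 3, 2, 0, 2, 3, 4, 5], [6, 5, 4, 3, 2, 0, 4, 3, 5, 4, 6, 5], [6, 5, 4, 3, 2, 0, 4, 3, 5, 4, 6, 5, 3, 2, 4, 3], [6, 5, 4, 3, 2, 0, 4, 3, 5, 4, 6, 5, 3, 2, 4, 3], [6, 5, 4, 3, 2, 0, 4, 3, 5, 4, 6, 5, 2, 4, 3], [6, 5, 4, 3, 2, 0, 4, 3, 5, 4, 6, 5, 2, 4, 3], [6, 5, 4, 3, 2, 0, 4, 3, 5, 4, 6, 5, 2, 3], [6, 5, 4, 3, 2, 0, 4, 3, 5, 4, 6, 5, 2, 3], [6, 5, 4, 3, 2,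 0, 4, 3, 5, 4, 6, 5, 4, 3], [6, 5, 4, 3, 2, 0, 4, 3, 5, 4, 6, 5, 4, 3], [6, 5, 4, 3, 2, 0, 4, 3, 5, 4, 6, 5, 3], [6, 5, 4, 3, 2, 0, 4, 3, 5, 4, 6, 5, 3], [6, 5, 4, 3, 2, 0, 4, 3, 5, 4, 6, 5], [6, 5, 4, 3, 2, 0, 4, 3, 5, 4, 6, 5], [6, 5, 4, 3, 2, 0, 3, 5, 4, 6, 5], [6, 5, 4, 3, 2, 0, 3, 5, 4, 6, 5, 3, 2, 4, 3], [6, 5, 4, 3, 2, 0, 3, 5, 4, 6, 5, 3, 2, 4, 3], [6, 5, 4, 3, 2, 0, 3, 5, 4, 6, 5, 2, 4, 3], [6, 5, 4, 3, 2, 0, 3, 5, 4, 6, 5, 2, 4, 3], [6, 5, 4, 3, 2, 0, 3, 5, 4, 6, 5, 2, 3], [6, 5, 4, 3, 2, 0, 3, 5, 4, 6, 5, 2, 3], [6, 5, 4, 3, 2, 0, 3, 5, 4, 6, 5, 4, 3], [6, 5, 4, 3, 2, 0, 3, 5, 4, 6, 5, 4, 3], [6, 5, 4, 3, 2, 0, 3, 5, 4,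 6, 5, 3], [6, 5, 4, 3, 2, 0, 3, 5, 4, 6, 5, 3], [6, 5, 4, 3, 2, 0, 3, 5, 4, 6, 5], [6, 5, 4, 3, 2, 0, 3, 5, 4, 6, 5], [6, 5, 4, 3, 2, 0, 3, 4, 6, 5], [6, 5, 4, 3, 2, 0, 3, 4, 6, 5, 3, 2, 4, 3], [6, 5, 4, 3, 2, 0, 3, 4, 6, 5, 3, 2, 4, 3], [6, 5, 4, 3, 2, 0, 3, 4, 6, 5, 2, 4, 3], [6, 5, 4, 3, 2, 0, 3, 4, 6, 5, 2, 4, 3], [6, 5, 4, 3, 2, 0, 3, 4, 6, 5, 2, 3], [6, 5, 4, 3, 2, 0, 3, 4, 6, 5, 2, 3], [6, 5, 4, 3, 2, 0, 3, 4, 6, 5, 4, 3], [6, 5, 4, 3, 2, 0, 3, 4, 6, 5, 4, 3], [6, 5, 4, 3, 2, 0, 3, 4, 6, 5, 3], [6, 5, 4, 3, 2, 0, 3, 4, 6, 5, 3], [6, 5, 4, 3, 2, 0, 3, 4, 6, 5], [6, 5, 4, 3, 2, 0, 3, 4, 6, 5], [6, 5, 4, 3, 2, 0, 3, 4, 5], [6,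 5, 4, 3, 2, 0, 3, 4, 5, 3, 2, 4, 3], [6, 5, 4, 3, 2, 0, 3, 4, 5, 3, 2, 4, 3], [6, 5, 4, 3, 2, 0, 3, 4, 5, 2, 4, 3], [6, 5, 4, 3, 2, 0, 3, 4, 5, 2, 4, 3], [6, 5, 4, 3, 2, 0, 3, 4, 5, 2, 3], [6, 5, 4, 3, 2, 0, 3, 4, 5, 2, 3], [6, 5, 4, 3, 2, 0, 3, 4, 5, 4, 3], [6, 5, 4, 3, 2, 0, 3, 4, 5, 4, 3], [6, 5, 4, 3, 2, 0, 3, 4, 5, 3], [6, 5, 4, 3, 2, 0, 3, 4, 5, 3], [6, 5, 4, 3, 2, 0, 3, 4, 5], [6, 5, 4, 3, 2, 0, 3, 4, 5], [6, 5, 4, 3, 2, 0, 5, 4, 6, 5], [6, 5, 4, 3, 2, 0, 5, 4, 6, 5, 3, 2, 4, 3], [6, 5, 4, 3, 2, 0, 5, 4, 6, 5, 3, 2, 4, 3], [6, 5, 4, 3, 2, 0, 5, 4, 6, 5, 2, 4, 3], [6, 5, 4, 3, 2, 0, 5, 4, 6, 5, 2, 4, 3], [6, 5, 4, 3, 2, 0,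 5, 4, 6, 5, 2, 3], [6, 5, 4, 3, 2, 0, 5, 4, 6, 5, 2, 3], [6, 5, 4, 3, 2, 0, 5, 4, 6, 5, 4, 3], [6, 5, 4, 3, 2, 0, 5, 4, 6, 5, 4, 3], [6, 5, 4, 3, 2, 0, 5, 4, 6, 5, 3], [6, 5, 4, 3, 2, 0, 5, 4, 6, 5, 3], [6, 5, 4, 3, 2, 0, 5, 4, 6, 5], [6, 5, 4, 3, 2, 0, 5, 4, 6, 5], [6, 5, 4, 3, 2, 0, 4, 6, 5], [6, 5, 4, 3, 2, 0, 4, 6, 5, 3, 2, 4, 3], [6, 5, 4, 3, 2, 0, 4, 6, 5, 3, 2, 4, 3], [6, 5, 4, 3, 2, 0, 4, 6, 5, 2, 4, 3], [6, 5, 4, 3, 2, 0, 4, 6, 5, 2, 4, 3], [6, 5, 4, 3, 2, 0, 4, 6, 5, 2, 3], [6, 5, 4, 3, 2, 0, 4, 6, 5, 2, 3], [6, 5, 4, 3, 2, 0, 4, 6, 5, 4, 3], [6, 5, 4, 3, 2, 0, 4, 6, 5, 4, 3], [6, 5, 4, 3, 2, 0, 4, 6, 5, 3], [6, 5, 4, 3,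 2, 0, 4, 6, 5, 3], [6, 5, 4, 3, 2, 0, 4, 6, 5], [6, 5, 4, 3, 2, 0, 4, 6, 5], [6, 5, 4, 3, 2, 0, 4, 5], [6, 5, 4, 3, 2, 0, 4, 5, 3, 2, 4, 3], [6, 5, 4, 3, 2, 0, 4, 5, 3, 2, 4, 3], [6, 5, 4, 3, 2, 0, 4, 5, 2, 4, 3], [6, 5, 4, 3, 2, 0, 4, 5, 2, 4, 3], [6, 5, 4, 3, 2, 0, 4, 5, 2, 3], [6, 5, 4, 3, 2, 0, 4, 5, 2, 3], [6, 5, 4, 3, 2, 0, 4, 5, 4, 3], [6, 5, 4, 3, 2, 0, 4, 5, 4, 3], [6, 5, 4, 3, 2, 0, 4, 5, 3], [6, 5, 4, 3, 2, 0, 4, 5, 3], [6, 5, 4, 3, 2, 0, 4, 5], [6, 5, 4, 3, 2, 0, 4, 5], [6, 5, 4, 3, 2, 0, 6, 5], [6, 5, 4, 3, 2, 0, 6, 5, 3, 2, 4, 3], [6, 5, 4, 3, 2, 0, 6, 5, 3, 2, 4, 3], [6, 5, 4, 3, 2, 0, 6, 5, 2, 4, 3], [6, 5, 4, 3,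 2, 0, 6, 5, 2, 4, 3], [6, 5, 4, 3, 2, 0, 6, 5, 2, 3], [6, 5, 4, 3, 2, 0, 6, 5, 2, 3], [6, 5, 4, 3, 2, 0, 6, 5, 4, 3], [6, 5, 4, 3, 2, 0, 6, 5, 4, 3], [6, 5, 4, 3, 2, 0, 6, 5, 3], [6, 5, 4, 3, 2, 0, 6, 5, 3], [6, 5, 4, 3, 2, 0, 6, 5], [6, 5, 4, 3, 2, 0, 6, 5], [6, 5, 4, 3, 2, 0, 5], [6, 5, 4, 3, 2, 0, 5, 3, 2, 4, 3], [6, 5, 4, 3, 2, 0, 5, 3, 2, 4, 3], [6, 5, 4, 3, 2, 0, 5, 2, 4, 3], [6, 5, 4, 3, 2, 0, 5, 2, 4, 3], [6, 5, 4, 3, 2, 0, 5, 2, 3], [6, 5, 4, 3, 2, 0, 5, 2, 3], [6, 5, 4, 3, 2, 0, 5, 4, 3], [6, 5, 4, 3, 2, 0, 5, 4, 3], [6, 5, 4, 3, 2, 0, 5, 3], [6, 5, 4, 3, 2, 0, 5, 3], [6, 5, 4, 3, 2, 0, 5], [6, 5, 4, 3, 2, 0, 5], [6, 5,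 4, 3, 2, 0], [6, 5, 4, 3, 2, 0, 3, 2, 4, 3], [6, 5, 4, 3, 2, 0, 3, 2, 4, 3], [6, 5, 4, 3, 2, 0, 2, 4, 3], [6, 5, 4, 3, 2, 0, 2, 4, 3], [6, 5, 4, 3, 2, 0, 2, 3], [6, 5, 4, 3, 2, 0, 2, 3], [6, 5, 4, 3, 2, 0, 4, 3], [6, 5, 4, 3, 2, 0, 4, 3], [6, 5, 4, 3, 2, 0, 3], [6, 5, 4, 3, 2, 0, 3], [6, 5, 4, 3, 2, 0], [6, 5, 4, 3, 2, 0]],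
  [[6, 5, 4, 3, 2, 0, 1, 3, 4, 5], [6, 5, 4, 3, 2, 0, 1, 3, 4, 5], [6, 5, 4, 3, 2, 0, 1, 3, 4, 5, 3, 4, 1, 3, 5, 6, 4, 5, 0, 2, 3, 1, 4, 3, 2, 0], [1, 3, 2, 4, 3, 1, 6, 5, 4, 3, 2, 0, 4, 3, 5, 4, 6, 5, 4, 3, 3, 1, 4, 3, 5, 6, 4, 5, 3, 4, 2, 3, 0, 2, 3, 4, 5, 1, 3, 4, 2, 3, 1, 0, 2, 3, 4, 5, 8, 0, 2, 3, 4, 1, 3, 2, 0, 3, 2, 4, 3, 5, 4, 6, 5, 5, 6, 4, 5, 0, 2, 3, 1, 4, 3, 2, 0], [6, 5, 4, 3, 2, 0, 1, 3, 4, 5, 4, 1, 3, 5, 6, 4, 5, 0, 2, 3, 1, 4, 3, 2, 0], [1, 3, 2, 4, 3, 1, 6, 5, 4, 3, 2, 0, 3, 5, 4, 6, 5, 4, 3, 3, 1, 4, 3, 5, 6, 4, 5, 3, 4, 2, 3, 0, 2, 3, 4, 5, 1, 3, 4, 2, 3, 1, 0, 2, 3, 4, 5, 8, 0, 2, 3, 4, 1, 3, 2, 0, 3, 2, 4, 3,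 5, 4, 6, 5, 5, 6, 4, 5, 0, 2, 3, 1, 4, 3, 2, 0], [6, 5, 4, 3, 2, 0, 1, 3, 4, 5, 1, 3, 5, 6, 4, 5, 0, 2, 3, 1, 4, 3, 2, 0], [1, 3, 2, 4, 3, 1, 6, 5, 4, 3, 2, 0, 5, 4, 6, 5, 4, 3, 3, 1, 4, 3, 5, 6, 4, 5, 3, 4, 2, 3, 0, 2, 3, 4, 5, 1, 3, 4, 2, 3, 1, 0, 2, 3, 4, 5, 8, 0, 2, 3, 4, 1, 3, 2, 0, 3, 2, 4, 3, 5, 4, 6, 5, 5, 6, 4, 5, 0, 2, 3, 1, 4, 3, 2, 0], [6, 5, 4, 3, 2, 0, 1, 3, 4, 5, 4, 3, 5, 6, 4, 5, 0, 2, 3, 1, 4, 3, 2, 0], [1, 3, 2, 4, 3, 1, 6, 5, 4, 3, 2, 0, 5, 4, 6, 5, 4, 3, 3, 1, 4, 3, 5, 6, 4, 5, 3, 4, 2, 3, 0, 2, 3, 4, 5, 1, 3, 4, 2, 3, 1, 0, 2, 3, 4, 5, 8, 0, 2, 3, 4, 1, 3, 2, 0, 3, 2, 4, 3, 5, 4, 6, 5, 5, 6, 4, 5, 0, 2, 3, 1,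 4, 3, 2, 0], [6, 5, 4, 3, 2, 0, 1, 3, 4, 5, 3, 5, 6, 4, 5, 0, 2, 3, 1, 4, 3, 2, 0], [1, 3, 2, 4, 3, 1, 6, 5, 4, 3, 2, 0, 3, 5, 4, 6, 5, 4, 3, 3, 1, 4, 3, 5, 6, 4, 5, 3, 4, 2, 3, 0, 2, 3, 4, 5, 1, 3, 4, 2, 3, 1, 0, 2, 3, 4, 5, 8, 0, 2, 3, 4, 1, 3, 2, 0, 3, 2, 4, 3, 5, 4, 6, 5, 5, 6, 4, 5, 0, 2, 3, 1, 4, 3, 2, 0], [6, 5, 4, 3, 2, 0, 1, 3, 4, 5, 5, 6, 4, 5, 0, 2, 3, 1, 4, 3, 2, 0], [1, 3, 2, 4, 3, 1, 6, 5, 4, 3, 2, 0, 4, 3, 5, 4, 6, 5, 4, 3, 3, 1, 4, 3, 5, 6, 4, 5, 3, 4, 2, 3, 0, 2, 3, 4, 5, 1, 3, 4, 2, 3, 1, 0, 2, 3, 4, 5, 8, 0, 2, 3, 4, 1, 3, 2, 0, 3, 2, 4, 3, 5, 4, 6, 5, 5, 6, 4, 5, 0, 2, 3, 1, 4, 3, 2, 0], [6, 5, 4, 3, 2, 0, 1,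 3, 4, 5, 3, 4, 1, 3], [6, 5, 4, 3, 2, 0, 1, 3, 4, 5, 3, 4, 1, 3, 5, 6, 4, 5, 0, 2, 3, 1, 4, 3, 2, 0], [1, 3, 2, 4, 3, 1, 6, 5, 4, 3, 2, 0, 4, 3, 5, 4, 6, 5, 4, 3, 3, 1, 4, 3, 5, 6, 4, 5, 3, 4, 2, 3, 0, 2, 3, 4, 5, 1, 3, 4, 2, 3, 1, 0, 2, 3, 4, 5, 8, 0, 2, 3, 4, 1, 3, 2, 0, 3, 2, 4, 3, 5, 4, 6, 5, 5, 6, 4, 5, 0, 2, 3, 1, 4, 3, 2, 0], [1, 3, 2, 4, 3, 1, 6, 5, 4, 3, 2, 0, 4, 3, 5, 4, 6, 5, 4, 3, 3, 1, 4, 3, 5, 6, 4, 5, 3, 4, 2, 3, 0, 2, 3, 4, 5, 1, 3, 4, 2, 3, 1, 0, 2, 3, 4, 5, 8, 3, 2, 0, 1, 3, 2, 5, 4, 3, 1, 6, 5, 4, 3, 2, 0, 3, 2, 1, 3, 5, 4, 6, 5], [1, 3, 2, 4, 3, 1, 6, 5, 4, 3, 2, 0, 4, 3, 5, 4, 6, 5, 4, 3, 3, 1, 4, 3, 5, 6, 4,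 5, 3, 4, 2, 3, 0, 2, 3, 4, 5, 1, 3, 4, 2, 3, 1, 0, 2, 3, 4, 5, 8, 0, 2, 3, 4, 1, 3, 2, 0, 3, 2, 4, 3, 5, 4, 6, 5, 5, 6, 4, 5, 0, 2, 3, 1, 4, 3, 2, 0], [6, 5, 4, 3, 2, 0, 1, 3, 4, 5, 4, 1, 3], [6, 5, 4, 3, 2, 0, 1, 3, 4, 5, 4, 1, 3, 5, 6, 4, 5, 0, 2, 3, 1, 4, 3, 2, 0], [1, 3, 2, 4, 3, 1, 6, 5, 4, 3, 2, 0, 3, 5, 4, 6, 5, 4, 3, 3, 1, 4, 3, 5, 6, 4, 5, 3, 4, 2, 3, 0, 2, 3, 4, 5, 1, 3, 4, 2, 3, 1, 0, 2, 3, 4, 5, 8, 0, 2, 3, 4, 1, 3, 2, 0, 3, 2, 4, 3, 5, 4, 6, 5, 5, 6, 4, 5, 0, 2, 3, 1, 4, 3, 2, 0], [1, 3, 2, 4, 3, 1, 6, 5, 4, 3, 2, 0, 3, 5, 4, 6, 5, 4, 3, 3, 1, 4, 3, 5, 6, 4, 5, 3, 4, 2, 3, 0, 2, 3, 4, 5, 1, 3, 4, 2, 3, 1, 0, 2, 3, 4,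 5, 8, 3, 2, 0, 1, 3, 2, 5, 4, 3, 1, 6, 5, 4, 3, 2, 0, 3, 2, 1, 3, 5, 4, 6, 5], [1, 3, 2, 4, 3, 1, 6, 5, 4, 3, 2, 0, 3, 5, 4, 6, 5, 4, 3, 3, 1, 4, 3, 5, 6, 4, 5, 3, 4, 2, 3, 0, 2, 3, 4, 5, 1, 3, 4, 2, 3, 1, 0, 2, 3, 4, 5, 8, 0, 2, 3, 4, 1, 3, 2, 0, 3, 2, 4, 3, 5, 4, 6, 5, 5, 6, 4, 5, 0, 2, 3, 1, 4, 3, 2, 0], [6, 5, 4, 3, 2, 0, 1, 3, 4, 5, 1, 3], [6, 5, 4, 3, 2, 0, 1, 3, 4, 5, 1, 3, 5, 6, 4, 5, 0, 2, 3, 1, 4, 3, 2, 0], [1, 3, 2, 4, 3, 1, 6, 5, 4, 3, 2, 0, 5, 4, 6, 5, 4, 3, 3, 1, 4, 3, 5, 6, 4, 5, 3, 4, 2, 3, 0, 2, 3, 4, 5, 1, 3, 4, 2, 3, 1, 0, 2, 3, 4, 5, 8, 0, 2, 3, 4, 1, 3, 2, 0, 3, 2, 4, 3, 5, 4, 6, 5, 5, 6, 4, 5, 0, 2, 3, 1, 4,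 3, 2, 0], [1, 3, 2, 4, 3, 1, 6, 5, 4, 3, 2, 0, 5, 4, 6, 5, 4, 3, 3, 1, 4, 3, 5, 6, 4, 5, 3, 4, 2, 3, 0, 2, 3, 4, 5, 1, 3, 4, 2, 3, 1, 0, 2, 3, 4, 5, 8, 3, 2, 0, 1, 3, 2, 5, 4, 3, 1, 6, 5, 4, 3, 2, 0, 3, 2, 1, 3, 5, 4, 6, 5], [1, 3, 2, 4, 3, 1, 6, 5, 4, 3, 2, 0, 5, 4, 6, 5, 4, 3, 3, 1, 4, 3, 5, 6, 4, 5, 3, 4, 2, 3, 0, 2, 3, 4, 5, 1, 3, 4, 2, 3, 1, 0, 2, 3, 4, 5, 8, 0, 2, 3, 4, 1, 3, 2, 0, 3, 2, 4, 3, 5, 4, 6, 5, 5, 6, 4, 5, 0, 2, 3, 1, 4, 3, 2, 0], [6, 5, 4, 3, 2, 0, 1, 3, 4, 5, 4, 3], [6, 5, 4, 3, 2, 0, 1, 3, 4, 5, 4, 3, 5, 6, 4, 5, 0, 2, 3, 1, 4, 3, 2, 0], [1, 3, 2, 4, 3, 1, 6, 5, 4, 3, 2, 0, 5, 4, 6, 5, 4, 3, 3, 1, 4, 3, 5, 6,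 4, 5, 3, 4, 2, 3, 0, 2, 3, 4, 5, 1, 3, 4, 2, 3, 1, 0, 2, 3, 4, 5, 8, 0, 2, 3, 4, 1, 3, 2, 0, 3, 2, 4, 3, 5, 4, 6, 5, 5, 6, 4, 5, 0, 2, 3, 1, 4, 3, 2, 0], [1, 3, 2, 4, 3, 1, 6, 5, 4, 3, 2, 0, 5, 4, 6, 5, 4, 3, 3, 1, 4, 3, 5, 6, 4, 5, 3, 4, 2, 3, 0, 2, 3, 4, 5, 1, 3, 4, 2, 3, 1, 0, 2, 3, 4, 5, 8, 3, 2, 0, 1, 3, 2, 5, 4, 3, 1, 6, 5, 4, 3, 2, 0, 3, 2, 1, 3, 5, 4, 6, 5], [1, 3, 2, 4, 3, 1, 6, 5, 4, 3, 2, 0, 5, 4, 6, 5, 4, 3, 3, 1, 4, 3, 5, 6, 4, 5, 3, 4, 2, 3, 0, 2, 3, 4, 5, 1, 3, 4, 2, 3, 1, 0, 2, 3, 4, 5, 8, 0, 2, 3, 4, 1, 3, 2, 0, 3, 2, 4, 3, 5, 4, 6, 5, 5, 6, 4, 5, 0, 2, 3, 1, 4, 3, 2, 0], [6, 5, 4, 3, 2, 0, 1, 3, 4, 5, 3], [6, 5,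 4, 3, 2, 0, 1, 3, 4, 5, 3, 5, 6, 4, 5, 0, 2, 3, 1, 4, 3, 2, 0], [1, 3, 2, 4, 3, 1, 6, 5, 4, 3, 2, 0, 3, 5, 4, 6, 5, 4, 3, 3, 1, 4, 3, 5, 6, 4, 5, 3, 4, 2, 3, 0, 2, 3, 4, 5, 1, 3, 4, 2, 3, 1, 0, 2, 3, 4, 5, 8, 0, 2, 3, 4, 1, 3, 2, 0, 3, 2, 4, 3, 5, 4, 6, 5, 5, 6, 4, 5, 0, 2, 3, 1, 4, 3, 2, 0], [1, 3, 2, 4, 3, 1, 6, 5, 4, 3, 2, 0, 3, 5, 4, 6, 5, 4, 3, 3, 1, 4, 3, 5, 6, 4, 5, 3, 4, 2, 3, 0, 2, 3, 4, 5, 1, 3, 4, 2, 3, 1, 0, 2, 3, 4, 5, 8, 3, 2, 0, 1, 3, 2, 5, 4, 3, 1, 6, 5, 4, 3, 2, 0, 3, 2, 1, 3, 5, 4, 6, 5], [1, 3, 2, 4, 3, 1, 6, 5, 4, 3, 2, 0, 3, 5, 4, 6, 5, 4, 3, 3, 1, 4, 3, 5, 6, 4, 5, 3, 4, 2, 3, 0, 2, 3, 4, 5, 1, 3, 4, 2, 3, 1,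 0, 2, 3, 4, 5, 8, 0, 2, 3, 4, 1, 3, 2, 0, 3, 2, 4, 3, 5, 4, 6, 5, 5, 6, 4, 5, 0, 2, 3, 1, 4, 3, 2, 0], [6, 5, 4, 3, 2, 0, 1, 3, 4, 5], [6, 5, 4, 3, 2, 0, 1, 3, 4, 5, 5, 6, 4, 5, 0, 2, 3, 1, 4, 3, 2, 0], [1, 3, 2, 4, 3, 1, 6, 5, 4, 3, 2, 0, 4, 3, 5, 4, 6, 5, 4, 3, 3, 1, 4, 3, 5, 6, 4, 5, 3, 4, 2, 3, 0, 2, 3, 4, 5, 1, 3, 4, 2, 3, 1, 0, 2, 3, 4, 5, 8, 0, 2, 3, 4, 1, 3, 2, 0, 3, 2, 4, 3, 5, 4, 6, 5, 5, 6, 4, 5, 0, 2, 3, 1, 4, 3, 2, 0], [1, 3, 2, 4, 3, 1, 6, 5, 4, 3, 2, 0, 4, 3, 5, 4, 6, 5, 4, 3, 3, 1, 4, 3, 5, 6, 4, 5, 3, 4, 2, 3, 0, 2, 3, 4, 5, 1, 3, 4, 2, 3, 1, 0, 2, 3, 4, 5, 8, 3, 2, 0, 1, 3, 2, 5, 4, 3, 1, 6, 5, 4, 3, 2, 0, 3, 2,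 1, 3, 5, 4, 6, 5], [1, 3, 2, 4, 3, 1, 6, 5, 4, 3, 2, 0, 4, 3, 5, 4, 6, 5, 4, 3, 3, 1, 4, 3, 5, 6, 4, 5, 3, 4, 2, 3, 0, 2, 3, 4, 5, 1, 3, 4, 2, 3, 1, 0, 2, 3, 4, 5, 8, 0, 2, 3, 4, 1, 3, 2, 0, 3, 2, 4, 3, 5, 4, 6, 5, 5, 6, 4, 5, 0, 2, 3, 1, 4, 3, 2, 0]],
  [[6, 5, 4, 3, 2, 0, 1, 3, 4, 5, 2, 3], [6, 5, 4, 3, 2, 0, 1, 3, 4, 5, 2, 3, 5, 6, 4, 5, 0, 2, 3, 1, 4, 3, 2, 0], [0, 1, 3, 2, 5, 4, 3, 1, 6, 5, 4, 3, 2, 0, 5, 4, 6, 5, 2, 4, 1, 3, 3, 1, 4, 3, 5, 6, 4, 5, 3, 4, 2, 3, 0, 2, 3, 4, 5, 1, 3, 4, 2, 3, 1, 0, 2, 3, 4, 5, 8, 0, 2, 3, 4, 1, 3, 2, 0, 3, 2, 4, 3, 5, 4, 6, 5, 5, 6, 4, 5, 0, 2, 3, 1, 4, 3, 2, 0], [0, 1, 3, 2, 5, 4, 3, 1, 6, 5,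 4, 3, 2, 0, 5, 4, 6, 5, 2, 4, 1, 3, 3, 1, 4, 3, 5, 6, 4, 5, 3, 4, 2, 3, 0, 2, 3, 4, 5, 1, 3, 4, 2, 3, 1, 0, 2, 3, 4, 5, 8, 0, 3, 4, 1, 3, 2, 5, 4, 3, 1, 6, 5, 4, 3, 2, 0, 3, 4, 1, 3, 5, 4, 6, 5, 3, 4, 1, 3, 3, 1, 4, 3, 5, 6, 4, 5, 3, 4, 2, 3, 0, 2, 3, 4, 5, 1, 3, 4, 2, 3, 1, 0, 2, 3, 4, 5, 8, 0, 2, 5, 4, 3, 1, 6, 5, 4, 3, 2, 0, 5, 4, 3, 2, 1, 3, 4, 5, 3, 2, 4, 3, 5, 6, 4, 5, 0, 2, 3, 1, 4, 3, 2, 0], [0, 1, 3, 2, 5, 4, 3, 1, 6, 5, 4, 3, 2, 0, 5, 4, 6, 5, 4, 3, 3, 1, 4, 3, 5, 6, 4, 5, 3, 4, 2, 3, 0, 2, 3, 4, 5, 1, 3, 4, 2, 3, 1, 0, 2, 3, 4, 5, 8, 0, 2, 5, 4, 3, 1, 6, 5, 4, 3, 2, 0, 5, 4, 3, 2, 1, 3, 4, 5, 3, 2, 4, 3, 5, 6, 4, 5, 0,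 2, 3, 1, 4, 3, 2, 0], [0, 1, 3, 2, 5, 4, 3, 1, 6, 5, 4, 3, 2, 0, 5, 4, 6, 5, 2, 4, 1, 3, 3, 1, 4, 3, 5, 6, 4, 5, 3, 4, 2, 3, 0, 2, 3, 4, 5, 1, 3, 4, 2, 3, 1, 0, 2, 3, 4, 5, 8, 0, 3, 4, 1, 3, 2, 5, 4, 3, 1, 6, 5, 4, 3, 2, 0, 3, 4, 1, 3, 5, 4, 6, 5, 3, 4, 1, 3, 3, 1, 4, 3, 5, 6, 4, 5, 3, 4, 2, 3, 0, 2, 3, 4, 5, 1, 3, 4, 2, 3, 1, 0, 2, 3, 4, 5, 8, 0, 2, 5, 4, 3, 1, 6, 5, 4, 3, 2, 0, 5, 4, 3, 2, 1, 3, 4, 5, 3, 2, 4, 3, 5, 6, 4, 5, 0, 2, 3, 1, 4, 3, 2, 0], [6, 5, 4, 3, 2, 0, 1, 3, 4, 5, 2, 3, 0, 2, 3, 1, 4, 3, 2, 0], [0, 1, 3, 2, 5, 4, 3, 1, 6, 5, 4, 3, 2, 0, 5, 4, 6, 5, 2, 4, 1, 3, 3, 1, 4, 3, 5, 6, 4, 5, 3, 4, 2, 3, 0, 2, 3, 4, 5, 1,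 3, 4, 2, 3, 1, 0, 2, 3, 4, 5, 8, 0, 2, 3, 4, 1, 3, 2, 0, 3, 2, 4, 3, 5, 4, 6, 5, 5, 6, 4, 5, 0, 2, 3, 1, 4, 3, 2, 0], [0, 1, 3, 2, 5, 4, 3, 1, 6, 5, 4, 3, 2, 0, 5, 4, 6, 5, 2, 4, 1, 3, 3, 1, 4, 3, 5, 6, 4, 5, 3, 4, 2, 3, 0, 2, 3, 4, 5, 1, 3, 4, 2, 3, 1, 0, 2, 3, 4, 5, 8, 0, 3, 4, 1, 3, 2, 5, 4, 3, 1, 6, 5, 4, 3, 2, 0, 3, 4, 1, 3, 5, 4, 6, 5, 3, 4, 1, 3, 3, 1, 4, 3, 5, 6, 4, 5, 3, 4, 2, 3, 0, 2, 3, 4, 5, 1, 3, 4, 2, 3, 1, 0, 2, 3, 4, 5, 8, 0, 2, 5, 4, 3, 1, 6, 5, 4, 3, 2, 0, 5, 4, 3, 2, 1, 3, 4, 5, 3, 2, 4, 3, 5, 6, 4, 5, 0, 2, 3, 1, 4, 3, 2, 0], [1, 3, 2, 4, 3, 1, 6, 5, 4, 3, 2, 0, 5, 4, 6, 5, 4, 3, 3, 1, 4, 3, 5, 6, 4, 5, 3, 4,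 2, 3, 0, 2, 3, 4, 5, 1, 3, 4, 2, 3, 1, 0, 2, 3, 4, 5, 8, 0, 2, 5, 4, 3, 1, 6, 5, 4, 3, 2, 0, 5, 4, 3, 2, 1, 3, 4, 5, 3, 2, 4, 3, 5, 6, 4, 5, 0, 2, 3, 1, 4, 3, 2, 0], [0, 1, 3, 2, 5, 4, 3, 1, 6, 5, 4, 3, 2, 0, 5, 4, 6, 5, 2, 4, 1, 3, 3, 1, 4, 3, 5, 6, 4, 5, 3, 4, 2, 3, 0, 2, 3, 4, 5, 1, 3, 4, 2, 3, 1, 0, 2, 3, 4, 5, 8, 0, 3, 4, 1, 3, 2, 5, 4, 3, 1, 6, 5, 4, 3, 2, 0, 3, 4, 1, 3, 5, 4, 6, 5, 3, 4, 1, 3, 3, 1, 4, 3, 5, 6, 4, 5, 3, 4, 2, 3, 0, 2, 3, 4, 5, 1, 3, 4, 2, 3, 1, 0, 2, 3, 4, 5, 8, 0, 2, 5, 4, 3, 1, 6, 5, 4, 3, 2, 0, 5, 4, 3, 2, 1, 3, 4, 5, 3, 2, 4, 3, 5, 6, 4, 5, 0, 2, 3, 1, 4, 3, 2, 0], [6, 5, 4, 3, 2, 0, 1, 3, 4, 5, 2, 3],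 [0, 1, 3, 2, 5, 4, 3, 1, 6, 5, 4, 3, 2, 0, 5, 4, 6, 5, 4, 3, 3, 1, 4, 3, 5, 6, 4, 5, 3, 4, 2, 3, 0, 2, 3, 4, 5, 1, 3, 4, 2, 3, 1, 0, 2, 3, 4, 5, 8, 0, 2, 5, 4, 3, 1, 6, 5, 4, 3, 2, 0, 5, 4, 3, 2, 1, 3, 4, 5, 3, 2, 4, 3, 5, 6, 4, 5, 0, 2, 3, 1, 4, 3, 2, 0], [0, 1, 3, 2, 5, 4, 3, 1, 6, 5, 4, 3, 2, 0, 5, 4, 6, 5, 2, 4, 1, 3, 3, 1, 4, 3, 5, 6, 4, 5, 3, 4, 2, 3, 0, 2, 3, 4, 5, 1, 3, 4, 2, 3, 1, 0, 2, 3, 4, 5, 8, 0, 3, 4, 1, 3, 2, 5, 4, 3, 1, 6, 5, 4, 3, 2, 0, 3, 4, 1, 3, 5, 4, 6, 5, 3, 4, 1, 3, 3, 1, 4, 3, 5, 6, 4, 5, 3, 4, 2, 3, 0, 2, 3, 4, 5, 1, 3, 4, 2, 3, 1, 0, 2, 3, 4, 5, 8, 0, 2, 5, 4, 3, 1, 6, 5, 4, 3, 2, 0, 5, 4, 3, 2, 1, 3, 4,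 5, 3, 2, 4, 3, 5, 6, 4, 5, 0, 2, 3, 1, 4, 3, 2, 0], [1, 3, 2, 4, 3, 1, 6, 5, 4, 3, 2, 0, 5, 4, 6, 5, 4, 3, 3, 1, 4, 3, 5, 6, 4, 5, 3, 4, 2, 3, 0, 2, 3, 4, 5, 1, 3, 4, 2, 3, 1, 0, 2, 3, 4, 5, 8, 0, 2, 5, 4, 3, 1, 6, 5, 4, 3, 2, 0, 5, 4, 3, 2, 1, 3, 4, 5, 3, 2, 4, 3, 5, 6, 4, 5, 0, 2, 3, 1, 4, 3, 2, 0], [0, 1, 3, 2, 5, 4, 3, 1, 6, 5, 4, 3, 2, 0, 5, 4, 6, 5, 2, 4, 1, 3, 3, 1, 4, 3, 5, 6, 4, 5, 3, 4, 2, 3, 0, 2, 3, 4, 5, 1, 3, 4, 2, 3, 1, 0, 2, 3, 4, 5, 8, 0, 3, 4, 1, 3, 2, 5, 4, 3, 1, 6, 5, 4, 3, 2, 0, 3, 4, 1, 3, 5, 4, 6, 5, 3, 4, 1, 3, 3, 1, 4, 3, 5, 6, 4, 5, 3, 4, 2, 3, 0, 2, 3, 4, 5, 1, 3, 4, 2, 3, 1, 0, 2, 3, 4, 5, 8, 0, 2, 5,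 4, 3, 1, 6, 5, 4, 3, 2, 0, 5, 4, 3, 2, 1, 3, 4, 5, 3, 2, 4, 3, 5, 6, 4, 5, 0, 2, 3, 1, 4, 3, 2, 0]],
  [[2, 0, 4, 1, 3, 2, 5, 4, 3, 1, 6, 5, 4, 3, 2, 0, 3, 2, 1, 3, 5, 4, 6, 5, 2, 4, 1, 3, 3, 1, 4, 3, 5, 6, 4, 5, 3, 4, 2, 3, 0, 2, 3, 4, 5, 1, 3, 4, 2, 3, 1, 0, 2, 3, 4, 5, 8, 3, 2, 0, 1, 3, 2, 5, 4, 3, 1, 6, 5, 4, 3, 2, 0, 3, 2, 1, 3, 5, 4, 6, 5], [2, 0, 4, 1, 3, 2, 5, 4, 3, 1, 6, 5, 4, 3, 2, 0, 3, 2, 1, 3, 5, 4, 6, 5, 2, 4, 1, 3, 3, 1, 4, 3, 5, 6, 4, 5, 3, 4, 2, 3, 0, 2, 3, 4, 5, 1, 3, 4, 2, 3, 1, 0, 2, 3, 4, 5, 8, 3, 2, 0, 4, 3, 2, 5, 4, 3, 1, 6, 5, 4, 3, 2, 0, 3, 4, 1, 3, 5, 4, 6, 5, 3, 2, 1, 3, 0, 2, 3, 1, 4, 3, 2, 0], [2, 0,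 4, 1, 3, 2, 5, 4, 3, 1, 6, 5, 4, 3, 2, 0, 3, 2, 1, 3, 5, 4, 6, 5, 2, 4, 1, 3, 3, 1, 4, 3, 5, 6, 4, 5, 3, 4, 2, 3, 0, 2, 3, 4, 5, 1, 3, 4, 2, 3, 1, 0, 2, 3, 4, 5, 8, 3, 2, 0, 1, 3, 2, 5, 4, 3, 1, 6, 5, 4, 3, 2, 0, 3, 2, 1, 3, 5, 4, 6, 5, 3, 2, 4, 3, 3, 1, 4, 3, 5, 6, 4, 5, 3, 4, 2, 3, 0, 2, 3, 4, 5, 1, 3, 4, 2, 3, 1, 0, 2, 3, 4, 5, 8, 0, 2, 3, 4, 1, 3, 2, 0, 3, 2, 4, 3, 5, 4, 6, 5, 5, 6, 4, 5, 0, 2, 3, 1, 4, 3, 2, 0], [2, 0, 4, 1, 3, 2, 5, 4, 3, 1, 6, 5, 4, 3, 2, 0, 3, 2, 1, 3, 5, 4, 6, 5, 2, 4, 1, 3, 3, 1, 4, 3, 5, 6, 4, 5, 3, 4, 2, 3, 0, 2, 3, 4, 5, 1, 3, 4, 2, 3, 1, 0, 2, 3, 4, 5, 8, 3, 2, 0, 1, 3, 2, 5, 4, 3, 1, 6, 5, 4, 3, 2,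 0, 3, 2, 1, 3, 5, 4, 6, 5, 3, 2, 4, 3, 3, 1, 4, 3, 5, 6, 4, 5, 3, 4, 2, 3, 0, 2, 3, 4, 5, 1, 3, 4, 2, 3, 1, 0, 2, 3, 4, 5, 8, 3, 2, 0, 1, 3, 2, 5, 4, 3, 1, 6, 5, 4, 3, 2, 0, 3, 4, 1, 3, 5, 4, 6, 5, 3, 4, 1, 3, 3, 1, 4, 3, 5, 6, 4, 5, 3, 4, 2, 3, 0, 2, 3, 4, 5, 1, 3, 4, 2, 3, 1, 0, 2, 3, 4, 5, 8, 0, 2, 5, 4, 3, 1, 6, 5, 4, 3, 2, 0, 5, 4, 3, 2, 1, 3, 4, 5, 3, 2, 4, 3, 5, 6, 4, 5, 0, 2, 3, 1, 4, 3, 2, 0], [2, 0, 4, 1, 3, 2, 5, 4, 3, 1, 6, 5, 4, 3, 2, 0, 3, 2, 1, 3, 5, 4, 6, 5, 2, 4, 1, 3, 3, 1, 4, 3, 5, 6, 4, 5, 3, 4, 2, 3, 0, 2, 3, 4, 5, 1, 3, 4, 2, 3, 1, 0, 2, 3, 4, 5, 8, 3, 2, 0, 1, 3, 2, 5, 4, 3, 1, 6, 5, 4, 3, 2, 0, 3, 4, 1, 3,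 5, 4, 6, 5, 3, 4, 1, 3, 3, 1, 4, 3, 5, 6, 4, 5, 3, 4, 2, 3, 0, 2, 3, 4, 5, 1, 3, 4, 2, 3, 1, 0, 2, 3, 4, 5, 8, 0, 2, 5, 4, 3, 1, 6, 5, 4, 3, 2, 0, 5, 4, 3, 2, 1, 3, 4, 5, 3, 2, 4, 3, 5, 6, 4, 5, 0, 2, 3, 1, 4, 3, 2, 0], [2, 0, 4, 1, 3, 2, 5, 4, 3, 1, 6, 5, 4, 3, 2, 0, 3, 2, 1, 3, 5, 4, 6, 5, 2, 4, 1, 3, 3, 1, 4, 3, 5, 6, 4, 5, 3, 4, 2, 3, 0, 2, 3, 4, 5, 1, 3, 4, 2, 3, 1, 0, 2, 3, 4, 5, 8, 3, 2, 0, 1, 3, 2, 5, 4, 3, 1, 6, 5, 4, 3, 2, 0, 3, 2, 1, 3, 5, 4, 6, 5, 3, 2, 4, 3, 3, 1, 4, 3, 5, 6, 4, 5, 3, 4, 2, 3, 0, 2, 3, 4, 5, 1, 3, 4, 2, 3, 1, 0, 2, 3, 4, 5, 8, 3, 2, 0, 1, 3, 2, 5, 4, 3, 1, 6, 5, 4, 3, 2, 0, 3, 4, 1, 3, 5, 4, 6, 5, 3,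 4, 1, 3, 3, 1, 4, 3, 5, 6, 4, 5, 3, 4, 2, 3, 0, 2, 3, 4, 5, 1, 3, 4, 2, 3, 1, 0, 2, 3, 4, 5, 8, 0, 2, 5, 4, 3, 1, 6, 5, 4, 3, 2, 0, 5, 4, 3, 2, 1, 3, 4, 5, 3, 2, 4, 3, 5, 6, 4, 5, 0, 2, 3, 1, 4, 3, 2, 0], [2, 0, 4, 1, 3, 2, 5, 4, 3, 1, 6, 5, 4, 3, 2, 0, 3, 2, 1, 3, 5, 4, 6, 5, 2, 4, 1, 3, 3, 1, 4, 3, 5, 6, 4, 5, 3, 4, 2, 3, 0, 2, 3, 4, 5, 1, 3, 4, 2, 3, 1, 0, 2, 3, 4, 5, 8, 0, 2, 5, 4, 3, 1, 6, 5, 4, 3, 2, 0, 5, 4, 3, 2, 1, 3, 4, 5, 3, 2, 4, 3, 5, 6, 4, 5, 0, 2, 3, 1, 4, 3, 2, 0], [2, 0, 4, 1, 3, 2, 5, 4, 3, 1, 6, 5, 4, 3, 2, 0, 3, 2, 1, 3, 5, 4, 6, 5, 2, 4, 1, 3, 3, 1, 4, 3, 5, 6, 4, 5, 3, 4, 2, 3, 0, 2, 3, 4, 5, 1, 3, 4, 2, 3,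 1, 0, 2, 3, 4, 5, 8, 3, 2, 0, 1, 3, 2, 5, 4, 3, 1, 6, 5, 4, 3, 2, 0, 3, 2, 1, 3, 5, 4, 6, 5, 3, 2, 4, 3, 3, 1, 4, 3, 5, 6, 4, 5, 3, 4, 2, 3, 0, 2, 3, 4, 5, 1, 3, 4, 2, 3, 1, 0, 2, 3, 4, 5, 8, 0, 2, 3, 4, 1, 3, 2, 0, 3, 2, 4, 3, 5, 4, 6, 5, 5, 6, 4, 5, 0, 2, 3, 1, 4, 3, 2, 0], [2, 0, 4, 1, 3, 2, 5, 4, 3, 1, 6, 5, 4, 3, 2, 0, 3, 2, 1, 3, 5, 4, 6, 5, 2, 4, 1, 3, 3, 1, 4, 3, 5, 6, 4, 5, 3, 4, 2, 3, 0, 2, 3, 4, 5, 1, 3, 4, 2, 3, 1, 0, 2, 3, 4, 5, 8, 3, 2, 0, 1, 3, 2, 5, 4, 3, 1, 6, 5, 4, 3, 2, 0, 3, 2, 1, 3, 5, 4, 6, 5, 3, 2, 4, 3, 3, 1, 4, 3, 5, 6, 4, 5, 3, 4, 2, 3, 0, 2, 3, 4, 5, 1, 3, 4, 2, 3, 1, 0, 2, 3, 4, 5, 8, 3, 2, 0, 1, 3, 2,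 5, 4, 3, 1, 6, 5, 4, 3, 2, 0, 3, 4, 1, 3, 5, 4, 6, 5, 3, 4, 1, 3, 3, 1, 4, 3, 5, 6, 4, 5, 3, 4, 2, 3, 0, 2, 3, 4, 5, 1, 3, 4, 2, 3, 1, 0, 2, 3, 4, 5, 8, 0, 2, 5, 4, 3, 1, 6, 5, 4, 3, 2, 0, 5, 4, 3, 2, 1, 3, 4, 5, 3, 2, 4, 3, 5, 6, 4, 5, 0, 2, 3, 1, 4, 3, 2, 0], [2, 0, 4, 1, 3, 2, 5, 4, 3, 1, 6, 5, 4, 3, 2, 0, 3, 2, 1, 3, 5, 4, 6, 5, 2, 4, 1, 3, 3, 1, 4, 3, 5, 6, 4, 5, 3, 4, 2, 3, 0, 2, 3, 4, 5, 1, 3, 4, 2, 3, 1, 0, 2, 3, 4, 5, 8, 0, 3, 4, 1, 3, 2, 5, 4, 3, 1, 6, 5, 4, 3, 2, 0, 3, 4, 1, 3, 5, 4, 6, 5, 3, 4, 1, 3, 3, 1, 4, 3, 5, 6, 4, 5, 3, 4, 2, 3, 0, 2, 3, 4, 5, 1, 3, 4, 2, 3, 1, 0, 2, 3, 4, 5, 8, 0, 2, 5, 4, 3, 1, 6, 5, 4, 3, 2,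 0, 5, 4, 3, 2, 1, 3, 4, 5, 3, 2, 4, 3, 5, 6, 4, 5, 0, 2, 3, 1, 4, 3, 2, 0], [2, 0, 4, 1, 3, 2, 5, 4, 3, 1, 6, 5, 4, 3, 2, 0, 3, 2, 1, 3, 5, 4, 6, 5, 2, 4, 1, 3, 3, 1, 4, 3, 5, 6, 4, 5, 3, 4, 2, 3, 0, 2, 3, 4, 5, 1, 3, 4, 2, 3, 1, 0, 2, 3, 4, 5, 8, 3, 2, 0, 1, 3, 2, 5, 4, 3, 1, 6, 5, 4, 3, 2, 0, 3, 2, 1, 3, 5, 4, 6, 5, 3, 2, 4, 3, 3, 1, 4, 3, 5, 6, 4, 5, 3, 4, 2, 3, 0, 2, 3, 4, 5, 1, 3, 4, 2, 3, 1, 0, 2, 3, 4, 5, 8, 3, 2, 0, 1, 3, 2, 5, 4, 3, 1, 6, 5, 4, 3, 2, 0, 3, 4, 1, 3, 5, 4, 6, 5, 3, 4, 1, 3, 3, 1, 4, 3, 5, 6, 4, 5, 3, 4, 2, 3, 0, 2, 3, 4, 5, 1, 3, 4, 2, 3, 1, 0, 2, 3, 4, 5, 8, 0, 2, 5, 4, 3, 1, 6, 5, 4, 3, 2, 0, 5, 4, 3, 2,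 1, 3, 4, 5, 3, 2, 4, 3, 5, 6, 4, 5, 0, 2, 3, 1, 4, 3, 2, 0], [2, 0, 4, 1, 3, 2, 5, 4, 3, 1, 6, 5, 4, 3, 2, 0, 3, 2, 1, 3, 5, 4, 6, 5, 2, 4, 1, 3, 3, 1, 4, 3, 5, 6, 4, 5, 3, 4, 2, 3, 0, 2, 3, 4, 5, 1, 3, 4, 2, 3, 1, 0, 2, 3, 4, 5, 8, 0, 2, 3, 4, 1, 3, 2, 0, 3, 2, 4, 3, 5, 4, 6, 5, 5, 6, 4, 5, 0, 2, 3, 1, 4, 3, 2, 0], [2, 0, 4, 1, 3, 2, 5, 4, 3, 1, 6, 5, 4, 3, 2, 0, 3, 2, 1, 3, 5, 4, 6, 5, 2, 4, 1, 3, 3, 1, 4, 3, 5, 6, 4, 5, 3, 4, 2, 3, 0, 2, 3, 4, 5, 1, 3, 4, 2, 3, 1, 0, 2, 3, 4, 5, 8, 3, 2, 0, 1, 3, 2, 5, 4, 3, 1, 6, 5, 4, 3, 2, 0, 3, 4, 1, 3, 5, 4, 6, 5, 3, 4, 1, 3, 3, 1, 4, 3, 5, 6, 4, 5, 3, 4, 2, 3, 0, 2, 3, 4, 5, 1, 3, 4, 2,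 3, 1, 0, 2, 3, 4, 5, 8, 0, 2, 5, 4, 3, 1, 6, 5, 4, 3, 2, 0, 5, 4, 3, 2, 1, 3, 4, 5, 3, 2, 4, 3, 5, 6, 4, 5, 0, 2, 3, 1, 4, 3, 2, 0], [2, 0, 4, 1, 3, 2, 5, 4, 3, 1, 6, 5, 4, 3, 2, 0, 3, 2, 1, 3, 5, 4, 6, 5, 2, 4, 1, 3, 3, 1, 4, 3, 5, 6, 4, 5, 3, 4, 2, 3, 0, 2, 3, 4, 5, 1, 3, 4, 2, 3, 1, 0, 2, 3, 4, 5, 8, 3, 2, 0, 1, 3, 2, 5, 4, 3, 1, 6, 5, 4, 3, 2, 0, 3, 2, 1, 3, 5, 4, 6, 5, 3, 2, 4, 3, 3, 1, 4, 3, 5, 6, 4, 5, 3, 4, 2, 3, 0, 2, 3, 4, 5, 1, 3, 4, 2, 3, 1, 0, 2, 3, 4, 5, 8, 3, 2, 0, 1, 3, 2, 5, 4, 3, 1, 6, 5, 4, 3, 2, 0, 3, 4, 1, 3, 5, 4, 6, 5, 3, 4, 1, 3, 3, 1, 4, 3, 5, 6, 4, 5, 3, 4, 2, 3, 0, 2, 3, 4, 5, 1, 3, 4, 2, 3, 1, 0, 2, 3,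 4, 5, 8, 0, 2, 5, 4, 3, 1, 6, 5, 4, 3, 2, 0, 5, 4, 3, 2, 1, 3, 4, 5, 3, 2, 4, 3, 5, 6, 4, 5, 0, 2, 3, 1, 4, 3, 2, 0], [2, 0, 4, 1, 3, 2, 5, 4, 3, 1, 6, 5, 4, 3, 2, 0, 3, 2, 1, 3, 5, 4, 6, 5, 2, 4, 1, 3, 3, 1, 4, 3, 5, 6, 4, 5, 3, 4, 2, 3, 0, 2, 3, 4, 5, 1, 3, 4, 2, 3, 1, 0, 2, 3, 4, 5, 8, 0, 3, 4, 1, 3, 2, 5, 4, 3, 1, 6, 5, 4, 3, 2, 0, 3, 4, 1, 3, 5, 4, 6, 5, 3, 4, 1, 3, 3, 1, 4, 3, 5, 6, 4, 5, 3, 4, 2, 3, 0, 2, 3, 4, 5, 1, 3, 4, 2, 3, 1, 0, 2, 3, 4, 5, 8, 0, 2, 5, 4, 3, 1, 6, 5, 4, 3, 2, 0, 5, 4, 3, 2, 1, 3, 4, 5, 3, 2, 4, 3, 5, 6, 4, 5, 0, 2, 3, 1, 4, 3, 2, 0], [2, 0, 4, 1, 3, 2, 5, 4, 3, 1, 6, 5, 4, 3, 2, 0, 3, 2, 1, 3, 5, 4,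 6, 5, 2, 4, 1, 3, 3, 1, 4, 3, 5, 6, 4, 5, 3, 4, 2, 3, 0, 2, 3, 4, 5, 1, 3, 4, 2, 3, 1, 0, 2, 3, 4, 5, 8, 3, 2, 0, 1, 3, 2, 5, 4, 3, 1, 6, 5, 4, 3, 2, 0, 3, 2, 1, 3, 5, 4, 6, 5, 3, 2, 4, 3, 3, 1, 4, 3, 5, 6, 4, 5, 3, 4, 2, 3, 0, 2, 3, 4, 5, 1, 3, 4, 2, 3, 1, 0, 2, 3, 4, 5, 8, 3, 2, 0, 1, 3, 2, 5, 4, 3, 1, 6, 5, 4, 3, 2, 0, 3, 4, 1, 3, 5, 4, 6, 5, 3, 4, 1, 3, 3, 1, 4, 3, 5, 6, 4, 5, 3, 4, 2, 3, 0, 2, 3, 4, 5, 1, 3, 4, 2, 3, 1, 0, 2, 3, 4, 5, 8, 0, 2, 5, 4, 3, 1, 6, 5, 4, 3, 2, 0, 5, 4, 3, 2, 1, 3, 4, 5, 3, 2, 4, 3, 5, 6, 4, 5, 0, 2, 3, 1, 4, 3, 2, 0]]]) goodE8 swap_ok rad6 rfl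
    (by simp [L6, set6_0, set6_1, set6_2, set6_3, set6_4]) (red6 F)

theorem red8 : Reduces F goodE8 P8 L8 :=
  Z.reduces_heis goodE8 swap_ok rad7 (fun S hS => by
    simp only [L7, List.mem_cons, List.not_mem_nil, or_false] at hS
    rcases hS with rfl | rfl | rfl | rfl | rfl | rfl 
    exacts [⟨_, _, set7_0⟩, ⟨_, _, set7_1⟩, ⟨_, _, set7_2⟩, ⟨_, _, set7_3⟩, ⟨_, _, set7_4⟩, ⟨_, _, set7_5⟩]) (red7 F)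

theorem cover : coverOk chevE8 P8 = true := by decide +kernel

/-- Elements squaring to one are conjugate to products of the list. -/
theorem exists_conj {g : GL chevE8.Idx F} (hg : g ∈ chevE8.group F) (h2 : g * g = 1) :
    ∃ h ∈ chevE8.group F, ∃ S ∈ L8, h * g * h⁻¹ = prodX goodE8 S :=
  exists_conj_prodX goodE8 cover (red8 F) hg h2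

end Cfsg.Agent.H65.Inv.E8
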