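import Cfsg.Agent.H65.Inv.E8.Base

/-!
Checks of the Heisenberg level of type E8 (generated data).
-/

set_option autoImplicit false
set_option maxRecDepth 100000

open Cfsg.Lie Cfsg.Agent.H46

namespace Cfsg.Agent.H65.Inv.E8

theorem rad7 : Z.radOk goodE8 P7 Q7 = true := by decide +kernel

end Cfsg.Agent.H65.Inv.E8
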